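import Cfsg.Agent.Lib.Partition.Socle
import Cfsg.Agent.Lib.Transfer.SignThompson
import Cfsg.Agent.Lib.BSW.Main
import Cfsg.Agent.Lib.BSW.Zass
import Cfsg.Agent.Lib.CNSimple.TI
import Cfsg.Agent.S1230
import Cfsg.Agent.S0205

/-!
# Simple groups with a non-trivial partition
-/

set_option autoImplicit false
set_option linter.style.haveILetI false
set_option linter.unusedSectionVars false

namespace Cfsg.Agent.Partition

open Cfsg.Agent.Invol
open Cfsg.Agent.CNSimple (Ct mem_Ct self_mem_Ct TIHyp)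

universe u

variable {G : Type u} [Group G] [Finite G]

/-- The centraliser has exponent two. -/
def Sq (t : G) : Prop := ∀ c ∈ Ct t, c * c = 1

theorem Sq.conj {t : G} (h : Sq t) (g : G) : Sq (g * t * g⁻¹) := fun c hc => by
  rw [mem_Ct] at hc
  have hmem : g⁻¹ * c * g ∈ Ct t := mem_Ct.2 (by
    calc g⁻¹ * c * g * t = g⁻¹ * (c * (g * t * g⁻¹)) * g := by group
      _ = t * (g⁻¹ * c * g) := by rw [hc]; group)
  have := h _ hmem
  rw [show g⁻¹ * c * g * (g⁻¹ * c * g) = g⁻¹ * (c * c) * g by group] at this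
  calc c * c = g * (g⁻¹ * (c * c) * g) * g⁻¹ := by group
    _ = 1 := by rw [this]; group

theorem exists_conj_mem_sylow {u : G} (hu : orderOf u = 2) (S : Sylow 2 G) :
    ∃ g : G, g⁻¹ * u * g ∈ S := by
  haveI : Fact (Nat.Prime 2) := ⟨Nat.prime_two⟩
  obtain ⟨T, hT⟩ := (IsPGroup.of_card (n := 1) (by rw [Nat.card_zpowers, hu, pow_one]) :
    IsPGroup 2 (Subgroup.zpowers u)).exists_le_sylow
  obtain ⟨g, hg⟩ := MulAction.exists_smul_eq G S T
  have hu' := hT (Subgroup.mem_zpowers u)
  rw [← hg, Sylow.coe_subgroup_smul, Subgroup.mem_pointwise_smul_iff_inv_smul_mem] at hu'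
  simp only [MulAut.smul_def, ← map_inv, MulAut.conj_apply, inv_inv] at hu'
  exact ⟨g, hu'⟩

/-- An involution is conjugate into a subgroup of index two of a Sylow subgroup. -/
theorem exists_conj_mem [IsSimpleGroup G] (hna : ∃ a b : G, a * b ≠ b * a) (S : Sylow 2 G)
    {M : Subgroup G} (hM : M ≤ S) (hcard : 2 * Nat.card M = Nat.card S) {y : G}
    (hy : orderOf y = 2) : ∃ g : G, g⁻¹ * y * g ∈ M := by
  haveI : Fact (Nat.Prime 2) := ⟨Nat.prime_two⟩
  by_contra hcon
  push Not at hcon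
  have hodd : Odd (S : Subgroup G).index :=
    Nat.odd_iff.2 (Nat.two_dvd_ne_zero.1 S.not_dvd_index)
  have hidx : M.index = 2 ^ (0 + 1) * (S : Subgroup G).index := by
    refine Nat.eq_of_mul_eq_mul_left (Nat.card_pos (α := M)) ?_
    rw [M.card_mul_index, ← (S : Subgroup G).card_mul_index, ← hcard, zero_add, pow_one]
    ring
  obtain ⟨χ, hχ⟩ := SignThompson.exists_sign_hom M y 0 _ (by rw [hy, zero_add, pow_one])
    (fun g => by rw [pow_zero, pow_one]; exact hcon g) hodd hidx
  rcases Subgroup.Normal.eq_bot_or_eq_top (χ.normal_ker) with e | e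
  · obtain ⟨a, b, hab⟩ := hna
    exact hab ((χ.ker_eq_bot_iff.1 e) (by rw [map_mul, map_mul, mul_comm]))
  · have : y ∈ χ.ker := e ▸ Subgroup.mem_top y
    rw [MonoidHom.mem_ker, hχ] at this
    exact absurd this (by decide)

theorem exists_central_invol [IsSimpleGroup G] (hna : ∃ a b : G, a * b ≠ b * a) (S : Sylow 2 G) :
    ∃ z : G, z ∈ S ∧ orderOf z = 2 ∧ (S : Subgroup G) ≤ Ct z := by
  haveI : Fact (Nat.Prime 2) := ⟨Nat.prime_two⟩
  have heven : 2 ∣ Nat.card G := by
    by_contra h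
    haveI := Cfsg.Agent.S0205.result (G := G) (Nat.odd_iff.2 (Nat.two_dvd_ne_zero.1 h))
    obtain ⟨a, b, hab⟩ := hna
    exact hab (IsSimpleGroup.comm_iff_isSolvable.2 inferInstance a b)
  haveI : Nontrivial (S : Subgroup G) :=
    (Subgroup.nontrivial_iff_ne_bot _).2 (S.ne_bot_of_dvd_card heven)
  haveI := S.isPGroup'.center_nontrivial
  obtain ⟨k, hk⟩ := IsPGroup.iff_card.1 (S.isPGroup'.to_subgroup (Subgroup.center (S : Subgroup G)))
  have h2 : 2 ∣ Nat.card (Subgroup.center (S : Subgroup G)) := by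
    rw [hk]
    refine dvd_pow_self 2 (fun e => ?_)
    have := Finite.one_lt_card (α := Subgroup.center (S : Subgroup G))
    rw [hk, e, pow_zero] at this
    omega
  obtain ⟨⟨z, hz⟩, hzo⟩ := exists_prime_orderOf_dvd_card' (G := Subgroup.center (S : Subgroup G)) 2 h2
  rw [Subgroup.orderOf_mk] at hzo
  refine ⟨(z : G), z.2, by rw [Subgroup.orderOf_coe, hzo], fun a ha => mem_Ct.2 ?_⟩
  exact congrArg Subtype.val (Subgroup.mem_center_iff.1 hz ⟨a, ha⟩)

theorem exists_sylow_pair {t y : G} (ht : orderOf t = 2) (hy : orderOf y = 2) (hc : t * y = y * t) :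
    ∃ S : Sylow 2 G, t ∈ S ∧ y ∈ S := by
  haveI : Fact (Nat.Prime 2) := ⟨Nat.prime_two⟩
  have key : ∀ x ∈ Subgroup.closure ({t, y} : Set G), x * x = 1 ∧ x * t = t * x ∧ x * y = y * x := by
    intro x hx
    induction hx using Subgroup.closure_induction with
    | mem x hx =>
      rcases hx with rfl | rfl
      · exact ⟨mul_self ht, rfl, hc⟩
      · exact ⟨mul_self hy, hc.symm, rfl⟩
    | one => simp
    | mul a b ha hb iha ihb =>
      obtain ⟨a2, at', ay⟩ := iha
      obtain ⟨b2, bt, bY⟩ := ihb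
      have hab : a * b = b * a := by
        have hsub : Subgroup.closure ({t, y} : Set G) ≤ Subgroup.centralizer ({a} : Set G) :=
          (Subgroup.closure_le _).2 fun w hw => by
            rcases hw with rfl | rfl
            · exact Subgroup.mem_centralizer_singleton_iff.2 at'.symm
            · exact Subgroup.mem_centralizer_singleton_iff.2 ay.symm
        exact (Subgroup.mem_centralizer_singleton_iff.1 (hsub hb)).symm
      refine ⟨?_, ?_, ?_⟩
      · rw [show a * b * (a * b) = a * (b * a) * b by group, ← hab,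
          show a * (a * b) * b = (a * a) * (b * b) by group, a2, b2, one_mul]
      · rw [mul_assoc, bt, ← mul_assoc, at', mul_assoc]
      · rw [mul_assoc, bY, ← mul_assoc, ay, mul_assoc]
    | inv a _ iha =>
      obtain ⟨a2, at', ay⟩ := iha
      rw [inv_eq_of_mul_eq_one_right a2]
      exact ⟨a2, at', ay⟩
  have hp : IsPGroup 2 (Subgroup.closure ({t, y} : Set G)) := fun x => ⟨1, Subtype.ext (by
    rw [pow_one, sq]; exact (key x x.2).1)⟩
  obtain ⟨S, hS⟩ := hp.exists_le_sylow
  exact ⟨S, hS (Subgroup.subset_closure (by simp)), hS (Subgroup.subset_closure (by simp))⟩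

namespace Part

variable (P : Part G)

/-- An involution whose centraliser leaves its member. -/
theorem outside {t y : G} (ht : orderOf t = 2) (hy : y ∈ Ct t) (hyX : y ∉ P.comp t) :
    orderOf y = 2 ∧ y ∈ Subgroup.normalizer (P.comp t : Set G) := by
  have hc : Commute t y := (mem_Ct.1 hy).symm
  have hy1 : y ≠ 1 := fun e => hyX (e ▸ one_mem _)
  exact ⟨((P.prime_of_commute (ne_one ht) hy1 hc hyX).1).symm.trans ht,
    P.mem_normalizer_of_commute (ne_one ht) (P.mem t) (ne_one ht) (mem_Ct.1 hy)⟩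

theorem comp_le_Ct {t y : G} (ht : orderOf t = 2) (hy : y ∈ Ct t) (hyX : y ∉ P.comp t) :
    P.comp t ≤ Ct t := fun a ha => by
  obtain ⟨hy2, hyN⟩ := P.outside ht hy hyX
  exact mem_Ct.2 (P.comm_of_invol (ne_one ht) hyN hyX (mul_self hy2) ha (P.mem t))

theorem mul_mem_of_outside {t y y' : G} (ht : orderOf t = 2) (hX : ∃ x ∈ P.comp t, x * x ≠ 1)
    (hy : y ∈ Ct t) (hyX : y ∉ P.comp t) (hy' : y' ∈ Ct t) (hyX' : y' ∉ P.comp t) :
    y * y' ∈ P.comp t := by
  by_contra hn
  obtain ⟨x, hx, hx2⟩ := hX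
  obtain ⟨o, hN⟩ := P.outside ht hy hyX
  obtain ⟨o', hN'⟩ := P.outside ht hy' hyX'
  obtain ⟨o'', hN''⟩ := P.outside ht (mul_mem hy hy') hn
  have h1 := P.inv_of_invol (ne_one ht) hN'' hn (mul_self o'') hx
  rw [show y * y' * x * (y * y')⁻¹ = y * (y' * x * y'⁻¹) * y⁻¹ by group,
    P.inv_of_invol (ne_one ht) hN' hyX' (mul_self o') hx,
    P.inv_of_invol (ne_one ht) hN hyX (mul_self o) (inv_mem hx), inv_inv] at h1
  exact hx2 (eq_inv_iff_mul_eq_one.1 h1)

/-- An involution with non-elementary centraliser leaving its member. -/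
structure DType (t : G) : Prop where
  ht : orderOf t = 2
  out : ∃ y ∈ Ct t, y ∉ P.comp t
  big : ∃ x ∈ P.comp t, x * x ≠ 1

theorem sq_of_out {t : G} (ht : orderOf t = 2) (hout : ∃ y ∈ Ct t, y ∉ P.comp t)
    (hn : ¬ P.DType t) : Sq t := fun c hc => by
  by_cases hcX : c ∈ P.comp t
  · by_contra h
    exact hn ⟨ht, hout, c, hcX, h⟩
  · exact mul_self (P.outside ht hc hcX).1

namespace DType

variable {P} {t : G} (h : P.DType t)
include h

theorem le : P.comp t ≤ Ct t := by
  obtain ⟨y, hy, hyX⟩ := h.out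
  exact P.comp_le_Ct h.ht hy hyX

theorem not_sq : ¬ Sq t := fun hs => by
  obtain ⟨x, hx, hx2⟩ := h.big
  exact hx2 (hs x (h.le hx))

/-- All involutions of the member have the same centraliser. -/
theorem same {u : G} (hu : orderOf u = 2) (huX : u ∈ P.comp t) : P.DType u ∧ Ct u ≤ Ct t := by
  obtain ⟨y, hy, hyX⟩ := h.out
  obtain ⟨o, hN⟩ := P.outside h.ht hy hyX
  have hcu : P.comp u = P.comp t := P.eq (ne_one h.ht) (ne_one hu) huX
  have hyu : y ∈ Ct u := by
    have := P.inv_of_invol (ne_one h.ht) hN hyX (mul_self o) huX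
    rw [inv_self hu, mul_inv_eq_iff_eq_mul] at this
    exact mem_Ct.2 this
  have hD : P.DType u := ⟨hu, ⟨y, hyu, hcu ▸ hyX⟩, hcu ▸ h.big⟩
  refine ⟨hD, fun a ha => ?_⟩
  by_cases haX : a ∈ P.comp u
  · exact h.le (hcu ▸ haX)
  · have := P.mul_mem_of_outside hu hD.big ha haX hyu (hcu ▸ hyX)
    rw [hcu] at this
    have := mul_mem (h.le this) (inv_mem hy)
    simpa [mul_assoc] using this

theorem card_inf {S : Sylow 2 G} (hS : (S : Subgroup G) ≤ Ct t) {y : G} (hy : y ∈ S)
    (hyX : y ∉ P.comp t) : 2 * Nat.card ↥((S : Subgroup G) ⊓ P.comp t) = Nat.card S := by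
  have hle : (S : Subgroup G) ⊓ P.comp t ≤ S := inf_le_left
  have hi : (((S : Subgroup G) ⊓ P.comp t).subgroupOf S).index = 2 := by
    refine Subgroup.index_eq_two_iff.2 ⟨⟨y, hy⟩, fun b => ?_⟩
    simp only [Subgroup.mem_subgroupOf, Subgroup.coe_mul, Subgroup.mem_inf]
    by_cases hb : (b : G) ∈ P.comp t
    · refine Or.inr ⟨⟨b.2, hb⟩, fun e => hyX ?_⟩
      simpa using mul_mem (inv_mem hb) e.2
    · refine Or.inl ⟨⟨mul_mem b.2 hy, ?_⟩, fun e => hb e.2⟩
      exact P.mul_mem_of_outside h.ht h.big (hS b.2) hb (hS hy) hyX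
  have := (((S : Subgroup G) ⊓ P.comp t).subgroupOf S).card_mul_index
  rw [hi, Nat.card_congr (Subgroup.subgroupOfEquivOfLe hle).toEquiv] at this
  omega

variable [IsSimpleGroup G] (hna : ∃ a b : G, a * b ≠ b * a)
include hna

/-- A member of this type has only one involution. -/
theorem unique {u : G} (hu : orderOf u = 2) (huX : u ∈ P.comp t) : u = t := by
  by_contra hne
  have hsqout : ∀ v ∈ Ct t, v ∉ P.comp t → Sq v := by
    intro v hv hvX
    obtain ⟨o, hN⟩ := P.outside h.ht hv hvX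
    have htv : t ∈ Ct v := mem_Ct.2 (mem_Ct.1 hv).symm
    have htV : t ∉ P.comp v := fun e => hvX (P.mem_of_mem (ne_one o) (ne_one h.ht) e)
    refine P.sq_of_out o ⟨t, htv, htV⟩ fun hD => ?_
    have huv : u ∈ Ct v := by
      have := P.inv_of_invol (ne_one h.ht) hN hvX (mul_self o) huX
      rw [inv_self hu, mul_inv_eq_iff_eq_mul] at this
      exact mem_Ct.2 this.symm
    have huV : u ∉ P.comp v := fun e => hvX (by
      have := P.eq_of_mem_mem (ne_one o) (ne_one h.ht) (ne_one hu) e huX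
      exact this ▸ P.mem v)
    have h1 := P.mul_mem_of_outside o hD.big htv htV huv huV
    have htu : t * u ≠ 1 := fun e => hne ((inv_eq_of_mul_eq_one_right e).symm.trans (inv_self h.ht))
    have := P.eq_of_mem_mem (ne_one o) (ne_one h.ht) htu h1 (mul_mem (P.mem t) huX)
    exact hvX (this ▸ P.mem v)
  obtain ⟨y, hy, hyX⟩ := h.out
  obtain ⟨o, -⟩ := P.outside h.ht hy hyX
  obtain ⟨S, htS, hyS⟩ := exists_sylow_pair h.ht o (mem_Ct.1 hy).symm
  obtain ⟨z, hzS, hz, hSz⟩ := exists_central_invol hna S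
  have hzt : z ∈ Ct t := mem_Ct.2 (mem_Ct.1 (hSz htS)).symm
  have hS : (S : Subgroup G) ≤ Ct t := by
    by_cases hzX : z ∈ P.comp t
    · exact hSz.trans (h.same hz hzX).2
    · intro a ha
      have hs := hsqout z hzt hzX
      have h1 := hs _ (mul_mem (hSz ha) (hSz htS))
      have h2 := hs a (hSz ha)
      refine mem_Ct.2 ?_
      calc a * t = (a * t)⁻¹ := (inv_eq_of_mul_eq_one_right h1).symm
        _ = t * a := by rw [mul_inv_rev, inv_eq_of_mul_eq_one_right h2, inv_self h.ht]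
  obtain ⟨g, hg⟩ := exists_conj_mem hna S inf_le_left (h.card_inf hS hyS hyX) o
  obtain ⟨-, hgX⟩ := Subgroup.mem_inf.1 hg
  have ho : orderOf (g⁻¹ * y * g) = 2 := by
    rw [show g⁻¹ * y * g = g⁻¹ * y * g⁻¹⁻¹ by group, order_conj, o]
  refine (h.same ho hgX).1.not_sq ?_
  have := (hsqout y hy hyX).conj g⁻¹
  rwa [inv_inv] at this

end DType

/-- One can find such an involution with a Sylow subgroup in its centraliser. -/
theorem exists_dtype_sylow [IsSimpleGroup G] (hna : ∃ a b : G, a * b ≠ b * a) {t : G} (h : P.DType t) :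
    ∃ (t : G) (S : Sylow 2 G), P.DType t ∧ (S : Subgroup G) ≤ Ct t ∧ ∃ y ∈ S, y ∉ P.comp t := by
  obtain ⟨y, hy, hyX⟩ := h.out
  obtain ⟨o, -⟩ := P.outside h.ht hy hyX
  obtain ⟨S, htS, hyS⟩ := exists_sylow_pair h.ht o (mem_Ct.1 hy).symm
  obtain ⟨z, hzS, hz, hSz⟩ := exists_central_invol hna S
  by_cases hzt' : z = t
  · subst hzt'
    exact ⟨z, S, h, hSz, y, hyS, hyX⟩
  have hzt : z ∈ Ct t := mem_Ct.2 (mem_Ct.1 (hSz htS)).symm
  have hzX : z ∉ P.comp t := fun e => hzt' (h.unique hna hz e)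
  have htz : t ∈ Ct z := hSz htS
  have htZ : t ∉ P.comp z := fun e => hzX (P.mem_of_mem (ne_one hz) (ne_one h.ht) e)
  by_cases hD : P.DType z
  · exact ⟨z, S, hD, hSz, t, htS, htZ⟩
  have hs := P.sq_of_out hz ⟨t, htz, htZ⟩ hD
  refine ⟨t, S, h, fun a ha => mem_Ct.2 ?_, y, hyS, hyX⟩
  calc a * t = (a * t)⁻¹ := (inv_eq_of_mul_eq_one_right (hs _ (mul_mem (hSz ha) htz))).symm
    _ = t * a := by rw [mul_inv_rev, inv_eq_of_mul_eq_one_right (hs a (hSz ha)), inv_self h.ht]

/-- The Brauer–Suzuki–Wall case. -/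
theorem psl_of_dtype [IsSimpleGroup G] (hna : ∃ a b : G, a * b ≠ b * a) {t₀ : G} (h₀ : P.DType t₀) :
    ∃ (F : Type) (_ : Field F) (_ : Fintype F),
      Nonempty (G ≃* Matrix.ProjectiveSpecialLinearGroup (Fin 2) F) := by
  obtain ⟨t, S, h, hS, y, hyS, hyX⟩ := P.exists_dtype_sylow hna h₀
  obtain ⟨o, hN⟩ := P.outside h.ht (hS hyS) hyX
  have hin : ∀ u : G, orderOf u = 2 → u ∈ P.comp t → u = t := fun u hu => h.unique hna hu
  have hclass : ∀ u : G, orderOf u = 2 → IsConj t u := by
    intro u hu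
    obtain ⟨g, hg⟩ := exists_conj_mem hna S inf_le_left (h.card_inf hS hyS hyX) hu
    obtain ⟨-, hgX⟩ := Subgroup.mem_inf.1 hg
    have ho : orderOf (g⁻¹ * u * g) = 2 := by
      rw [show g⁻¹ * u * g = g⁻¹ * u * g⁻¹⁻¹ by group, order_conj, hu]
    exact isConj_iff.2 ⟨g, by rw [← hin _ ho hgX]; group⟩
  have hH : BSW.Hyp t (P.comp t) y :=
    { ht := h.ht
      comm := fun a ha b hb => P.comm_of_invol (ne_one h.ht) hN hyX (mul_self o) ha hb
      le := h.le
      tK := P.mem t
      hs := o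
      sH := hS hyS
      sK := hyX
      H_eq := by
        refine le_antisymm (sup_le h.le (Subgroup.zpowers_le.2 (hS hyS))) fun a ha => ?_
        by_cases haX : a ∈ P.comp t
        · exact Subgroup.mem_sup_left haX
        · have h1 := P.mul_mem_of_outside h.ht h.big ha haX (hS hyS) hyX
          rw [show a = a * y * y⁻¹ by group]
          exact mul_mem (Subgroup.mem_sup_left h1)
            (inv_mem (Subgroup.mem_sup_right (Subgroup.mem_zpowers y)))
      CK := by
        refine le_antisymm (fun x hx => ?_) (Subgroup.zpowers_le.2 (Subgroup.mem_inf.2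
          ⟨P.mem t, BSW.mem_Cz.2 (mem_Ct.1 (hS hyS)).symm⟩))
        obtain ⟨hxX, hxy⟩ := Subgroup.mem_inf.1 hx
        have h1 := P.inv_of_invol (ne_one h.ht) hN hyX (mul_self o) hxX
        rw [← BSW.mem_Cz.1 hxy, mul_inv_cancel_right] at h1
        by_cases hx1 : x = 1
        · exact hx1 ▸ one_mem _
        · exact hin x (order_two_of_sq (eq_inv_iff_mul_eq_one.1 h1) hx1) hxX ▸ Subgroup.mem_zpowers t
      inv := fun x hx => P.inv_of_invol (ne_one h.ht) hN hyX (mul_self o) hx
      TI := fun g hg => by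
        rw [eq_bot_iff]
        intro x hx
        rw [Subgroup.mem_bot]
        by_contra hx1
        obtain ⟨hx2, hx3⟩ := Subgroup.mem_inf.1 hx
        rw [mem_map_conj] at hx3
        have hg' : g ∈ Subgroup.normalizer (P.comp t : Set G) :=
          P.mem_normalizer_of_meet (ne_one h.ht) hx3
            (fun e => hx1 (by simpa [mul_assoc] using congrArg (fun w => g * w * g⁻¹) e))
            (by rwa [show g * (g⁻¹ * x * g) * g⁻¹ = x by group])
        refine hg (BSW.mem_Cz'.2 (hin _ ?_ (P.conj_mem hg' (P.mem t))))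
        rw [order_conj, h.ht]
      oneclass := fun a b ha hb => (hclass a ha).symm.trans (hclass b hb) }
  obtain ⟨a, b, hab⟩ := hna
  obtain ⟨F, i1, i2, -, e⟩ := BSW.psl_of_goal (fun hc => hab (hc.1.comm a b)) (BSW.main hH)
  exact ⟨F, i1, i2, e⟩

/-- All involutions with elementary centralisers. -/
theorem psl_of_sq [IsSimpleGroup G] (hna : ∃ a b : G, a * b ≠ b * a)
    (hall : ∀ t : G, orderOf t = 2 → Sq t) :
    ∃ (F : Type) (_ : Field F) (_ : Fintype F),
      Nonempty (G ≃* Matrix.ProjectiveSpecialLinearGroup (Fin 2) F) := by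
  haveI : Fact (Nat.Prime 2) := ⟨Nat.prime_two⟩
  obtain ⟨S⟩ : Nonempty (Sylow 2 G) := inferInstance
  obtain ⟨z, hzS, hz, hSz⟩ := exists_central_invol hna S
  have hexp : ∀ a ∈ S, a * a = 1 := fun a ha => hall z hz a (hSz ha)
  have hcent : ∀ t : G, orderOf t = 2 → IsMulCommutative (Ct t) ∧ ∀ c ∈ Ct t, c ^ 2 = 1 := by
    refine fun t ht => ⟨⟨⟨fun a b => Subtype.ext ?_⟩⟩, fun c hc => by rw [sq]; exact hall t ht c hc⟩
    have ha := hall t ht a a.2
    have hb := hall t ht b b.2
    have hab := hall t ht _ (mul_mem a.2 b.2)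
    calc (a : G) * b = ((a : G) * b)⁻¹ := (inv_eq_of_mul_eq_one_right hab).symm
      _ = b * a := by rw [mul_inv_rev, inv_eq_of_mul_eq_one_right ha, inv_eq_of_mul_eq_one_right hb]
  have hT : ElemCase S :=
    { noncyc := fun hc => by
        obtain ⟨g, hg⟩ := hc.exists_generator
        have hg2 : orderOf g ∣ 2 := orderOf_dvd_of_pow_eq_one (Subtype.ext (by
          rw [sq]; exact hexp g g.2))
        have hS : Nat.card S ≤ 2 := by
          rw [← orderOf_eq_card_of_forall_mem_zpowers hg]; exact Nat.le_of_dvd two_pos hg2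
        have h2 : 2 ≤ Nat.card S := by
          have := Nat.le_of_dvd Nat.card_pos
            (Subgroup.card_dvd_of_le (Subgroup.zpowers_le.2 hzS : Subgroup.zpowers z ≤ (S : Subgroup G)))
          rwa [Nat.card_zpowers, hz] at this
        obtain ⟨g, hg⟩ := exists_conj_mem hna S (M := ⊥) bot_le
          (by rw [Subgroup.card_bot]; omega) hz
        rw [Subgroup.mem_bot] at hg
        exact ne_one hz (by simpa [mul_assoc] using congrArg (fun w => g * w * g⁻¹) hg)
      nonnormal := fun hn => by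
        obtain ⟨a, b, hab⟩ := hna
        rcases Subgroup.Normal.eq_bot_or_eq_top hn with e | e
        · exact ne_one hz (Subgroup.mem_bot.1 (e ▸ hzS))
        · have ha : a ∈ (S : Subgroup G) := e ▸ Subgroup.mem_top a
          have hb : b ∈ (S : Subgroup G) := e ▸ Subgroup.mem_top b
          refine hab ?_
          calc a * b = (a * b)⁻¹ := (inv_eq_of_mul_eq_one_right (hexp _ (mul_mem ha hb))).symm
            _ = b * a := by
              rw [mul_inv_rev, inv_eq_of_mul_eq_one_right (hexp a ha),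
                inv_eq_of_mul_eq_one_right (hexp b hb)]
      cent := hcent }
  obtain ⟨F, i1, i2, -, e⟩ := S1230.key hT
  exact ⟨F, i1, i2, e⟩

end Part

end Cfsg.Agent.Partition
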