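import Cfsg.Agent.Lib.Partition.Fitting

/-!
# Partitions: an elementary abelian normal subgroup in no member
-/

set_option autoImplicit false
set_option linter.style.haveILetI false
set_option linter.unusedSectionVars false

namespace Cfsg.Agent.Partition

universe u

variable {G : Type u} [Group G] [Finite G]

/-- A normal elementary abelian `p`-subgroup contained in no member. -/
structure Elem (P : Part G) (N : Subgroup G) (p : ℕ) : Prop where
  prime : p.Prime
  normal : N.Normal
  comm : ∀ a ∈ N, ∀ b ∈ N, a * b = b * a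
  exp : ∀ a ∈ N, a ^ p = 1
  spread : ∀ g : G, g ≠ 1 → ¬ N ≤ P.comp g
  ne_bot : N ≠ ⊥

namespace Elem

variable {P : Part G} {N : Subgroup G} {p : ℕ} (h : Elem P N p)
include h

theorem orderOf_eq {v : G} (hv : v ∈ N) (hv1 : v ≠ 1) : orderOf v = p :=
  ((Nat.dvd_prime h.prime).1 (orderOf_dvd_of_pow_eq_one (h.exp v hv))).resolve_left
    fun e => hv1 (orderOf_eq_one_iff.1 e)

/-- A member meeting the subgroup: the `p`-th powers of its elements lie in the subgroup. -/
theorem pow_mem_of_meet {x v : G} (hv : v ∈ N) (hv1 : v ≠ 1) (hx : x ∈ P.comp v) : x ^ p ∈ N := by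
  haveI := h.normal
  obtain ⟨n, hn, hnY⟩ := SetLike.not_le_iff_exists.1 (h.spread v hv1)
  have hN : n ∈ Subgroup.normalizer (P.comp v : Set G) :=
    P.mem_normalizer_of_commute hv1 (P.mem v) hv1 (h.comm n hn v hv)
  have hcp := P.coset_pow hv1 hN hnY hx (h.exp n hn)
  rw [← QuotientGroup.eq_one_iff, QuotientGroup.mk_pow]
  have e : ((x * n : G) : G ⧸ N) = (x : G ⧸ N) := by
    rw [QuotientGroup.mk_mul, (QuotientGroup.eq_one_iff n).2 hn, mul_one]
  rw [← e, ← QuotientGroup.mk_pow, hcp, QuotientGroup.mk_one]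

theorem pow_sq_of_meet {x v : G} (hv : v ∈ N) (hv1 : v ≠ 1) (hx : x ∈ P.comp v) :
    x ^ (p * p) = 1 := by
  rw [pow_mul, h.exp _ (h.pow_mem_of_meet hv hv1 hx)]

theorem eq_one_of_meet {w v : G} (hv : v ∈ N) (hv1 : v ≠ 1) (hw : w ∈ P.comp v)
    (hco : (orderOf w).Coprime p) : w = 1 :=
  orderOf_eq_one_iff.1 (Nat.eq_one_of_dvd_coprimes (hco.mul_right hco) dvd_rfl
    (orderOf_dvd_of_pow_eq_one (h.pow_sq_of_meet hv hv1 hw)))

theorem fpf {w v : G} (hw : w ≠ 1) (hco : (orderOf w).Coprime p) (hv : v ∈ N) (hc : Commute w v) :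
    v = 1 := by
  by_contra hv1
  refine hw (h.eq_one_of_meet hv hv1 (P.mem_of_commute hv1 hc.symm fun e => ?_) hco)
  rw [← e, h.orderOf_eq hv hv1, Nat.coprime_self] at hco
  exact h.prime.ne_one hco

theorem exists_ne : ∃ v ∈ N, v ≠ 1 := by
  obtain ⟨⟨v, hv⟩, hv1⟩ := Subgroup.ne_bot_iff_exists_ne_one.1 h.ne_bot
  exact ⟨v, hv, fun e => hv1 (Subtype.ext e)⟩

theorem isPGroup : IsPGroup p N :=
  fun v => ⟨1, Subtype.ext (by simpa using h.exp _ v.2)⟩

/-- A non-trivial element commuting with a given `p`-element. -/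
theorem exists_fixed {a : G} (ha : ∃ k, orderOf a = p ^ k) : ∃ v ∈ N, v ≠ 1 ∧ Commute a v := by
  obtain ⟨k, hk⟩ := ha
  haveI := Fact.mk h.prime
  haveI := h.normal
  letI : MulAction (Subgroup.zpowers a) N :=
    MulAction.compHom N ((MulAut.conjNormal (H := N)).comp (Subgroup.zpowers a).subtype)
  have hP : IsPGroup p (Subgroup.zpowers a) :=
    IsPGroup.of_card (n := k) (by rw [Nat.card_zpowers, hk])
  have hdvd : p ∣ Nat.card N := by
    obtain ⟨v, hv, hv1⟩ := h.exists_ne
    rw [← h.orderOf_eq hv hv1]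
    exact Subgroup.orderOf_dvd_natCard N hv
  obtain ⟨v, hv, hv1⟩ := hP.exists_fixed_point_of_prime_dvd_card_of_fixed_point N hdvd
    (a := 1) (fun m => map_one (MulAut.conjNormal (H := N) (m : G)))
  refine ⟨v, v.2, fun e => hv1 (Subtype.ext e).symm, ?_⟩
  have e := congrArg Subtype.val (hv ⟨a, Subgroup.mem_zpowers a⟩)
  change ((MulAut.conjNormal (H := N) a v : N) : G) = v at e
  rw [MulAut.conjNormal_apply] at e
  exact mul_inv_eq_iff_eq_mul.1 e

theorem sep {c w : G} (hc : Commute c w) (hc1 : c ≠ 1) (hw1 : w ≠ 1) (hcp : ∃ k, orderOf c = p ^ k)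
    (hco : (orderOf w).Coprime p) : False := by
  haveI := h.normal
  obtain ⟨k, hk⟩ := hcp
  have hk0 : k ≠ 0 := fun e => hc1 (orderOf_eq_one_iff.1 (by rw [hk, e, pow_zero]))
  have hwY : w ∈ P.comp c := P.mem_of_commute hc1 hc fun e => by
    rw [← e, hk] at hco
    exact h.prime.ne_one ((Nat.coprime_self p).1 (hco.coprime_dvd_left (dvd_pow_self p hk0)))
  obtain ⟨v, hv, hv1, hcv⟩ := h.exists_fixed ⟨k, hk⟩
  have hvY : v ∈ Subgroup.normalizer (P.comp c : Set G) :=
    P.mem_normalizer_of_commute hc1 (P.mem c) hc1 hcv.symm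
  have h1 : v * w * v⁻¹ * w⁻¹ ∈ P.comp c := mul_mem (P.conj_mem hvY hwY) (inv_mem hwY)
  have h2 : v * w * v⁻¹ * w⁻¹ ∈ N := by
    rw [show v * w * v⁻¹ * w⁻¹ = v * (w * v⁻¹ * w⁻¹) by group]
    exact mul_mem hv (h.normal.conj_mem _ (inv_mem hv) w)
  by_cases he : v * w * v⁻¹ * w⁻¹ = 1
  · exact hv1 (h.fpf hw1 hco hv (mul_inv_eq_iff_eq_mul.1 (mul_inv_eq_one.1 he)).symm)
  · refine hw1 (h.eq_one_of_meet h2 he ?_ hco)
    rw [P.eq hc1 he h1]
    exact hwY

theorem centralizer_isPGroup : IsPGroup p (Subgroup.centralizer (N : Set G)) := by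
  intro c
  refine ⟨(orderOf (c : G)).factorization p, Subtype.ext ?_⟩
  push_cast
  by_contra hne
  obtain ⟨v, hv, hv1⟩ := h.exists_ne
  refine hv1 (h.fpf hne ?_ hv ?_)
  · rw [orderOf_pow_of_dvd (Nat.pos_iff_ne_zero.1 (Nat.ordProj_pos _ p)) (Nat.ordProj_dvd _ p)]
    exact (Nat.coprime_ordCompl h.prime (orderOf_pos (c : G)).ne').symm
  · exact ((show Commute ((c : G)) v from
      (Subgroup.mem_centralizer_iff.1 c.2 v hv).symm).pow_left _)

/-- A central element in the subgroup of a Sylow subgroup. -/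
theorem exists_central (S : Sylow p G) :
    ∃ z ∈ N, z ≠ 1 ∧ ∀ a ∈ (S : Subgroup G), Commute z a := by
  haveI := Fact.mk h.prime
  haveI := h.normal
  have hNS : N ≤ (S : Subgroup G) := h.isPGroup.le_sylow_of_normal S
  haveI : Group.IsNilpotent (S : Subgroup G) := S.2.isNilpotent
  have hne : N.subgroupOf (S : Subgroup G) ≠ ⊥ := fun e => h.ne_bot (by
    rw [Subgroup.subgroupOf_eq_bot] at e
    exact disjoint_self.1 (e.mono_right hNS))
  obtain ⟨⟨z, hzN, hzc⟩, hz1⟩ :=
    Subgroup.ne_bot_iff_exists_ne_one.1 (SolvStruct.inf_center_ne_bot hne)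
  exact ⟨z, hzN, fun e => hz1 (Subtype.ext (Subtype.ext e)), fun a ha =>
    (congrArg Subtype.val (Subgroup.mem_center_iff.1 hzc ⟨a, ha⟩)).symm⟩

theorem pow_p_mem {a : G} (ha : ∃ k, orderOf a = p ^ k) (hne : orderOf a ≠ p) : a ^ p ∈ N := by
  obtain ⟨k, hk⟩ := ha
  haveI := Fact.mk h.prime
  obtain ⟨S, hS⟩ := (IsPGroup.of_card (n := k) (by rw [Nat.card_zpowers, hk]) :
    IsPGroup p (Subgroup.zpowers a)).exists_le_sylow
  obtain ⟨z, hz, hz1, hzc⟩ := h.exists_central S
  exact h.pow_mem_of_meet hz hz1 (P.mem_of_commute hz1 (hzc a (hS (Subgroup.mem_zpowers a)))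
    (by rw [h.orderOf_eq hz hz1]; exact Ne.symm hne))

theorem pow_p_mem' {a : G} (ha : ∃ k, orderOf a = p ^ k) : a ^ p ∈ N := by
  by_cases he : orderOf a = p
  · rw [← he, pow_orderOf_eq_one]; exact one_mem _
  · exact h.pow_p_mem ha he

/-- When every `p`-element lies in the core: a `p`-group or a Frobenius group. -/
theorem baer_of_core (hR : ∀ a : G, (∃ k, orderOf a = p ^ k) → a ∈ Cfsg.pCore p G) : Baer G := by
  haveI := Fact.mk h.prime
  haveI : (Cfsg.pCore p G).Normal := FiniteGroup.pCore_normal p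
  have hRp : IsPGroup p (Cfsg.pCore p G) := FiniteGroup.pCore_isPGroup p
  by_cases hG : IsPGroup p G
  · obtain ⟨S⟩ : Nonempty (Sylow p G) := inferInstance
    obtain ⟨z, hz, hz1, hzc⟩ := h.exists_central S
    have htop : (S : Subgroup G) = ⊤ := S.3 (hG.to_subgroup ⊤) le_top |>.symm
    refine hughes h.prime (P.comp z) (P.ne_top z hz1) fun g hg => ?_
    by_cases hg1 : g = 1
    · rw [hg1, one_pow]
    obtain ⟨he, -⟩ := P.prime_of_commute hz1 hg1 (hzc g (htop ▸ Subgroup.mem_top g)) hg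
    rw [← h.orderOf_eq hz hz1, he, pow_orderOf_eq_one]
  refine Or.inr (Or.inr (frobenius_of_free (Cfsg.pCore p G) ?_ ?_ fun g hg z hz hc => ?_))
  · intro e
    have hN : N ≤ Cfsg.pCore p G := LEBasic.le_pCore h.normal h.isPGroup
    exact h.ne_bot (le_bot_iff.1 (e ▸ hN))
  · intro e
    exact hG fun a => by
      obtain ⟨k, hk⟩ := hRp ⟨a, e ▸ Subgroup.mem_top a⟩
      exact ⟨k, congrArg Subtype.val hk⟩
  · by_contra hz1
    set b := g ^ ordProj[p] (orderOf g) with hb
    have hb1 : b ≠ 1 := fun e => hg (hR g ⟨(orderOf g).factorization p,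
      Nat.dvd_antisymm (orderOf_dvd_of_pow_eq_one e) (Nat.ordProj_dvd _ _)⟩)
    obtain ⟨k, hk⟩ := IsPGroup.iff_orderOf.1 hRp ⟨z, hz⟩
    rw [Subgroup.orderOf_mk] at hk
    refine h.sep (c := z) (w := b) (hc.symm.pow_right _) hz1 hb1 ⟨k, hk⟩ ?_
    rw [hb, orderOf_pow_of_dvd (Nat.pos_iff_ne_zero.1 (Nat.ordProj_pos _ _)) (Nat.ordProj_dvd _ _)]
    exact (Nat.coprime_ordCompl h.prime (orderOf_pos g).ne').symm

theorem mem_sylow_mul {n a : G} (hn : n ∈ N) (ha : ∃ k, orderOf a = p ^ k) :
    ∃ k, orderOf (n * a) = p ^ k := by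
  obtain ⟨k, hk⟩ := ha
  haveI := Fact.mk h.prime
  haveI := h.normal
  obtain ⟨S, hS⟩ := (IsPGroup.of_card (n := k) (by rw [Nat.card_zpowers, hk]) :
    IsPGroup p (Subgroup.zpowers a)).exists_le_sylow
  have hNS : N ≤ (S : Subgroup G) := h.isPGroup.le_sylow_of_normal S
  obtain ⟨l, hl⟩ := IsPGroup.iff_orderOf.1 S.2
    ⟨n * a, mul_mem (hNS hn) (hS (Subgroup.mem_zpowers a))⟩
  exact ⟨l, by rwa [Subgroup.orderOf_mk] at hl⟩

/-- The odd case. -/
theorem baer_odd (hp2 : p ≠ 2) : Baer G := by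
  classical
  haveI := Fact.mk h.prime
  haveI := h.normal
  have hp3 : 3 ≤ p := by have := h.prime.two_le; omega
  -- the Sylow subgroups have exponent `p`
  have hexp : ∀ a : G, (∃ k, orderOf a = p ^ k) → a ^ p = 1 := by
    intro a ha
    by_contra hap
    have hne : orderOf a ≠ p := fun e => hap (by rw [← e, pow_orderOf_eq_one])
    have hv := h.pow_p_mem ha hne
    have hY : a ∈ P.comp (a ^ p) := P.mem_of_pow_mem hap hap (P.mem _)
    have key : ∀ n ∈ N, n ∉ P.comp (a ^ p) →
        ((List.range p).map fun i : ℕ => a ^ i * n * (a ^ i)⁻¹).prod = (a ^ p)⁻¹ := by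
      intro n hn hnY
      have hN := P.mem_normalizer_of_commute hap (P.mem (a ^ p)) hap (h.comm n hn _ hv)
      have := P.coset_pow hap hN hnY hY (h.exp n hn)
      rw [Part.prod_pow_aux]
      have e : (n * a) ^ p = n * (a * n) ^ p * n⁻¹ := by
        rw [← conj_pow]; congr 1; group
      rw [e, this, mul_one, mul_inv_cancel, one_mul]
    obtain ⟨n, hn, hnY⟩ := SetLike.not_le_iff_exists.1 (h.spread (a ^ p) hap)
    have hn2 : n * n ∉ P.comp (a ^ p) := by
      intro e
      refine hnY (P.mem_of_pow_mem hap (k := 2) ?_ (by rwa [sq]))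
      intro e2
      have h1 := orderOf_dvd_of_pow_eq_one e2
      rw [h.orderOf_eq hn (fun e' => hnY (e' ▸ one_mem _))] at h1
      have := Nat.le_of_dvd two_pos h1
      omega
    have hprod : ∀ j : ℕ, ((List.range j).map fun i : ℕ => a ^ i * (n * n) * (a ^ i)⁻¹).prod =
        ((List.range j).map fun i : ℕ => a ^ i * n * (a ^ i)⁻¹).prod *
          ((List.range j).map fun i : ℕ => a ^ i * n * (a ^ i)⁻¹).prod ∧
        ((List.range j).map fun i : ℕ => a ^ i * n * (a ^ i)⁻¹).prod ∈ N := by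
      intro j
      induction j with
      | zero => simp
      | succ j ih =>
        simp only [List.range_succ, List.map_append, List.prod_append, List.map_singleton,
          List.prod_singleton]
        set c := a ^ j * n * (a ^ j)⁻¹ with hc
        have hcN : c ∈ N := h.normal.conj_mem n hn _
        rw [ih.1, show a ^ j * (n * n) * (a ^ j)⁻¹ = c * c by rw [hc]; group]
        set d := ((List.range j).map fun i : ℕ => a ^ i * n * (a ^ i)⁻¹).prod
        refine ⟨?_, mul_mem ih.2 hcN⟩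
        calc d * d * (c * c) = d * (d * c) * c := by group
          _ = d * (c * d) * c := by rw [h.comm d ih.2 c hcN]
          _ = d * c * (d * c) := by group
    have h1 := (hprod p).1
    rw [key n hn hnY, key (n * n) (mul_mem hn hn) hn2, eq_comm] at h1
    exact hap (inv_eq_one.1 (mul_eq_left.1 h1))
  haveI : IsMulCommutative N := ⟨⟨fun a b => Subtype.ext (h.comm a a.2 b b.2)⟩⟩
  letI : CommGroup N := { (inferInstance : Group N) with
    mul_comm := fun a b => Subtype.ext (h.comm a a.2 b b.2) }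
  have hH : NormHyp G N (MulAut.conjNormal (H := N)) p := by
    refine ⟨h.prime, (Subgroup.nontrivial_iff_ne_bot N).2 h.ne_bot,
      fun v => Subtype.ext (by simpa using h.exp _ v.2), fun a ha hco v hv => ?_,
      fun a ha v => Subtype.ext ?_, fun a b hab ha hb hap hbp => h.sep hab ha hb hap hbp⟩
    · refine Subtype.ext (h.fpf ha hco v.2 ?_)
      have e := congrArg Subtype.val hv
      rw [MulAut.conjNormal_apply] at e
      exact mul_inv_eq_iff_eq_mul.1 e
    · have e : ∀ j : ℕ, ((∏ i ∈ Finset.range j, MulAut.conjNormal (H := N) (a ^ i) v : N) : G) =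
          ((List.range j).map fun i : ℕ => a ^ i * (v : G) * (a ^ i)⁻¹).prod := by
        intro j
        induction j with
        | zero => simp
        | succ j ih =>
          rw [Finset.prod_range_succ, Subgroup.coe_mul, ih, List.range_succ, List.map_append,
            List.prod_append, List.map_singleton, List.prod_singleton, MulAut.conjNormal_apply]
      rw [e p, Part.prod_pow_aux, ha, inv_one, mul_one, Subgroup.coe_one]
      refine hexp _ (h.mem_sylow_mul v.2 ?_)
      rcases (Nat.dvd_prime h.prime).1 (orderOf_dvd_of_pow_eq_one ha) with e' | e'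
      · exact ⟨0, by rw [e', pow_zero]⟩
      · exact ⟨1, by rw [e', pow_one]⟩
  exact h.baer_of_core fun a ha => hH.mem_pCore ha

theorem sq_of_centralizer (hp2 : p = 2) {c : G} (hc : c ∈ Subgroup.centralizer (N : Set G)) :
    c * c = 1 := by
  subst hp2
  haveI := h.normal
  obtain ⟨k, hk⟩ := IsPGroup.iff_orderOf.1 h.centralizer_isPGroup ⟨c, hc⟩
  rw [Subgroup.orderOf_mk] at hk
  by_contra hcc
  rw [← sq] at hcc
  have hv := h.pow_p_mem' ⟨k, hk⟩
  obtain ⟨n, hn, hnY⟩ := SetLike.not_le_iff_exists.1 (h.spread _ hcc)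
  have hY : c ∈ P.comp (c ^ 2) := P.mem_of_pow_mem hcc hcc (P.mem _)
  have hN := P.mem_normalizer_of_commute hcc (P.mem (c ^ 2)) hcc (h.comm n hn _ hv)
  have := P.coset_pow hcc hN hnY hY (h.exp n hn)
  rw [(show Commute c n from (Subgroup.mem_centralizer_iff.1 hc n hn).symm).mul_pow, h.exp n hn,
    mul_one] at this
  exact hcc this

/-- A self-centralising enlargement. -/
theorem enlarge (hp2 : p = 2) :
    Elem P (Subgroup.centralizer (N : Set G)) 2 ∧
      Subgroup.centralizer ((Subgroup.centralizer (N : Set G) : Subgroup G) : Set G) ≤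
        Subgroup.centralizer (N : Set G) := by
  haveI := h.normal
  have hle : N ≤ Subgroup.centralizer (N : Set G) := fun a ha =>
    Subgroup.mem_centralizer_iff.2 fun b hb => h.comm b hb a ha
  refine ⟨⟨Nat.prime_two, inferInstance, fun a ha b hb => ?_, fun a ha => ?_,
    fun g hg e => h.spread g hg (hle.trans e),
    fun e => h.ne_bot (le_bot_iff.1 (e ▸ hle))⟩, ?_⟩
  · have h1 := h.sq_of_centralizer hp2 (mul_mem ha hb)
    have ha2 := h.sq_of_centralizer hp2 ha
    have hb2 := h.sq_of_centralizer hp2 hb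
    calc a * b = (a * b)⁻¹ := (inv_eq_of_mul_eq_one_right h1).symm
      _ = b⁻¹ * a⁻¹ := mul_inv_rev a b
      _ = b * a := by rw [inv_eq_of_mul_eq_one_right ha2, inv_eq_of_mul_eq_one_right hb2]
  · rw [sq]; exact h.sq_of_centralizer hp2 ha
  · exact Subgroup.centralizer_le hle

/-- A transvection. -/
theorem transvection (hp2 : p = 2) (hself : Subgroup.centralizer (N : Set G) ≤ N) {t : G}
    (ht : ∃ k, orderOf t = p ^ k) (htN : t ∉ N) :
    ∃ C₀ : Subgroup G, C₀ ≤ N ∧ C₀.relIndex N ≤ 2 ∧ ∀ n ∈ C₀, Commute t n := by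
  subst hp2
  haveI := h.normal
  have ht2 : t * t ∈ N := by rw [← sq]; exact h.pow_p_mem' ht
  -- an element of order four acting like `t`
  obtain ⟨x, hx2, hxk, hxt⟩ : ∃ x : G, x * x ≠ 1 ∧ (∃ k, orderOf x = 2 ^ k) ∧
      ∀ n ∈ N, x * n * x⁻¹ = t * n * t⁻¹ := by
    by_cases htt : t * t = 1
    · obtain ⟨m, hm, hne⟩ : ∃ m ∈ N, ¬ Commute t m := by
        by_contra hcon
        push Not at hcon
        exact htN (hself (Subgroup.mem_centralizer_iff.2 fun n hn => (hcon n hn).eq.symm))
      refine ⟨m * t, fun e => hne ?_, h.mem_sylow_mul hm ht, fun n hn => ?_⟩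
      · have hm2 : m * m = 1 := by rw [← sq]; exact h.exp m hm
        show t * m = m * t
        calc t * m = (m * m) * (t * m) * (t * t) := by rw [hm2, htt, one_mul, mul_one]
          _ = m * (m * t * (m * t)) * t := by group
          _ = m * t := by rw [e, mul_one]
      · rw [show m * t * n * (m * t)⁻¹ = m * (t * n * t⁻¹) * m⁻¹ by group,
          h.comm m hm _ (h.normal.conj_mem n hn t), mul_inv_cancel_right]
    · exact ⟨t, htt, ht, fun n _ => rfl⟩
  have hv : x * x ∈ N := by rw [← sq]; exact h.pow_p_mem' hxk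
  set X := P.comp (x * x) with hX
  have hxX : x ∈ X := by
    rw [hX, ← sq]
    exact P.mem_of_pow_mem (by rwa [sq]) (by rwa [sq]) (P.mem _)
  -- outside the member, the commutator is the square
  have key : ∀ n ∈ N, n ∉ X → x * n * x⁻¹ * n = x * x := by
    intro n hn hnX
    have hN := P.mem_normalizer_of_commute hx2 (P.mem (x * x)) hx2 (h.comm n hn _ hv)
    have hcp := P.coset_pow hx2 hN hnX hxX (h.exp n hn)
    rw [sq] at hcp
    have hi : x * x = (x * x)⁻¹ :=
      (inv_eq_of_mul_eq_one_right (by rw [← sq]; exact h.exp _ hv)).symm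
    calc x * n * x⁻¹ * n = x * n * x⁻¹ * n * (x * x) * (x * x)⁻¹ := by rw [mul_inv_cancel_right]
      _ = x * n * x⁻¹ * (n * (x * x)) * (x * x)⁻¹ := by group
      _ = x * n * x⁻¹ * ((x * x) * n) * (x * x)⁻¹ := by rw [h.comm n hn _ hv]
      _ = x * n * (x * n) * (x * x)⁻¹ := by group
      _ = x * x := by rw [hcp, one_mul, ← hi]
  have hmul : ∀ a ∈ N, ∀ b ∈ N,
      x * (a * b) * x⁻¹ * (a * b) = x * a * x⁻¹ * a * (x * b * x⁻¹ * b) := by
    intro a ha b hb
    calc x * (a * b) * x⁻¹ * (a * b) = x * a * x⁻¹ * ((x * b * x⁻¹) * a) * b := by group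
      _ = x * a * x⁻¹ * (a * (x * b * x⁻¹)) * b := by
          rw [h.comm _ (h.normal.conj_mem b hb x) a ha]
      _ = x * a * x⁻¹ * a * (x * b * x⁻¹ * b) := by group
  obtain ⟨n₁, hn₁, hn₁X⟩ := SetLike.not_le_iff_exists.1 (h.spread (x * x) hx2)
  refine ⟨N ⊓ X, inf_le_left, ?_, fun n hn => ?_⟩
  · have hdich : ∀ n ∈ N, n ∈ X ∨ n₁ * n ∈ X := by
      intro n hn
      by_contra hcon
      push Not at hcon
      have := key _ (mul_mem hn₁ hn) hcon.2
      rw [hmul n₁ hn₁ n hn, key n₁ hn₁ hn₁X, key n hn hcon.1] at this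
      exact hx2 (mul_eq_left.1 this)
    rw [Subgroup.inf_relIndex_left]
    show (X.subgroupOf N).index ≤ 2
    rw [Subgroup.index_eq_card]
    refine (Nat.card_le_card_of_surjective
      (fun b : Bool => if b then ((⟨n₁⁻¹, inv_mem hn₁⟩ : N) : N ⧸ X.subgroupOf N) else ((1 : N) : _))
      fun z => ?_).trans_eq (by simp)
    obtain ⟨n, rfl⟩ := QuotientGroup.mk_surjective z
    rcases hdich n n.2 with e | e
    · refine ⟨false, ?_⟩
      simp only [Bool.false_eq_true, if_false]
      rw [QuotientGroup.eq, Subgroup.mem_subgroupOf]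
      simpa using e
    · refine ⟨true, ?_⟩
      simp only [if_true]
      rw [QuotientGroup.eq, Subgroup.mem_subgroupOf]
      simpa using e
  · obtain ⟨hnN, hnX⟩ := Subgroup.mem_inf.1 hn
    have hout : n₁ * n ∉ X := fun e => hn₁X (by simpa using mul_mem e (inv_mem hnX))
    have := key _ (mul_mem hn₁ hnN) hout
    rw [hmul n₁ hn₁ n hnN, key n₁ hn₁ hn₁X, mul_eq_left, hxt n hnN] at this
    show t * n = n * t
    have hn2 : n⁻¹ = n := inv_eq_of_mul_eq_one_right (by rw [← sq]; exact h.exp n hnN)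
    have e : t * n * t⁻¹ = n := (eq_inv_of_mul_eq_one_left this).trans hn2
    exact mul_inv_eq_iff_eq_mul.1 e

/-- The case `p = 2` with a self-centralising subgroup. -/
theorem baer_two (hp2 : p = 2) (hself : Subgroup.centralizer (N : Set G) ≤ N) : Baer G := by
  subst hp2
  classical
  haveI := h.normal
  by_cases hR : ∀ a : G, (∃ k, orderOf a = 2 ^ k) → a ∈ Cfsg.pCore 2 G
  · exact h.baer_of_core hR
  push Not at hR
  obtain ⟨t, ht, htR⟩ := hR
  have hNR : N ≤ Cfsg.pCore 2 G := LEBasic.le_pCore h.normal h.isPGroup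
  have htN : t ∉ N := fun e => htR (hNR e)
  have ht2 : t * t ∈ N := by rw [← sq]; exact h.pow_p_mem' ht
  let π : G →* G ⧸ N := QuotientGroup.mk' N
  have hker : π.ker = N := QuotientGroup.ker_mk' N
  have hto : π t * π t = 1 := by rw [← map_mul]; exact (QuotientGroup.eq_one_iff _).2 ht2
  have htord : orderOf (π t) = 2 := orderOf_eq_prime (by rw [sq, hto])
    fun e => htN ((QuotientGroup.eq_one_iff t).1 e)
  by_cases hall : ∀ g : G ⧸ N, IsPGroup 2 ↥(Subgroup.zpowers (π t) ⊔
      (Subgroup.zpowers (π t)).map (MulAut.conj g).toMonoidHom)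
  · obtain ⟨M, hM, hM2, htM⟩ := BaerSuzuki.baerSuzuki (Subgroup.zpowers (π t))
      (IsPGroup.of_card (n := 1) (by rw [Nat.card_zpowers, htord, pow_one])) hall
    exact absurd (LEBasic.le_pCore (hM.comap π)
      (hM2.comap_of_ker_isPGroup π (hker.symm ▸ h.isPGroup))
      (show t ∈ M.comap π from htM (Subgroup.mem_zpowers _))) htR
  push Not at hall
  obtain ⟨g', hg'⟩ := hall
  obtain ⟨g, rfl⟩ := QuotientGroup.mk'_surjective N g'
  rw [MonoidHom.map_zpowers] at hg'
  set s := g * t * g⁻¹ with hs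
  have hsπ : π g * π t * (π g)⁻¹ = π s := by rw [hs, map_mul, map_mul, map_inv]
  have hso : π s * π s = 1 := by
    rw [← hsπ, show π g * π t * (π g)⁻¹ * (π g * π t * (π g)⁻¹) = π g * (π t * π t) * (π g)⁻¹ by group,
      hto, mul_one, mul_inv_cancel]
  have hn2 : ¬ IsPGroup 2 (Subgroup.zpowers (π (t * s))) := fun e => hg' (by
    show IsPGroup 2 ↥(Subgroup.zpowers (π t) ⊔ Subgroup.zpowers (π g * π t * (π g)⁻¹))
    rw [hsπ]
    exact comm_of_closure_two hto hso (by rwa [← map_mul]))
  set w := (t * s) ^ ordProj[2] (orderOf (t * s)) with hw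
  have hw1 : w ≠ 1 := fun e => hn2 (by
    obtain ⟨j, -, hj⟩ := (Nat.dvd_prime_pow Nat.prime_two).1
      ((orderOf_map_dvd π (t * s)).trans (orderOf_dvd_of_pow_eq_one e))
    exact IsPGroup.of_card (n := j) ((Nat.card_zpowers _).trans hj))
  have hwco : (orderOf w).Coprime 2 := by
    rw [hw, orderOf_pow_of_dvd (Nat.pos_iff_ne_zero.1 (Nat.ordProj_pos _ _)) (Nat.ordProj_dvd _ _)]
    exact (Nat.coprime_ordCompl Nat.prime_two (orderOf_pos (t * s)).ne').symm
  have hsk : ∃ k, orderOf s = 2 ^ k := ht.imp fun k hk => by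
    rw [hs]; exact ((orderOf_injective (MulAut.conj g).toMonoidHom (MulAut.conj g).injective t).trans hk)
  have hsN : s ∉ N := fun e => htN (by
    have := h.normal.conj_mem _ e g⁻¹
    rwa [hs, inv_inv, show g⁻¹ * (g * t * g⁻¹) * g = t by group] at this)
  obtain ⟨C₁, hC₁, hi₁, hc₁⟩ := h.transvection rfl hself ht htN
  obtain ⟨C₂, hC₂, hi₂, hc₂⟩ := h.transvection rfl hself hsk hsN
  have hdisj : C₁ ⊓ C₂ = ⊥ := (Subgroup.eq_bot_iff_forall _).2 fun n hn => by
    obtain ⟨h1, h2⟩ := Subgroup.mem_inf.1 hn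
    exact h.fpf hw1 hwco (hC₁ h1) (((hc₁ n h1).mul_left (hc₂ n h2)).pow_left _)
  have hN4le : Nat.card N ≤ 4 := by
    have e := Subgroup.relIndex_inf_le (H := C₁) (K := C₂) (L := N)
    rw [hdisj, Subgroup.relIndex_bot_left] at e
    exact e.trans ((Nat.mul_le_mul hi₁ hi₂).trans_eq (by norm_num))
  obtain ⟨n₀, hn₀, hn₀1⟩ := h.exists_ne
  haveI : Fact (Nat.Prime 2) := ⟨Nat.prime_two⟩
  have hN4 : Nat.card N = 4 := by
    obtain ⟨k, hk⟩ := IsPGroup.iff_card.1 h.isPGroup
    rcases k with _ | _ | _ | k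
    · rw [pow_zero, Subgroup.card_eq_one] at hk
      exact absurd hk h.ne_bot
    · exfalso
      obtain ⟨n, hn, hnY⟩ := SetLike.not_le_iff_exists.1 (h.spread n₀ hn₀1)
      haveI : Fintype N := Fintype.ofFinite N
      have h3 : ({(1 : N), ⟨n₀, hn₀⟩, ⟨n, hn⟩} : Finset N).card = 3 := by
        refine Finset.card_eq_three.2 ⟨_, _, _, fun e => hn₀1 (congrArg Subtype.val e).symm,
          fun e => hnY (by rw [← show (1 : G) = n from congrArg Subtype.val e]; exact one_mem _),
          fun e => hnY (by rw [← show n₀ = n from congrArg Subtype.val e]; exact P.mem n₀), rfl⟩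
      have := Finset.card_le_univ ({(1 : N), ⟨n₀, hn₀⟩, ⟨n, hn⟩} : Finset N)
      rw [h3, ← Nat.card_eq_fintype_card, hk] at this
      norm_num at this
    · exact hk
    · exfalso
      rw [hk, pow_succ, pow_succ, pow_succ] at hN4le
      have := Nat.one_le_two_pow (n := k)
      omega
  -- the group acts on the three involutions
  haveI : Fintype N := Fintype.ofFinite N
  let act : G →* Equiv.Perm {n : N // n ≠ 1} :=
    { toFun := fun a => (MulAut.conjNormal (H := N) a).toEquiv.subtypeEquiv fun n => by simp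
      map_one' := by ext n; simp
      map_mul' := fun a b => by ext n; simp [MulAut.mul_apply] }
  have hact : act.ker = N := by
    ext a
    rw [MonoidHom.mem_ker]
    constructor
    · intro e
      refine hself (Subgroup.mem_centralizer_iff.2 fun n hn => ?_)
      by_cases hn1 : n = 1
      · simp [hn1]
      have := congrArg (fun σ : Equiv.Perm {n : N // n ≠ 1} =>
        ((σ ⟨⟨n, hn⟩, fun e => hn1 (congrArg Subtype.val e)⟩ : N) : G)) e
      have e' : a * n * a⁻¹ = n := this
      exact (mul_inv_eq_iff_eq_mul.1 e').symm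
    · intro ha
      ext ⟨⟨n, hn⟩, hn1⟩
      show a * n * a⁻¹ = n
      rw [h.comm a ha n hn, mul_inv_cancel_right]
  have h3 : Fintype.card {n : N // n ≠ 1} = 3 := by
    rw [Fintype.card_subtype_compl, Fintype.card_subtype_eq, ← Nat.card_eq_fintype_card, hN4]
  have hidx : N.index ∣ 6 := by
    rw [← hact, Subgroup.index_ker]
    have := Subgroup.card_subgroup_dvd_card act.range
    rwa [Nat.card_perm, Nat.card_eq_fintype_card (α := {n : N // n ≠ 1}), h3] at this
  have hword : orderOf (π w) = orderOf w := by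
    refine Nat.dvd_antisymm (orderOf_map_dvd π w) (orderOf_dvd_of_pow_eq_one ?_)
    have hmem : w ^ orderOf (π w) ∈ N := by
      rw [← QuotientGroup.eq_one_iff, QuotientGroup.mk_pow]; exact pow_orderOf_eq_one _
    exact orderOf_eq_one_iff.1 (Nat.eq_one_of_dvd_coprimes hwco
      (orderOf_pow_dvd _) (orderOf_dvd_of_pow_eq_one (h.exp _ hmem)))
  have hwd : orderOf w ∣ N.index := by
    rw [← hword, Subgroup.index_eq_card]; exact orderOf_dvd_natCard _
  have hw3 : orderOf w = 3 := by
    have h6 := Nat.le_of_dvd (by norm_num) (hwd.trans hidx)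
    have h1 : orderOf w ≠ 1 := fun e => hw1 (orderOf_eq_one_iff.1 e)
    have h0 := orderOf_pos w
    have hd6 := hwd.trans hidx
    generalize orderOf w = r at *
    interval_cases r <;> norm_num at *
  have hidx6 : N.index = 6 := by
    have h2 : 2 ∣ N.index := by
      rw [Subgroup.index_eq_card, ← htord]; exact orderOf_dvd_natCard _
    exact Nat.dvd_antisymm hidx (Nat.Coprime.mul_dvd_of_dvd_of_dvd (m := 2) (n := 3) (by norm_num) h2
      (hw3 ▸ hwd))
  have hG : Nat.card G = 24 := by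
    rw [← N.card_mul_index, hN4, hidx6]
  haveI : Fact (Nat.Prime 3) := ⟨Nat.prime_three⟩
  have hS3 : ∀ S : Sylow 3 G, Nat.card (S : Subgroup G) = 3 := fun S => by
    rw [Sylow.card_eq_multiplicity, hG, show (24 : ℕ) = 2 ^ 3 * 3 ^ 1 by norm_num,
      Nat.factorization_mul (by norm_num) (by norm_num), Nat.prime_two.factorization_pow,
      Nat.prime_three.factorization_pow]
    simp
  -- a normal subgroup of order prime to two is trivial
  have hnorm : ∀ (T : Subgroup G), T ≤ Subgroup.centralizer (N : Set G) → T ⊓ N = ⊥ → T = ⊥ :=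
    fun T hT hd => le_bot_iff.1 ((le_inf le_rfl (hT.trans hself)).trans_eq hd)
  have hSN : ∀ S : Sylow 3 G, (S : Subgroup G) ⊓ N = ⊥ := fun S => by
    refine Subgroup.inf_eq_bot_of_coprime ?_
    rw [hS3, hN4]
    norm_num
  have hcard4 : Nat.card (Sylow 3 G) = 4 := by
    obtain ⟨S⟩ : Nonempty (Sylow 3 G) := inferInstance
    have h1 := card_sylow_modEq_one 3 G
    have h2 : Nat.card (Sylow 3 G) ∣ 8 := by
      have := S.card_dvd_index
      have e := (S : Subgroup G).card_mul_index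
      rw [hS3, hG] at e
      rwa [show (S : Subgroup G).index = 8 by omega] at this
    have h8 := Nat.le_of_dvd (by norm_num) h2
    have hne : Nat.card (Sylow 3 G) ≠ 1 := fun e => by
      haveI : Subsingleton (Sylow 3 G) := (Nat.card_eq_one_iff_unique.1 e).1
      haveI : (S : Subgroup G).Normal := S.normal_of_subsingleton
      have hT : (S : Subgroup G) = ⊥ := hnorm _ (fun x hx => Subgroup.mem_centralizer_iff.2 fun n hn =>
        (Subgroup.commute_of_normal_of_disjoint _ _ inferInstance inferInstance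
          (disjoint_iff.2 (hSN S)) x n hx hn).symm) (hSN S)
      have := hS3 S
      rw [hT, Subgroup.card_bot] at this
      omega
    generalize Nat.card (Sylow 3 G) = r at *
    interval_cases r <;> simp_all [Nat.ModEq]
  haveI : Fintype (Sylow 3 G) := Fintype.ofFinite _
  let f : G →* Equiv.Perm (Sylow 3 G) := MulAction.toPermHom G (Sylow 3 G)
  have hinj : Function.Injective f := by
    rw [← MonoidHom.ker_eq_bot_iff]
    have hK : ∀ S : Sylow 3 G, f.ker ≤ Subgroup.normalizer ((S : Subgroup G) : Set G) := fun S a ha => by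
      have e : a • S = S := Equiv.ext_iff.1 (MonoidHom.mem_ker.1 ha) S
      exact Sylow.smul_eq_iff_mem_normalizer.1 e
    obtain ⟨S, hS⟩ := (IsPGroup.of_card (n := 1) (by rw [Nat.card_zpowers, hw3, pow_one]) :
      IsPGroup 3 (Subgroup.zpowers w)).exists_le_sylow
    have hfN : f.ker ⊓ N = ⊥ := (Subgroup.eq_bot_iff_forall _).2 fun c hc => by
      obtain ⟨hcK, hcN⟩ := Subgroup.mem_inf.1 hc
      have h1 : c * w * c⁻¹ * w⁻¹ ∈ (S : Subgroup G) :=
        mul_mem ((Subgroup.mem_normalizer_iff.1 (hK S hcK) w).1 (hS (Subgroup.mem_zpowers w)))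
          (inv_mem (hS (Subgroup.mem_zpowers w)))
      have h2 : c * w * c⁻¹ * w⁻¹ ∈ N := by
        rw [show c * w * c⁻¹ * w⁻¹ = c * (w * c⁻¹ * w⁻¹) by group]
        exact mul_mem hcN (h.normal.conj_mem _ (inv_mem hcN) w)
      have h3 := (Subgroup.eq_bot_iff_forall _).1 (hSN S) _ ⟨h1, h2⟩
      exact h.fpf hw1 hwco hcN (mul_inv_eq_iff_eq_mul.1 (mul_inv_eq_one.1 h3)).symm
    refine hnorm _ (fun x hx => Subgroup.mem_centralizer_iff.2 fun n hn => ?_) hfN
    exact (Subgroup.commute_of_normal_of_disjoint _ _ inferInstance inferInstance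
      (disjoint_iff.2 hfN) x n hx hn).symm
  have hbij : Function.Bijective f := by
    haveI : Fintype G := Fintype.ofFinite G
    rw [Fintype.bijective_iff_injective_and_card]
    refine ⟨hinj, ?_⟩
    rw [Fintype.card_perm, ← Nat.card_eq_fintype_card, hG, ← Nat.card_eq_fintype_card, hcard4]
    rfl
  exact Or.inl ⟨(MulEquiv.ofBijective f hbij).trans
    (Fintype.equivFinOfCardEq ((Nat.card_eq_fintype_card).symm.trans hcard4)).permCongrHom⟩

theorem baer : Baer G := by
  by_cases hp2 : p = 2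
  · obtain ⟨h', hself⟩ := h.enlarge hp2
    exact h'.baer_two rfl hself
  · exact h.baer_odd hp2

end Elem

/-- Baer's theorem for groups with a non-trivial solvable normal subgroup. -/
theorem Part.baer_of_solvable (P : Part G) {L : Subgroup G} [L.Normal] (hL : L ≠ ⊥)
    [Group.IsSolvable L] : Baer G := by
  obtain ⟨M, hMn, hM1, hML, hmin⟩ := LEWielandt.exists_minimal_normal (G := G) (N := L) inferInstance hL
  haveI := hMn
  haveI : Group.IsSolvable M := Group.isSolvable_of_isSolvable_injective (f := Subgroup.inclusion hML)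
    (Subgroup.inclusion_injective hML)
  haveI : Nontrivial M := (Subgroup.nontrivial_iff_ne_bot M).2 hM1
  have hlt : ⁅M, M⁆ < M := by
    have h1 := Group.IsSolvable.commutator_lt_top_of_nontrivial M
    rw [_root_.commutator_def] at h1
    have h2 := Subgroup.map_lt_map_iff_of_injective M.subtype_injective |>.2 h1
    rwa [Subgroup.map_commutator, ← MonoidHom.range_eq_map, Subgroup.range_subtype] at h2
  have hab : ∀ a ∈ M, ∀ b ∈ M, a * b = b * a := fun a ha b hb =>
    commutatorElement_eq_one_iff_mul_comm.1 ((Subgroup.eq_bot_iff_forall _).1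
      ((hmin _ (Subgroup.commutator_normal M M) hlt.le).resolve_right hlt.ne) _
      (Subgroup.commutator_mem_commutator ha hb))
  obtain ⟨p, hp, hpM⟩ := Nat.exists_prime_and_dvd (fun e => hM1 (Subgroup.card_eq_one.1 e))
  haveI := Fact.mk hp
  let W : Subgroup G :=
    { carrier := {a | a ∈ M ∧ a ^ p = 1}
      one_mem' := ⟨one_mem _, one_pow _⟩
      mul_mem' := fun {a b} ha hb => ⟨mul_mem ha.1 hb.1, by
        rw [(show Commute a b from hab a ha.1 b hb.1).mul_pow, ha.2, hb.2, one_mul]⟩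
      inv_mem' := fun {a} ha => ⟨inv_mem ha.1, by rw [inv_pow, ha.2, inv_one]⟩ }
  have hW : W = M := by
    refine (hmin W ⟨fun a ha g => ⟨hMn.conj_mem a ha.1 g, ?_⟩⟩ fun a ha => ha.1).resolve_left fun e => ?_
    · rw [conj_pow, ha.2, mul_one, mul_inv_cancel]
    · obtain ⟨x, hx⟩ := exists_prime_orderOf_dvd_card' (G := M) p hpM
      have hmem : (x : G) ∈ W := ⟨x.2, by
        rw [← Subgroup.coe_pow, ← hx, pow_orderOf_eq_one, Subgroup.coe_one]⟩
      rw [e, Subgroup.mem_bot, OneMemClass.coe_eq_one] at hmem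
      rw [hmem, orderOf_one] at hx
      exact hp.ne_one hx.symm
  by_cases hsp : ∀ g : G, g ≠ 1 → ¬ M ≤ P.comp g
  · exact (Elem.mk (P := P) hp hMn hab (fun a ha => (hW.ge ha).2) hsp hM1).baer
  · push Not at hsp
    obtain ⟨g, hg, hle⟩ := hsp
    haveI : (P.comp g).Normal := by
      rw [← Subgroup.normalizer_eq_top_iff, Subgroup.eq_top_iff']
      intro a
      obtain ⟨⟨m, hm⟩, hm1⟩ := Subgroup.ne_bot_iff_exists_ne_one.1 hM1
      exact P.mem_normalizer_of_meet hg (hle hm) (fun e => hm1 (Subtype.ext e))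
        (hle (hMn.conj_mem m hm a))
    exact P.baer_of_normal hg

end Cfsg.Agent.Partition
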