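import Cfsg.Agent.Lib.Partition.Socle
import Cfsg.Agent.Lib.NormCyclic.Aut

/-!
# Groups between `PSL(2, q)` and its automorphism group with a partition
-/

set_option autoImplicit false
set_option linter.style.haveILetI false
set_option linter.unusedSectionVars false

namespace Cfsg.Agent.Partition

open Matrix Cfsg.Agent.Invol Cfsg.Agent.AutPSL Cfsg.Agent.NormCyc.AutField

namespace AutField

variable {F : Type} [Field F] [Fintype F]

local notation "PSL2" => Matrix.ProjectiveSpecialLinearGroup (Fin 2) F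
local notation "GL2" => GL (Fin 2) F
local notation "sq2" => MonoidHom.range (powMonoidHom 2 : Fˣ →* Fˣ)

theorem W_mul_dg (a b : Fˣ) : W * dg a b = (dg b a * W : GL2) := by
  refine Units.ext ?_
  rw [Units.val_mul, Units.val_mul, W_coe, dg_coe, dg_coe]
  ext i j
  fin_cases i <;> fin_cases j <;> simp [Matrix.mul_apply, Fin.sum_univ_two]

theorem semi_U_ne_one : (semi U 1 : MulAut PSL2) ≠ 1 := fun e => by
  rw [← semi_one] at e
  obtain ⟨c, hc⟩ := entries e
  have := hc 0 1
  simp [U_coe] at this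

theorem orderOf_WU : orderOf (w * semi U 1 : MulAut PSL2) = 3 := by
  haveI : Fact (Nat.Prime 3) := ⟨Nat.prime_three⟩
  have h3 : (W * U : GL2) ^ 3 = 1 := by
    refine Units.ext ?_
    rw [pow_succ, pow_succ, pow_one]
    push_cast
    rw [W_coe, U_coe]
    ext i j
    fin_cases i <;> fin_cases j <;> simp [Matrix.mul_apply, Fin.sum_univ_two]
  refine orderOf_eq_prime ?_ fun e => ?_
  · rw [w, semi_mul', mapGL_one, mul_one, semi_pow_one, h3, semi_one]
  · rw [w, semi_mul', mapGL_one, mul_one, ← semi_one] at e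
    obtain ⟨c, hc⟩ := entries e
    have := hc 0 1
    simp [W_coe, U_coe, Matrix.mul_apply, Fin.sum_univ_two] at this

theorem not_commute_WU : ¬ Commute (w : MulAut PSL2) (w * semi U 1) := fun h => by
  have e : (w : MulAut PSL2) * (w * semi U 1) = w * semi U 1 * w := h
  simp only [w, semi_mul', mapGL_one, mul_one] at e
  obtain ⟨c, hc⟩ := entries e
  have := hc 0 1
  simp [W_coe, U_coe, Matrix.mul_apply, Fin.sum_univ_two] at this

/-- Rotations. -/
noncomputable def rot (a b : F) (h : a * a + b * b ≠ 0) : GL2 :=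
  Matrix.GeneralLinearGroup.mkOfDetNeZero !![a, b; -b, a] (by
    rw [Matrix.det_fin_two_of]; simpa [sub_neg_eq_add] using h)

theorem rot_coe {a b : F} (h : a * a + b * b ≠ 0) :
    ((rot a b h : GL2) : Matrix (Fin 2) (Fin 2) F) = !![a, b; -b, a] := rfl

theorem rot_pow (h3 : (3 : F) = 0) {a b : F} (h : a * a + b * b ≠ 0) (n : ℕ) :
    ((rot a b h ^ (9 ^ n) : GL2) : Matrix (Fin 2) (Fin 2) F) =
      !![a ^ 9 ^ n, b ^ 9 ^ n; -(b ^ 9 ^ n), a ^ 9 ^ n] := by
  have cube : ∀ x y : F, (!![x, y; -y, x] : Matrix (Fin 2) (Fin 2) F) ^ 3 =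
      !![x ^ 3, -(y ^ 3); -(-(y ^ 3)), x ^ 3] := by
    intro x y
    rw [pow_succ, pow_succ, pow_one]
    ext i j
    fin_cases i <;> fin_cases j <;> simp [Matrix.mul_apply, Fin.sum_univ_two]
    · linear_combination (-(x * y * y)) * h3
    · linear_combination (x * x * y) * h3
    · linear_combination (-(x * x * y)) * h3
    · linear_combination (-(x * y * y)) * h3
  induction n with
  | zero => simp [rot_coe]
  | succ n ih =>
    rw [pow_succ 9 n, pow_mul, Units.val_pow_eq_pow_val, ih, show (9 : ℕ) = 3 * 3 from rfl, pow_mul,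
      cube, cube]
    ext i j
    fin_cases i <;> fin_cases j <;> simp <;> ring

theorem false_of_both {A : Subgroup (MulAut PSL2)} (P : Part A)
    (hnil : ∀ g : A, g ≠ 1 → Group.IsNilpotent (P.comp g))
    {x : A} (hx : x ≠ 1) {a b : A} (ha : a ∈ P.comp x) (hb : b ∈ P.comp x)
    (hco : Nat.Coprime (orderOf (a : MulAut PSL2)) (orderOf (b : MulAut PSL2)))
    (hne : ¬ Commute (a : MulAut PSL2) b) : False :=
  hne (congrArg Subtype.val
    (CN.commute_of_coprime (hnil x hx) ha hb (by rwa [← Subgroup.orderOf_coe, ← Subgroup.orderOf_coe])).eq)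

/-- No standard field automorphism of odd prime order. -/
theorem false_odd {A : Subgroup (MulAut PSL2)} (P : Part A)
    (hnil : ∀ g : A, g ≠ 1 → Group.IsNilpotent (P.comp g)) (hA : Cfsg.Inn PSL2 ≤ A)
    {r : ℕ} (hr : r.Prime) (hr2 : r ≠ 2) {σ : F ≃+* F} (hσ : orderOf σ = r)
    (hmem : (semi 1 σ : MulAut PSL2) ∈ A) : False := by
  set φ : A := ⟨semi 1 σ, hmem⟩ with hφ
  have hUmem : (semi U 1 : MulAut PSL2) ∈ A := mem_of_square hA (by rw [det_U]; exact one_mem _)
  set wA : A := ⟨w, w_mem hA⟩ with hwA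
  set uA : A := ⟨semi U 1, hUmem⟩ with huA
  have hφo : orderOf φ = r := by rw [Subgroup.orderOf_mk, orderOf_semi_one le_rfl σ, hσ]
  have hφ1 : φ ≠ 1 := fun e => hr.ne_one (by rw [← hφo, e, orderOf_one])
  have hwo : orderOf wA = 2 := by rw [Subgroup.orderOf_mk, orderOf_w]
  have hwφ : Commute φ wA := Subtype.ext (comm_fixed (mapGL_W σ)).symm.eq
  have huφ : Commute φ uA := Subtype.ext (comm_fixed (mapGL_U σ)).symm.eq
  have hwX : wA ∈ P.comp φ := P.mem_of_commute hφ1 hwφ (by rw [hφo, hwo]; exact hr2)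
  have hx3 : orderOf (wA * uA) = 3 := by rw [← Subgroup.orderOf_coe]; exact orderOf_WU
  have key : wA * uA ∈ P.comp φ → False := fun hx =>
    false_of_both P hnil hφ1 hwX hx (by
      rw [Subgroup.coe_mul, orderOf_WU, orderOf_w]; norm_num) not_commute_WU
  by_cases hr3 : r = 3
  swap
  · exact key (P.mem_of_commute hφ1 (hwφ.mul_right huφ) (by rw [hφo, hx3]; exact hr3))
  subst hr3
  by_cases huX : uA ∈ P.comp φ
  · exact key (mul_mem hwX huX)
  -- characteristic three
  have huo : orderOf uA = 3 := by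
    have hu1 : uA ≠ 1 := fun e => semi_U_ne_one (congrArg Subtype.val e)
    rw [← (P.prime_of_commute hφ1 hu1 huφ huX).1, hφo]
  have h3 : (3 : F) = 0 := by
    have e : (semi U 1 : MulAut PSL2) ^ 3 = 1 := by
      have := pow_orderOf_eq_one uA
      rw [huo] at this
      exact congrArg Subtype.val this
    rw [semi_pow_one, ← semi_one] at e
    obtain ⟨c, hc⟩ := entries e
    have := hc 0 1
    simp [pow_succ, U_coe, Matrix.mul_apply, Fin.sum_univ_two] at this
    linear_combination this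
  haveI hchar : CharP F 3 :=
    (CharP.charP_iff_prime_eq_zero Nat.prime_three).2 (by exact_mod_cast h3)
  have h2 : (2 : F) ≠ 0 := fun e => one_ne_zero (α := F) (by linear_combination h3 - e)
  have hσ3 : ∀ x : F, σ (σ (σ x)) = x := fun x => by
    have e : σ ^ 3 = 1 := hσ ▸ pow_orderOf_eq_one σ
    rw [show σ (σ (σ x)) = (σ * σ * σ) x from rfl, ← pow_three', e]
    rfl
  obtain ⟨s, hs⟩ : ∃ s, σ s ≠ s := by
    by_contra hcon
    push Not at hcon
    exact hr.ne_one (by rw [← hσ, show σ = 1 from RingEquiv.ext hcon, orderOf_one])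
  have hs1 : 1 + s * s ≠ 0 := fun e => hs (by
    have e' : σ s * σ s = s * s := by
      rw [← map_mul, show s * s = -1 by linear_combination e, map_neg, map_one]
    rcases mul_self_eq_mul_self_iff.1 e' with e2 | e2
    · exact e2
    · have := hσ3 s
      rw [e2, map_neg, e2, neg_neg, e2] at this
      rw [e2, this])
  set a : F := 2 * s / (1 + s * s) with ha
  set b : F := (1 - s * s) / (1 + s * s) with hb
  have hab : a * a + b * b = 1 := by
    rw [ha, hb, div_mul_div_comm, div_mul_div_comm, ← add_div,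
      div_eq_one_iff_eq (mul_ne_zero hs1 hs1)]
    ring
  have habne : a * a + b * b ≠ 0 := by rw [hab]; exact one_ne_zero
  set k : GL2 := rot a b habne with hk
  have hkmem : (semi k 1 : MulAut PSL2) ∈ A := mem_of_square hA (by
    rw [show GeneralLinearGroup.det k = 1 from Units.ext (by
      rw [GeneralLinearGroup.val_det_apply, hk, rot_coe, Matrix.det_fin_two_of, Units.val_one]
      linear_combination hab)]
    exact one_mem _)
  set kA : A := ⟨semi k 1, hkmem⟩ with hkA
  have hkw : Commute kA wA := Subtype.ext (by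
    show (semi k 1 : MulAut PSL2) * semi W 1 = semi W 1 * semi k 1
    rw [semi_mul', semi_mul', mapGL_one, mapGL_one]
    congr 1
    refine Units.ext ?_
    rw [Units.val_mul, Units.val_mul, hk, rot_coe, W_coe]
    ext i j
    fin_cases i <;> fin_cases j <;> simp [Matrix.mul_apply, Fin.sum_univ_two])
  have hne : ¬ Commute (φ : MulAut PSL2) kA := by
    intro hc
    have e : (semi 1 σ : MulAut PSL2) * semi k 1 = semi k 1 * semi 1 σ := hc
    rw [semi_mul', semi_mul', mapGL_one, mul_one, one_mul, mul_one, one_mul] at e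
    obtain ⟨c, hc⟩ := entries e
    have c00 : σ a = c * a := hc 0 0
    have c01 : σ b = c * b := hc 0 1
    have hc2 : c * c = 1 := by
      have := congrArg σ hab
      rw [map_add, map_mul, map_mul, map_one, c00, c01] at this
      linear_combination this - c * c * hab
    rcases mul_self_eq_one_iff.1 hc2 with rfl | rfl
    · rw [one_mul] at c00 c01
      have hb1 : 1 + b ≠ 0 := by
        rw [hb, one_add_div hs1]
        exact div_ne_zero (by ring_nf; exact h2) hs1
      have e2 : a = s * (1 + b) := by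
        rw [ha, hb, one_add_div hs1, mul_div_assoc']
        congr 1
        ring
      have := congrArg σ e2
      rw [c00, map_mul, map_add, map_one, c01, e2] at this
      exact hs (mul_right_cancel₀ hb1 this).symm
    · have h' : ∀ x : F, σ x = -1 * x → x = 0 := fun x hx => by
        have := hσ3 x
        rw [hx, map_mul, map_neg, map_one, hx, map_mul, map_mul, map_neg, map_one, hx] at this
        exact (mul_eq_zero.1 (show (2 : F) * x = 0 by linear_combination -this)).resolve_left h2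
      rw [h' a c00, h' b c01] at hab
      simp at hab
  -- the rotation lies in the member of `φ`
  have hkN := P.mem_normalizer_of_commute hφ1 hwX (fun e => by
    rw [e, orderOf_one] at hwo; omega) hkw
  have hkX : kA ∈ P.comp φ := by
    by_contra hkX
    have hw1 : wA ≠ 1 := fun e => by rw [e, orderOf_one] at hwo; omega
    have hk1 : kA ≠ 1 := fun e => hkX (e ▸ one_mem _)
    have hkW : kA ∉ P.comp wA := by rwa [P.eq hφ1 hw1 hwX]
    have hko : orderOf kA = 2 := by rw [← (P.prime_of_commute hw1 hk1 hkw.symm hkW).1, hwo]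
    have e := congrArg Subtype.val (P.inv_of_invol hφ1 hkN hkX (mul_self hko) (P.mem φ))
    have := congrArg GW.fldHom e
    simp only [Subgroup.coe_mul, Subgroup.coe_inv, hkA, hφ, map_mul, map_inv, GW.fldHom_semi,
      one_mul, inv_one, mul_one] at this
    have h2' : σ ^ 2 = 1 := by rw [pow_two]; exact eq_inv_iff_mul_eq_one.1 this
    have := orderOf_dvd_of_pow_eq_one h2'
    rw [hσ] at this
    exact absurd this (by norm_num)
  -- its order is prime to three
  obtain ⟨n, hn, hcard⟩ := FiniteField.card F 3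
  have hpow : (semi k 1 : MulAut PSL2) ^ (9 ^ (n : ℕ) - 1) = 1 := by
    have hfix : ∀ x : F, x ^ 9 ^ (n : ℕ) = x := fun x => by
      have := FiniteField.pow_card_pow 2 x
      rwa [hcard, ← pow_mul, mul_comm, pow_mul, show (3 : ℕ) ^ 2 = 9 from rfl] at this
    have e : k ^ 9 ^ (n : ℕ) = k := Units.ext (by
      rw [hk, rot_pow h3, hfix, hfix, rot_coe])
    rw [← mul_left_inj (semi k 1 : MulAut PSL2), one_mul, ← pow_succ,
      Nat.sub_add_cancel (Nat.one_le_pow _ _ (by norm_num)), semi_pow_one, e]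
  refine false_of_both P hnil hφ1 (P.mem φ) hkX ?_ hne
  rw [show orderOf (φ : MulAut PSL2) = 3 by rw [Subgroup.orderOf_coe, hφo], Nat.prime_three.coprime_iff_not_dvd]
  intro hd
  have h9 : 3 ∣ 9 ^ (n : ℕ) - 1 := hd.trans (orderOf_dvd_of_pow_eq_one hpow)
  have h9' : 3 ∣ 9 ^ (n : ℕ) := (show 3 ∣ 9 by norm_num).trans (dvd_pow_self 9 n.ne_zero)
  have := Nat.one_le_pow (n : ℕ) 9 (by norm_num)
  omega

/-- No standard field involution. -/
theorem false_two {A : Subgroup (MulAut PSL2)} (P : Part A)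
    (hnil : ∀ g : A, g ≠ 1 → Group.IsNilpotent (P.comp g)) (hA : Cfsg.Inn PSL2 ≤ A)
    (hq : Fintype.card F ≠ 4) {σ : F ≃+* F} (hσ : orderOf σ = 2)
    (hmem : (semi 1 σ : MulAut PSL2) ∈ A) : False := by
  set φ : A := ⟨semi 1 σ, hmem⟩ with hφ
  set wA : A := ⟨w, w_mem hA⟩ with hwA
  set uA : A := ⟨semi U 1, mem_of_square hA (by rw [det_U]; exact one_mem _)⟩ with huA
  have hφo : orderOf φ = 2 := by rw [Subgroup.orderOf_mk, orderOf_semi_one le_rfl σ, hσ]
  have hφ1 : φ ≠ 1 := ne_one hφo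
  have hwo : orderOf wA = 2 := by rw [Subgroup.orderOf_mk, orderOf_w]
  have hwφ : Commute φ wA := Subtype.ext (comm_fixed (mapGL_W σ)).symm.eq
  have huφ : Commute φ uA := Subtype.ext (comm_fixed (mapGL_U σ)).symm.eq
  have hx3 : orderOf (wA * uA) = 3 := by rw [← Subgroup.orderOf_coe]; exact orderOf_WU
  have hxX : wA * uA ∈ P.comp φ :=
    P.mem_of_commute hφ1 (hwφ.mul_right huφ) (by rw [hφo, hx3]; norm_num)
  have hwX : wA ∉ P.comp φ := fun h =>
    false_of_both P hnil hφ1 h hxX (by rw [Subgroup.coe_mul, orderOf_WU, orderOf_w]; norm_num)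
      not_commute_WU
  have hwN := P.mem_normalizer_of_commute hφ1 (P.mem φ) hφ1 hwφ.symm
  have h2 : (2 : F) = 0 := by
    have e1 := P.inv_of_invol hφ1 hwN hwX (mul_self hwo) hxX
    have e2 : uA * uA = 1 := by
      rw [eq_inv_iff_mul_eq_one, inv_self hwo] at e1
      calc uA * uA = (wA * wA) * uA * (wA * wA) * uA := by rw [mul_self hwo, one_mul, mul_one]
        _ = wA * (wA * uA) * wA * (wA * uA) := by group
        _ = 1 := e1
    have e : (semi U 1 : MulAut PSL2) * semi U 1 = 1 := congrArg Subtype.val e2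
    rw [semi_mul', mapGL_one, mul_one, ← semi_one] at e
    obtain ⟨c, hc⟩ := entries e
    have := hc 0 1
    simp [U_coe, Matrix.mul_apply, Fin.sum_univ_two] at this
    linear_combination this
  haveI : CharP F 2 := (CharP.charP_iff_prime_eq_zero Nat.prime_two).2 (by exact_mod_cast h2)
  obtain ⟨K, hK, hKc⟩ := exists_fixed_field σ
  rw [hσ] at hKc
  obtain ⟨l, hlK, hl0, hl1⟩ : ∃ l : F, l ∈ K ∧ l ≠ 0 ∧ l ≠ 1 := by
    by_contra hcon
    push Not at hcon
    have hsub : (K : Set F) ⊆ {0, 1} := fun x hx => by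
      by_cases h0 : x = 0
      · exact Or.inl h0
      · exact Or.inr (hcon x hx h0)
    have h3 := (Set.ncard_le_ncard hsub).trans (Set.ncard_insert_le _ _)
    rw [Set.ncard_singleton, ← Nat.card_coe_set_eq] at h3
    have h1 : 1 < Nat.card K := Finite.one_lt_card
    have h4 : Nat.card K ≤ 2 := h3
    exact hq (by rw [hKc, show Nat.card K = 2 by omega]; norm_num)
  set L : Fˣ := Units.mk0 l hl0 with hL
  have hLfix : mapGL σ (dg L L⁻¹) = (dg L L⁻¹ : GL2) := by
    rw [mapGL_dg, map_inv, show sU σ L = L from Units.ext ((hK l).1 hlK)]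
  set lA : A := ⟨semi (dg L L⁻¹) 1, mem_of_square hA (by rw [det_dg, mul_inv_cancel]; exact one_mem _)⟩
    with hlA
  have hl2 : l * l ≠ 1 := fun e => hl1 (by
    have : (l - 1) * (l - 1) = 0 := by linear_combination e + (1 - l) * h2
    exact sub_eq_zero.1 (mul_self_eq_zero.1 this))
  have hlX : lA ∈ P.comp φ := by
    refine P.mem_of_commute hφ1 (Subtype.ext (comm_fixed hLfix).symm.eq) ?_
    rw [hφo]
    intro e
    have e1 := pow_orderOf_eq_one lA
    rw [← e] at e1
    have e2 : (semi (dg L L⁻¹) 1 : MulAut PSL2) ^ 2 = 1 := congrArg Subtype.val e1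
    rw [semi_pow_one, dg_pow, semi_dg_eq_one, inv_pow, eq_inv_iff_mul_eq_one, ← pow_add] at e2
    have e3 : (l * l - 1) * (l * l - 1) = 0 := by
      have := congrArg Units.val e2
      rw [Units.val_pow_eq_pow_val, hL, Units.val_mk0, Units.val_one] at this
      linear_combination this + (1 - l * l) * h2
    exact hl2 (sub_eq_zero.1 (mul_self_eq_zero.1 e3))
  have hcomm := congrArg Subtype.val (P.comm_of_invol hφ1 hwN hwX (mul_self hwo) hlX hxX)
  simp only [Subgroup.coe_mul, hlA, hwA, huA, w, semi_mul', mapGL_one, mul_one] at hcomm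
  obtain ⟨c, hc⟩ := entries hcomm
  have c11 := hc 1 1
  have c01 := hc 0 1
  simp [W_coe, U_coe, dg_coe, Matrix.mul_apply, Fin.sum_univ_two, hL] at c11 c01
  refine hl2 ?_
  rw [show c = 1 by first
    | exact c11.symm
    | exact c11
    | (field_simp at c11; linear_combination -c11)
    | (field_simp at c11; linear_combination c11), one_mul] at c01
  field_simp at c01
  first
    | exact c01
    | exact c01.symm
    | linear_combination c01
    | linear_combination -c01

/-- No twisted field involution. -/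
theorem false_twisted {A : Subgroup (MulAut PSL2)} (P : Part A)
    (hnil : ∀ g : A, g ≠ 1 → Group.IsNilpotent (P.comp g)) (hA : Cfsg.Inn PSL2 ≤ A)
    (hodd : Odd (Fintype.card F)) (h5 : 5 ≤ Fintype.card F) {σ : F ≃+* F}
    (hσ : orderOf σ = 2) {ν : Fˣ} (hν : ∀ x : Fˣ, x ∈ Subgroup.zpowers ν)
    (hmem : (semi (dg ν 1) σ : MulAut PSL2) ∈ A) : False := by
  classical
  have hσσ : σ * σ = 1 := by rw [← pow_two, ← hσ, pow_orderOf_eq_one]
  have hσ1 : σ ≠ 1 := fun e => by rw [e, orderOf_one] at hσ; exact absurd hσ (by norm_num)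
  have h2 : (2 : F) ≠ 0 := Ring.two_ne_zero fun hc =>
    Nat.not_even_iff_odd.2 hodd (Nat.even_iff.2 (FiniteField.even_card_iff_char_two.1 hc))
  have hall : ∀ x : Fˣ, ∀ μ : Fˣ, sU σ ν = μ → ∃ k : ℤ, x = ν ^ k ∧ sU σ x = μ ^ k := by
    intro x μ hμ
    obtain ⟨k, hk⟩ := Subgroup.mem_zpowers_iff.1 (hν x)
    exact ⟨k, hk.symm, by rw [← hk, map_zpow, hμ]⟩
  have hne : sU σ ν ≠ ν := by
    intro e
    refine hσ1 (RingEquiv.ext fun x => ?_)
    by_cases hx : x = 0
    · simp [hx]
    obtain ⟨k, hk, hk'⟩ := hall (Units.mk0 x hx) ν e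
    rw [← hk] at hk'
    exact congrArg Units.val hk'
  have hν1' : (1 : F) + ν ≠ 0 := fun e => hne (Units.ext (by
    rw [sU_coe, eq_neg_of_add_eq_zero_right e, map_neg, map_one]))
  set N : Fˣ := ν * sU σ ν with hN
  have hN1 : N ≠ 1 := by
    intro e
    have hinv : sU σ ν = ν⁻¹ := eq_inv_of_mul_eq_one_right e
    obtain ⟨k, hk, hk'⟩ := hall (Units.mk0 _ hν1') ν⁻¹ hinv
    rw [_root_.inv_zpow, ← hk] at hk'
    have e1 : σ (1 + ν) * (1 + (ν : F)) = 1 :=
      congrArg Units.val (mul_eq_one_iff_eq_inv.2 hk')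
    have e2 : σ (ν : F) * ν = 1 := by
      rw [← sU_coe, ← Units.val_mul, mul_comm, ← hN, e, Units.val_one]
    rw [map_add, map_one] at e1
    have e3 : (ν : F) ^ 3 = 1 := by
      linear_combination ((ν : F) - 1) * ν * e1 - ((ν : F) - 1) * (1 + ν) * e2
    have h4 : orderOf ν ∣ 3 := orderOf_dvd_of_pow_eq_one (Units.ext (by
      rw [Units.val_pow_eq_pow_val, e3, Units.val_one]))
    rw [orderOf_eq_card_of_forall_mem_zpowers hν, Nat.card_units, Nat.card_eq_fintype_card] at h4
    have := Nat.le_of_dvd (by norm_num) h4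
    omega
  set φ : A := ⟨semi (dg ν 1) σ, hmem⟩ with hφ
  set wA : A := ⟨w, w_mem hA⟩ with hwA
  have hwo : orderOf wA = 2 := by rw [Subgroup.orderOf_mk, orderOf_w]
  have hφ2 : ((φ ^ 2 : A) : MulAut PSL2) = semi (dg N 1) 1 := by
    rw [SubmonoidClass.coe_pow, pow_two, hφ, semi_mul', mapGL_dg, dg_mul, map_one, mul_one, hσσ, hN]
  have hφ21 : φ ^ 2 ≠ 1 := fun e => hN1 (semi_dg_eq_one.1 (hφ2.symm.trans (by rw [e]; rfl)))
  have hφ1 : φ ≠ 1 := fun e => hφ21 (by rw [e, one_pow])
  have hφ2X : φ ^ 2 ∈ P.comp φ := pow_mem (P.mem φ) 2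
  have hinv : wA * φ ^ 2 * wA⁻¹ = (φ ^ 2)⁻¹ := Subtype.ext (by
    rw [Subgroup.coe_mul, Subgroup.coe_mul, Subgroup.coe_inv, Subgroup.coe_inv, hφ2]
    have e1 : w * semi (dg N 1) 1 = (semi (dg 1 N) 1 : MulAut PSL2) * w := by
      rw [w, semi_mul', semi_mul', mapGL_one, mapGL_one, W_mul_dg]
    rw [e1, mul_inv_cancel_right, eq_inv_iff_mul_eq_one, semi_mul', mapGL_one, mul_one, dg_mul,
      semi_dg_eq_one, one_mul, mul_one])
  have hwN : wA ∈ Subgroup.normalizer (P.comp φ : Set A) :=
    P.mem_normalizer_of_meet hφ1 hφ2X hφ21 (hinv ▸ inv_mem hφ2X)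
  have hwX : wA ∈ P.comp φ := by
    by_contra hwX
    have e := congrArg Subtype.val (P.inv_of_invol hφ1 hwN hwX (mul_self hwo) (P.mem φ))
    rw [Subgroup.coe_mul, Subgroup.coe_mul, Subgroup.coe_inv, Subgroup.coe_inv,
      eq_inv_iff_mul_eq_one] at e
    change (w : MulAut PSL2) * semi (dg ν 1) σ * w⁻¹ * semi (dg ν 1) σ = 1 at e
    have hwφ : (w : MulAut PSL2) * semi (dg ν 1) σ * w⁻¹ = semi (dg 1 ν) σ := by
      rw [mul_inv_eq_iff_eq_mul, w, semi_mul', semi_mul', mapGL_one, mapGL_W, W_mul_dg, one_mul,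
        mul_one]
    rw [hwφ, semi_mul', mapGL_dg, dg_mul, map_one, one_mul, mul_one, hσσ, semi_dg_eq_one] at e
    exact hne e
  -- an element inverted by `w` and centralised by it
  have hflip : ∀ μ : Fˣ, Commute (w : MulAut PSL2) (semi (dg μ μ⁻¹) 1) → μ ^ 4 = 1 := by
    intro μ hc
    have e : (w : MulAut PSL2) * semi (dg μ μ⁻¹) 1 = semi (dg μ μ⁻¹) 1 * w := hc
    have e1 : (w : MulAut PSL2) * semi (dg μ μ⁻¹) 1 = semi (dg μ⁻¹ μ) 1 * w := by
      rw [w, semi_mul', semi_mul', mapGL_one, mapGL_one, W_mul_dg]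
    rw [e1, mul_left_inj] at e
    have e' := congrArg (fun x : MulAut PSL2 => semi (dg μ μ⁻¹) 1 * x) e
    simp only [semi_mul', mapGL_one, mul_one, dg_mul, mul_inv_cancel, inv_mul_cancel, dg_one,
      semi_one] at e'
    have e2 := semi_dg_eq_one.1 e'.symm
    rw [← _root_.mul_inv_rev, eq_inv_iff_mul_eq_one] at e2
    rw [pow_succ, pow_succ, pow_succ, pow_one, mul_assoc (μ * μ)]
    exact e2
  have hd : ∀ μ : Fˣ, (semi (dg μ μ⁻¹) 1 : MulAut PSL2) ∈ A := fun μ =>
    mem_of_square hA (by rw [det_dg, mul_inv_cancel]; exact one_mem _)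
  have hcomm : ∀ μ : Fˣ, Commute (φ ^ 2) (⟨_, hd μ⟩ : A) := fun μ => Subtype.ext (by
    rw [Subgroup.coe_mul, Subgroup.coe_mul, hφ2]
    rw [semi_mul', semi_mul', mapGL_one, mapGL_one, dg_mul, dg_mul, mul_comm N μ, mul_comm 1 μ⁻¹])
  by_cases hodd' : ∃ r : ℕ, r.Prime ∧ r ≠ 2 ∧ r ∣ Fintype.card Fˣ
  · obtain ⟨r, hr, hr2, hrd⟩ := hodd'
    haveI : Fact r.Prime := ⟨hr⟩
    obtain ⟨μ, hμ⟩ := exists_prime_orderOf_dvd_card r hrd
    have hμ1 : μ ≠ 1 := fun e => hr.ne_one (by rw [← hμ, e, orderOf_one])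
    have hμ2 : ∀ {k : ℕ}, μ ^ k = 1 → k ≤ 4 → k ≠ 0 → r ≤ 4 := fun {k} e h4 h0 =>
      (Nat.le_of_dvd (Nat.pos_of_ne_zero h0) (hμ ▸ orderOf_dvd_of_pow_eq_one e)).trans h4
    set tA : A := ⟨_, hd μ⟩ with htA
    have hto : orderOf (tA : MulAut PSL2) = r := by
      refine orderOf_eq_prime ?_ fun e => ?_
      · rw [htA]
        show (semi (dg μ μ⁻¹) 1 : MulAut PSL2) ^ r = 1
        rw [semi_pow_one, dg_pow, semi_dg_eq_one, inv_pow, ← hμ, pow_orderOf_eq_one, inv_one]
      · have e2 : μ * μ = 1 := eq_inv_iff_mul_eq_one.1 (semi_dg_eq_one.1 e)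
        rw [← pow_two] at e2
        have := hμ ▸ orderOf_dvd_of_pow_eq_one e2
        exact hr2 ((Nat.prime_dvd_prime_iff_eq hr Nat.prime_two).1 this)
    by_cases htX : tA ∈ P.comp φ
    · refine false_of_both P hnil hφ1 hwX htX ?_ fun hc => ?_
      · rw [hto, orderOf_w]
        exact (Nat.coprime_primes Nat.prime_two hr).2 (Ne.symm hr2)
      · have h4 := hμ ▸ orderOf_dvd_of_pow_eq_one (hflip μ hc)
        exact hr2 ((Nat.prime_dvd_prime_iff_eq hr Nat.prime_two).1
          (hr.dvd_of_dvd_pow (show r ∣ 2 ^ 2 from h4)))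
    · have htX' : tA ∉ P.comp (φ ^ 2) := by rwa [P.comp_pow hφ1 hφ21]
      have htA1 : tA ≠ 1 := fun e => htX (e ▸ one_mem _)
      have ho : orderOf (φ ^ 2) = r := by
        rw [(P.prime_of_commute hφ21 htA1 (hcomm μ) htX').1, ← Subgroup.orderOf_coe, hto]
      have hco : Commute wA (φ ^ 2) := CN.commute_of_coprime (hnil φ hφ1) hwX hφ2X (by
        rw [ho, hwo]
        exact (Nat.coprime_primes Nat.prime_two hr).2 (Ne.symm hr2))
      rw [hco.eq, mul_inv_cancel_right, eq_inv_iff_mul_eq_one, ← pow_two] at hinv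
      exact hr2 ((Nat.prime_dvd_prime_iff_eq hr Nat.prime_two).1
        (ho ▸ orderOf_dvd_of_pow_eq_one hinv))
  -- the field with nine elements
  push Not at hodd'
  obtain ⟨K, hK, hKc⟩ := exists_fixed_field σ
  rw [hσ] at hKc
  have h9 : Fintype.card F = 9 := by
    obtain ⟨k, hk⟩ : ∃ k, Fintype.card Fˣ = 2 ^ k :=
      ⟨_, Nat.eq_prime_pow_of_unique_prime_dvd Fintype.card_ne_zero fun {d} hd hdd => by
        by_contra h; exact hodd' d hd h hdd⟩
    rw [Fintype.card_units, hKc] at hk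
    set m := Nat.card K with hm
    have hm3 : 3 ≤ m := by
      by_contra hlt
      have h1 : 1 < Nat.card K := Finite.one_lt_card
      have : m = 2 := by omega
      rw [this] at hKc
      omega
    have hfac : (m - 1) * (m + 1) = 2 ^ k := by
      rw [← hk, mul_comm, ← Nat.sq_sub_sq, one_pow]
    obtain ⟨a, -, ha⟩ := (Nat.dvd_prime_pow Nat.prime_two).1 (hfac ▸ dvd_mul_right (m - 1) (m + 1))
    obtain ⟨b, -, hb⟩ := (Nat.dvd_prime_pow Nat.prime_two).1 (hfac ▸ dvd_mul_left (m + 1) (m - 1))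
    have hb4 : 4 ∣ 2 ^ b := by
      refine (show 4 ∣ 2 ^ 2 by norm_num).trans (pow_dvd_pow 2 ?_)
      by_contra hb2
      have := Nat.pow_le_pow_right (show 1 ≤ 2 by norm_num) (show b ≤ 1 by omega)
      omega
    have ha2 : a ≤ 1 := by
      by_contra ha2
      have : 4 ∣ 2 ^ a := (show 4 ∣ 2 ^ 2 by norm_num).trans (pow_dvd_pow 2 (by omega))
      omega
    have : 2 ^ a ≤ 2 := by
      calc 2 ^ a ≤ 2 ^ 1 := Nat.pow_le_pow_right (by norm_num) ha2
        _ = 2 := rfl
    have : m = 3 := by omega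
    rw [this] at hKc
    simpa using hKc
  have h3 : (3 : F) = 0 := by
    have := FiniteField.cast_card_eq_zero F
    rw [h9] at this
    exact mul_self_eq_zero.1 (show (3 : F) * 3 = 0 by rw [← this]; norm_num)
  have hνo : orderOf ν = 8 := by
    rw [orderOf_eq_card_of_forall_mem_zpowers hν, Nat.card_units, Nat.card_eq_fintype_card, h9]
  set I : Fˣ := ν ^ 2 with hI
  set i : F := (I : F) with hidef
  have hi : i * i = -1 := by
    have h8 : (ν : F) ^ 8 = 1 := by
      rw [← Units.val_pow_eq_pow_val, ← hνo, pow_orderOf_eq_one, Units.val_one]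
    have hne4 : (ν : F) ^ 4 ≠ 1 := fun e => by
      have := orderOf_dvd_of_pow_eq_one (x := ν) (n := 4)
        (Units.ext (by rw [Units.val_pow_eq_pow_val, e, Units.val_one]))
      rw [hνo] at this
      exact absurd this (by norm_num)
    have : i * i = (ν : F) ^ 4 := by rw [hidef, hI, Units.val_pow_eq_pow_val]; ring
    rw [this]
    exact (mul_self_eq_one_iff.1 (by rw [← h8]; ring)).resolve_left hne4
  have hinvI : ((I⁻¹ : Fˣ) : F) = -i := by
    rw [Units.val_inv_eq_inv_val, ← hidef]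
    exact inv_eq_of_mul_eq_one_right (by linear_combination -hi)
  have hdet : (1 : F) * 1 - i * i ≠ 0 := by
    rw [hi]; exact fun e => h2 (by linear_combination e)
  set g : GL2 := Matrix.GeneralLinearGroup.mkOfDetNeZero !![1, i; i, 1] (by
    rwa [Matrix.det_fin_two_of]) with hg
  have hgc : ((g : GL2) : Matrix (Fin 2) (Fin 2) F) = !![1, i; i, 1] := rfl
  set g' : GL2 := Matrix.GeneralLinearGroup.mkOfDetNeZero !![1, -i; -i, 1] (by
    rw [Matrix.det_fin_two_of]; simpa using hdet) with hg'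
  have hg'c : ((g' : GL2) : Matrix (Fin 2) (Fin 2) F) = !![1, -i; -i, 1] := rfl
  have hgmem : (semi g 1 : MulAut PSL2) ∈ A := mem_of_square hA ⟨I, Units.ext (by
    rw [powMonoidHom_apply, Units.val_pow_eq_pow_val, GeneralLinearGroup.val_det_apply, hgc,
      Matrix.det_fin_two_of, ← hidef]
    linear_combination 2 * hi - h3)⟩
  have hgg : (semi g 1 : MulAut PSL2)⁻¹ = semi g' 1 := by
    refine inv_eq_of_mul_eq_one_right ?_
    rw [semi_mul', mapGL_one, mul_one, semi_eq_one_iff le_rfl]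
    refine ⟨rfl, Units.mk0 2 h2, Units.ext ?_⟩
    rw [Units.val_mul, hgc, hg'c]
    show _ = Matrix.scalar (Fin 2) (2 : F)
    ext r s
    fin_cases r <;> fin_cases s <;> simp [Matrix.mul_apply, Fin.sum_univ_two] <;>
      first
        | linear_combination -hi
        | linear_combination hi
  set tA : A := ⟨_, hd ν⟩ with htA
  have ht2 : ((tA ^ 2 : A) : MulAut PSL2) = semi (dg I I⁻¹) 1 := by
    rw [SubmonoidClass.coe_pow, htA]
    show (semi (dg ν ν⁻¹) 1 : MulAut PSL2) ^ 2 = _
    rw [semi_pow_one, dg_pow, inv_pow, hI]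
  have hI1 : (1 : F) + i ≠ 0 := fun e => h2 (by linear_combination (i - 1) * (-e) + hi)
  have ht21 : tA ^ 2 ≠ 1 := fun e => by
    have := semi_dg_eq_one.1 (ht2.symm.trans (by rw [e]; rfl))
    have := congrArg Units.val this
    rw [hinvI, ← hidef] at this
    exact h2 (by linear_combination (-i) * this + 2 * hi)
  have ht4 : tA ^ 4 = 1 := Subtype.ext (by
    rw [show (4 : ℕ) = 2 * 2 from rfl, pow_mul, SubmonoidClass.coe_pow, ht2, semi_pow_one, dg_pow,
      Subgroup.coe_one, semi_dg_eq_one, inv_pow, eq_inv_iff_mul_eq_one, ← pow_add]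
    refine Units.ext ?_
    rw [Units.val_pow_eq_pow_val, Units.val_one]
    show i ^ 4 = 1
    linear_combination (i * i - 1) * hi)
  have ht1 : tA ≠ 1 := fun e => ht21 (by rw [e, one_pow])
  have htX : tA ∈ P.comp φ := by
    by_contra htX
    have htX' : tA ∉ P.comp (φ ^ 2) := by rwa [P.comp_pow hφ1 hφ21]
    obtain ⟨e, hp⟩ := P.prime_of_commute hφ21 ht1 (hcomm ν) htX'
    rw [e] at hp
    have := orderOf_dvd_of_pow_eq_one ht4
    have hp2 := (Nat.prime_dvd_prime_iff_eq hp Nat.prime_two).1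
      (hp.dvd_of_dvd_pow (show orderOf tA ∣ 2 ^ 2 from this))
    have e4 := pow_orderOf_eq_one tA
    rw [hp2] at e4
    exact ht21 e4
  set gA : A := ⟨_, hgmem⟩ with hgA
  have hconj : gA * tA ^ 2 * gA⁻¹ = wA := Subtype.ext (by
    rw [Subgroup.coe_mul, Subgroup.coe_mul, Subgroup.coe_inv, ht2, mul_inv_eq_iff_eq_mul]
    show (semi g 1 : MulAut PSL2) * semi (dg I I⁻¹) 1 = semi W 1 * semi g 1
    rw [semi_mul', semi_mul', mapGL_one, mapGL_one]
    congr 1
    refine Units.ext ?_
    rw [Units.val_mul, Units.val_mul, hgc, dg_coe, W_coe, hinvI, ← hidef]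
    ext r s
    fin_cases r <;> fin_cases s <;> simp [Matrix.mul_apply, Fin.sum_univ_two] <;>
      first
        | linear_combination hi
        | linear_combination -hi)
  have hgN : gA ∈ Subgroup.normalizer (P.comp φ : Set A) :=
    P.mem_normalizer_of_meet hφ1 (pow_mem htX 2) ht21 (hconj ▸ hwX)
  set xA : A := tA * (gA * tA * gA⁻¹) with hxA
  have hxX : xA ∈ P.comp φ := mul_mem htX (P.conj_mem hgN htX)
  have hxc : ∃ Y : GL2, ((Y : GL2) : Matrix (Fin 2) (Fin 2) F) = !![1 + i, 1 + i; i - 1, 1 - i] ∧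
      (xA : MulAut PSL2) = semi Y 1 := by
    refine ⟨dg ν ν⁻¹ * (g * dg ν ν⁻¹ * g'), ?_, ?_⟩
    · rw [Units.val_mul, Units.val_mul, Units.val_mul, dg_coe, hgc, hg'c]
      have hνν : (ν : F) * ν = i := by rw [hidef, hI, Units.val_pow_eq_pow_val]; ring
      have hνν' : (ν : F)⁻¹ * (ν : F)⁻¹ = -i := by
        rw [← mul_inv, hνν]; exact inv_eq_of_mul_eq_one_right (by linear_combination -hi)
      have hone : (ν : F)⁻¹ * ν = 1 := inv_mul_cancel₀ ν.ne_zero
      ext r s
      fin_cases r <;> fin_cases s <;>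
        simp [Matrix.mul_apply, Fin.sum_univ_two, Units.val_inv_eq_inv_val] <;>
        first
          | linear_combination hνν - (i * i) * hone - hi
          | linear_combination (-i) * hνν + i * hone - hi
          | linear_combination i * hone - i * hνν' + hi
          | linear_combination hνν' - (i * i) * hone - hi
    · rw [hxA, Subgroup.coe_mul, Subgroup.coe_mul, Subgroup.coe_mul, Subgroup.coe_inv]
      show (semi (dg ν ν⁻¹) 1 : MulAut PSL2) *
        (semi g 1 * semi (dg ν ν⁻¹) 1 * (semi g 1)⁻¹) = _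
      rw [hgg]
      simp only [semi_mul', mapGL_one, mul_one]
  obtain ⟨Y, hY, hxY⟩ := hxc
  have hY3 : (xA : MulAut PSL2) ^ 3 = 1 := by
    rw [hxY, semi_pow_one, show Y ^ 3 = 1 from Units.ext (by
      rw [pow_succ, pow_succ, pow_one, Units.val_mul, Units.val_mul, Units.val_one, hY]
      ext r s
      fin_cases r <;> fin_cases s <;> simp [Matrix.mul_apply, Fin.sum_univ_two] <;>
        first
          | linear_combination (2 * (1 + i) + 4) * hi - 3 * h3
          | linear_combination (2 * (1 - i) + 4) * hi - 3 * h3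
          | linear_combination (2 * (1 + i)) * hi
          | linear_combination (2 * (i - 1)) * hi)]
    exact semi_one
  have ht4' : (tA : MulAut PSL2) ^ 4 = 1 := by rw [← SubmonoidClass.coe_pow, ht4]; rfl
  refine false_of_both P hnil hφ1 htX hxX ?_ fun hc => ?_
  · exact Nat.Coprime.of_dvd (orderOf_dvd_of_pow_eq_one ht4') (orderOf_dvd_of_pow_eq_one hY3)
      (by norm_num)
  · have e : (semi (dg ν ν⁻¹) 1 : MulAut PSL2) * semi Y 1 = semi Y 1 * semi (dg ν ν⁻¹) 1 := by
      rw [← hxY]; exact hc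
    simp only [semi_mul', mapGL_one, mul_one] at e
    obtain ⟨c, hc⟩ := entries e
    have c00 := hc 0 0
    have c01 := hc 0 1
    simp [hY, dg_coe, Matrix.mul_apply, Fin.sum_univ_two] at c00 c01
    have hν0 : (ν : F) ≠ 0 := ν.ne_zero
    have hc1 : c = 1 := by
      have : (c - 1) * ((1 + i) * ν) = 0 := by linear_combination -c00
      exact sub_eq_zero.1 ((mul_eq_zero.1 this).resolve_right (mul_ne_zero hI1 hν0))
    subst hc1
    field_simp at c01
    have : (ν : F) * ν = 1 := by
      first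
        | linear_combination c01
        | linear_combination -c01
        | exact mul_left_cancel₀ hI1 (by linear_combination c01)
        | exact mul_left_cancel₀ hI1 (by linear_combination -c01)
    have hii : i = 1 := by rw [hidef, hI, Units.val_pow_eq_pow_val, pow_two, this]
    rw [hii] at hi
    exact h2 (by linear_combination hi)

/-- All elements have trivial field part. -/
theorem fld_trivial {A : Subgroup (MulAut PSL2)} (P : Part A)
    (hnil : ∀ g : A, g ≠ 1 → Group.IsNilpotent (P.comp g)) (hA : Cfsg.Inn PSL2 ≤ A)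
    (h5 : 5 ≤ Fintype.card F) {β : MulAut PSL2} (hβ : β ∈ A) :
    GW.fldHom β = 1 := by
  haveI : Finite (F ≃+* F) :=
    Finite.of_injective (fun e : F ≃+* F => (e : F → F)) DFunLike.coe_injective
  by_contra hne
  obtain ⟨e, he, hed⟩ := Nat.exists_prime_and_dvd
    (n := orderOf (GW.fldHom β)) fun e' => hne (orderOf_eq_one_iff.1 e')
  obtain ⟨σ, g, hmem, hσ⟩ : ∃ (σ : F ≃+* F) (g : GL2),
      (semi g σ : MulAut PSL2) ∈ A ∧ orderOf σ = e := by
    obtain ⟨m, hm⟩ := hed
    have hm0 : m ≠ 0 := fun e0 => by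
      rw [e0, mul_zero] at hm
      exact (orderOf_pos (GW.fldHom β)).ne' hm
    obtain ⟨g, σ, hg⟩ := GW.exists_semi (β ^ m)
    refine ⟨σ, g, hg ▸ pow_mem hβ m, ?_⟩
    rw [← GW.fldHom_semi g σ, ← hg, map_pow, orderOf_pow' _ hm0, hm,
      Nat.gcd_eq_right (dvd_mul_left m e), Nat.mul_div_cancel _ (Nat.pos_of_ne_zero hm0)]
  -- reduction to a standard automorphism
  have std : ∀ τ : F ≃+* F, orderOf τ = e → (semi 1 τ : MulAut PSL2) ∈ A → False := by
    intro τ hτ hτm
    by_cases h : e = 2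
    · exact false_two P hnil hA (by omega) (hτ.trans h) hτm
    · exact false_odd P hnil hA he h hτ hτm
  by_cases hsq : GeneralLinearGroup.det g ∈ sq2
  · have := normalise hA (δ := 1) hmem (by rwa [inv_one, mul_one])
    rw [dg_one] at this
    exact std σ hσ this
  have hodd : Odd (Fintype.card F) := by
    by_contra hev
    obtain ⟨y, hy⟩ := FiniteField.isSquare_of_char_two (F := F)
      (FiniteField.even_card_iff_char_two.2 (Nat.even_iff.1 (Nat.not_odd_iff_even.1 hev)))
      (GeneralLinearGroup.det g : F)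
    have hy0 : y ≠ 0 := fun e0 => (GeneralLinearGroup.det g).ne_zero (by rw [hy, e0, mul_zero])
    exact hsq ⟨Units.mk0 y hy0, Units.ext (by
      rw [powMonoidHom_apply, Units.val_pow_eq_pow_val, Units.val_mk0, hy, pow_two])⟩
  have hidx : (sq2).index = 2 := by
    rw [Subgroup.index_eq_card, card_quotient_powMonoidHom rfl]
    obtain ⟨k, hk⟩ := hodd
    rw [hk, Nat.add_sub_cancel]
    exact Nat.gcd_eq_left (dvd_mul_right 2 k)
  obtain ⟨ν, hν⟩ := IsCyclic.exists_generator (α := Fˣ)
  have hνsq : ν ∉ sq2 := by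
    intro hmem'
    have : sq2 = ⊤ := top_unique fun x _ => by
      obtain ⟨k, hk⟩ := Subgroup.mem_zpowers_iff.1 (hν x)
      exact hk ▸ zpow_mem hmem' k
    rw [this, Subgroup.index_top] at hidx
    exact absurd hidx (by norm_num)
  have hδ : (semi (dg ν 1) σ : MulAut PSL2) ∈ A := normalise hA hmem
    ((Subgroup.mul_mem_iff_of_index_two hidx).2 (iff_of_false hsq fun hh => hνsq (inv_mem_iff.1 hh)))
  by_cases he2 : e = 2
  · exact false_twisted P hnil hA hodd h5 (hσ.trans he2) hν hδ
  have hsν : sU σ ν ∉ sq2 := by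
    rintro ⟨y, hy⟩
    refine hνsq ⟨sU σ.symm y, Units.ext ?_⟩
    have hy' : (y : F) ^ 2 = σ ν := congrArg Units.val hy
    show (σ.symm (y : F)) ^ 2 = (ν : F)
    rw [← map_pow, hy', RingEquiv.symm_apply_apply]
  have h2m := mul_mem hδ hδ
  rw [semi_mul', mapGL_dg, dg_mul, map_one, mul_one] at h2m
  have := normalise hA (δ := 1) h2m (by
    rw [det_dg, inv_one, mul_one, mul_one]
    exact (Subgroup.mul_mem_iff_of_index_two hidx).2 (iff_of_false hνsq hsν))
  rw [dg_one] at this
  refine std (σ * σ) ?_ this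
  rw [← pow_two, Nat.Coprime.orderOf_pow (by
    rw [hσ]; exact (Nat.coprime_primes he Nat.prime_two).2 he2), hσ]

end AutField

end Cfsg.Agent.Partition
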