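import Cfsg.Agent.S3946
import Cfsg.Prelude.Def_Solvable

/-!
# Groups with a non-trivial partition

A normal partition is recorded by the function sending an element to its member.
-/

set_option autoImplicit false
set_option linter.style.haveILetI false
set_option linter.unusedSectionVars false

namespace Cfsg.Agent.Partition

universe u

variable {G : Type u} [Group G]

/-- A normal non-trivial partition. -/
structure Part (G : Type u) [Group G] where
  /-- The member containing an element. -/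
  comp : G → Subgroup G
  mem : ∀ g, g ∈ comp g
  eq : ∀ {g h : G}, g ≠ 1 → h ≠ 1 → h ∈ comp g → comp h = comp g
  conj : ∀ (a g : G), g ≠ 1 → comp (a * g * a⁻¹) = (comp g).map (MulAut.conj a).toMonoidHom
  ne_top : ∀ g, g ≠ 1 → comp g ≠ ⊤

theorem mem_map_conj {K : Subgroup G} {a x : G} :
    x ∈ K.map (MulAut.conj a).toMonoidHom ↔ a⁻¹ * x * a ∈ K := by
  constructor
  · rintro ⟨y, hy, rfl⟩
    simpa [mul_assoc] using hy
  · intro h
    exact ⟨_, h, by simp [mul_assoc]⟩

/-- Every partition refines to a normal one. -/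
theorem exists_part (S : Set (Subgroup G)) (hS2 : ∃ H ∈ S, ∃ K ∈ S, H ≠ K) (hS1 : ∀ H ∈ S, H ≠ ⊥)
    (hpart : ∀ g : G, g ≠ 1 → ∃! H : Subgroup G, H ∈ S ∧ g ∈ H) : Nonempty (Part G) := by
  classical
  let Q : G → Subgroup G := fun g =>
    { carrier := {x | ∀ a : G, ∀ H ∈ S, a * g * a⁻¹ ∈ H → a * x * a⁻¹ ∈ H}
      one_mem' := fun a H _ _ => by simp
      mul_mem' := fun {x y} hx hy a H hH hg => by
        have := H.mul_mem (hx a H hH hg) (hy a H hH hg)
        rwa [show a * x * a⁻¹ * (a * y * a⁻¹) = a * (x * y) * a⁻¹ by group] at this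
      inv_mem' := fun {x} hx a H hH hg => by
        have := H.inv_mem (hx a H hH hg)
        rwa [show (a * x * a⁻¹)⁻¹ = a * x⁻¹ * a⁻¹ by group] at this }
  have hQ : ∀ {g x : G}, x ∈ Q g ↔ ∀ a : G, ∀ H ∈ S, a * g * a⁻¹ ∈ H → a * x * a⁻¹ ∈ H := Iff.rfl
  refine ⟨⟨Q, fun g => hQ.2 fun a H _ h => h, ?_, ?_, ?_⟩⟩
  · intro g h hg hh hhg
    have key : ∀ a : G, ∀ H ∈ S, a * h * a⁻¹ ∈ H ↔ a * g * a⁻¹ ∈ H := by
      intro a H hH
      obtain ⟨K, ⟨hK, hgK⟩, -⟩ := hpart (a * g * a⁻¹) fun e => hg (conj_eq_one_iff.1 e)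
      obtain ⟨L, -, huniq⟩ := hpart (a * h * a⁻¹) fun e => hh (conj_eq_one_iff.1 e)
      refine ⟨fun e => ?_, fun e => hQ.1 hhg a H hH e⟩
      rwa [(huniq H ⟨hH, e⟩).trans (huniq K ⟨hK, hQ.1 hhg a K hK hgK⟩).symm]
    ext x
    exact ⟨fun e => hQ.2 fun a H hH hgH => hQ.1 e a H hH ((key a H hH).2 hgH),
      fun e => hQ.2 fun a H hH hgH => hQ.1 e a H hH ((key a H hH).1 hgH)⟩
  · intro b g _
    ext x
    rw [mem_map_conj]
    constructor
    · intro e
      refine hQ.2 fun a H hH hgH => ?_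
      have := hQ.1 e (a * b⁻¹) H hH (by
        rwa [show a * b⁻¹ * (b * g * b⁻¹) * (a * b⁻¹)⁻¹ = a * g * a⁻¹ by group])
      rwa [show a * (b⁻¹ * x * b) * a⁻¹ = a * b⁻¹ * x * (a * b⁻¹)⁻¹ by group]
    · intro e
      refine hQ.2 fun a H hH hgH => ?_
      have := hQ.1 e (a * b) H hH (by
        rwa [show a * b * g * (a * b)⁻¹ = a * (b * g * b⁻¹) * a⁻¹ by group])
      rwa [show a * x * a⁻¹ = a * b * (b⁻¹ * x * b) * (a * b)⁻¹ by group]
  · intro g hg e
    obtain ⟨H, ⟨hH, hgH⟩, -⟩ := hpart g hg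
    have htop : ∀ x : G, x ∈ H := fun x => by
      have := hQ.1 (e ▸ Subgroup.mem_top x) 1 H hH (by simpa using hgH)
      simpa using this
    have : ∀ K ∈ S, K = H := fun K hK => by
      obtain ⟨⟨k, hk⟩, hk1⟩ := Subgroup.ne_bot_iff_exists_ne_one.1 (hS1 K hK)
      obtain ⟨L, -, huniq⟩ := hpart k fun e => hk1 (Subtype.ext e)
      exact (huniq K ⟨hK, hk⟩).trans (huniq H ⟨hH, htop k⟩).symm
    obtain ⟨A, hA, B, hB, hne⟩ := hS2
    exact hne ((this A hA).trans (this B hB).symm)

namespace Part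

variable (P : Part G)

theorem eq_of_mem_mem {x y z : G} (hx : x ≠ 1) (hy : y ≠ 1) (hz : z ≠ 1) (hxy : z ∈ P.comp x)
    (hyz : z ∈ P.comp y) : P.comp x = P.comp y :=
  (P.eq hx hz hxy).symm.trans (P.eq hy hz hyz)

theorem mem_of_mem {x y : G} (hx : x ≠ 1) (hy : y ≠ 1) (h : y ∈ P.comp x) : x ∈ P.comp y :=
  (P.eq hx hy h).symm ▸ P.mem x

theorem comp_pow {g : G} (hg : g ≠ 1) {k : ℕ} (hk : g ^ k ≠ 1) : P.comp (g ^ k) = P.comp g :=
  P.eq hg hk (pow_mem (P.mem g) k)

theorem mem_of_pow_mem {g x : G} (hx : x ≠ 1) {k : ℕ} (hk : g ^ k ≠ 1) (h : g ^ k ∈ P.comp x) :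
    g ∈ P.comp x := by
  have hg : g ≠ 1 := fun e => hk (by rw [e, one_pow])
  rw [← P.eq hx hk h, P.comp_pow hg hk]
  exact P.mem g

/-- The key lemma: commuting elements of different members have the same prime order. -/
theorem prime_of_commute [Finite G] {g h : G} (hg : g ≠ 1) (hh : h ≠ 1) (hc : Commute g h)
    (hn : h ∉ P.comp g) : orderOf g = orderOf h ∧ (orderOf g).Prime := by
  have hng : g ∉ P.comp h := fun e => hn (P.mem_of_mem hh hg e)
  have hghg : g * h ∉ P.comp g := fun e => hn (by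
    simpa using mul_mem (inv_mem (P.mem g)) e)
  have hghh : g * h ∉ P.comp h := fun e => hng (by
    simpa using mul_mem e (inv_mem (P.mem h)))
  have hd : ∀ {a b : G}, a ≠ 1 → a * b ∉ P.comp a → Commute a b → orderOf a ∣ orderOf b := by
    intro a b ha hab hcab
    refine orderOf_dvd_of_pow_eq_one (by_contra fun e => hab ?_)
    refine P.mem_of_pow_mem ha (k := orderOf b) ?_ ?_ <;>
      rw [hcab.mul_pow, pow_orderOf_eq_one, mul_one]
    · exact e
    · exact pow_mem (P.mem a) _
  have heq : orderOf g = orderOf h := Nat.dvd_antisymm (hd hg hghg hc)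
    (hd hh (hc.eq ▸ hghh) hc.symm)
  refine ⟨heq, Nat.prime_def.2 ⟨?_, fun d hdv => ?_⟩⟩
  · have h1 := orderOf_pos g
    have h2 : orderOf g ≠ 1 := fun e => hg (orderOf_eq_one_iff.1 e)
    omega
  by_contra hcon
  push Not at hcon
  obtain ⟨hd1, hd2⟩ := hcon
  have hd0 : d ≠ 0 := fun e => by
    have := orderOf_pos g
    rw [e, zero_dvd_iff] at hdv
    omega
  have ho : orderOf (g ^ d) = orderOf g / d := orderOf_pow_of_dvd hd0 hdv
  have hlt : orderOf g / d < orderOf g := Nat.div_lt_self (orderOf_pos g) (by omega)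
  have hgd : g ^ d ≠ 1 := fun e => hd2 (Nat.dvd_antisymm hdv (orderOf_dvd_of_pow_eq_one e))
  have hn' : h ∉ P.comp (g ^ d) := by rwa [P.comp_pow hg hgd]
  have hghd : g ^ d * h ∉ P.comp (g ^ d) := fun e => hn' (by
    simpa using mul_mem (inv_mem (P.mem (g ^ d))) e)
  have hghd' : h * g ^ d ∉ P.comp h := fun e => by
    have : g ^ d ∈ P.comp h := by simpa using mul_mem (inv_mem (P.mem h)) e
    exact hng (P.mem_of_pow_mem hh hgd this)
  have := Nat.dvd_antisymm (hd hgd hghd (hc.pow_left d)) (hd hh hghd' (hc.pow_left d).symm)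
  omega

theorem cent_le [Finite G] {g : G} (hg : g ≠ 1) (hp : ¬ (orderOf g).Prime) :
    Subgroup.centralizer ({g} : Set G) ≤ P.comp g := fun h hh => by
  by_cases h1 : h = 1
  · subst h1; exact one_mem _
  by_contra hn
  exact hp (P.prime_of_commute hg h1 (Subgroup.mem_centralizer_singleton_iff.1 hh).symm hn).2

theorem mem_of_commute [Finite G] {g h : G} (hg : g ≠ 1) (hc : Commute g h)
    (hne : orderOf g ≠ orderOf h) : h ∈ P.comp g := by
  by_cases h1 : h = 1
  · subst h1; exact one_mem _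
  by_contra hn
  exact hne (P.prime_of_commute hg h1 hc hn).1

theorem mem_normalizer_of_meet [Finite G] {g a x : G} (hg : g ≠ 1) (hx : x ∈ P.comp g) (hx1 : x ≠ 1)
    (hax : a * x * a⁻¹ ∈ P.comp g) : a ∈ Subgroup.normalizer (P.comp g : Set G) := by
  rw [Subgroup.mem_normalizer_iff_map_conj_eq]
  have h := P.conj a x hx1
  rw [P.eq hg (fun e => hx1 (conj_eq_one_iff.1 e)) hax, P.eq hg hx1 hx] at h
  exact h.symm

theorem mem_normalizer_of_commute [Finite G] {g a x : G} (hg : g ≠ 1) (hx : x ∈ P.comp g)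
    (hx1 : x ≠ 1) (hc : Commute a x) : a ∈ Subgroup.normalizer (P.comp g : Set G) :=
  P.mem_normalizer_of_meet hg hx hx1 (by rwa [hc.eq, mul_inv_cancel_right])

theorem conj_mem {g a x : G} (ha : a ∈ Subgroup.normalizer (P.comp g : Set G)) (hx : x ∈ P.comp g) :
    a * x * a⁻¹ ∈ P.comp g :=
  (Subgroup.mem_normalizer_iff.1 ha x).1 hx

/-- Powers of an element outside a member stay outside. -/
theorem pow_eq_one_of_mem {g y : G} (hg : g ≠ 1) (hy : y ∉ P.comp g) {k : ℕ}
    (h : y ^ k ∈ P.comp g) : y ^ k = 1 :=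
  by_contra fun e => hy (P.mem_of_pow_mem hg e h)

/-- In a coset of a member in its normaliser all elements have the same order. -/
theorem coset_pow {g y x : G} (hg : g ≠ 1) (hyN : y ∈ Subgroup.normalizer (P.comp g : Set G))
    (hy : y ∉ P.comp g) (hx : x ∈ P.comp g) {k : ℕ} (hk : y ^ k = 1) : (x * y) ^ k = 1 := by
  refine P.pow_eq_one_of_mem hg (fun e => hy (by simpa using mul_mem (inv_mem hx) e)) ?_
  have key : ∀ j : ℕ, (x * y) ^ j * (y ^ j)⁻¹ ∈ P.comp g := by
    intro j
    induction j with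
    | zero => simp
    | succ j ih =>
      have := mul_mem ih (P.conj_mem (pow_mem hyN j) hx)
      rwa [show (x * y) ^ j * (y ^ j)⁻¹ * (y ^ j * x * (y ^ j)⁻¹) =
        (x * y) ^ (j + 1) * (y ^ (j + 1))⁻¹ by rw [pow_succ (x * y), pow_succ y]; group] at this
  simpa [hk] using key k

theorem orderOf_coset [Finite G] {g y x : G} (hg : g ≠ 1)
    (hyN : y ∈ Subgroup.normalizer (P.comp g : Set G)) (hy : y ∉ P.comp g) (hx : x ∈ P.comp g) :
    orderOf (x * y) = orderOf y := by
  refine Nat.dvd_antisymm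
    (orderOf_dvd_of_pow_eq_one (P.coset_pow hg hyN hy hx (pow_orderOf_eq_one y))) ?_
  refine orderOf_dvd_of_pow_eq_one ?_
  have hxy : x * y ∉ P.comp g := fun e => hy (by simpa using mul_mem (inv_mem hx) e)
  have := P.coset_pow hg (mul_mem (Subgroup.le_normalizer hx) hyN) hxy (inv_mem hx)
    (pow_orderOf_eq_one (x * y))
  simpa using this

/-- An involution outside a member normalising it inverts it. -/
theorem inv_of_invol {g y x : G} (hg : g ≠ 1) (hyN : y ∈ Subgroup.normalizer (P.comp g : Set G))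
    (hy : y ∉ P.comp g) (hy2 : y * y = 1) (hx : x ∈ P.comp g) : y * x * y⁻¹ = x⁻¹ := by
  have h := P.coset_pow hg hyN hy hx (k := 2) (by rw [sq, hy2])
  rw [sq] at h
  rw [inv_eq_of_mul_eq_one_right hy2]
  refine eq_inv_of_mul_eq_one_right ?_
  rw [← mul_assoc, ← mul_assoc, ← h]
  group

/-- A member inverted by an involution is abelian. -/
theorem comm_of_invol {g y : G} (hg : g ≠ 1) (hyN : y ∈ Subgroup.normalizer (P.comp g : Set G))
    (hy : y ∉ P.comp g) (hy2 : y * y = 1) {a b : G} (ha : a ∈ P.comp g) (hb : b ∈ P.comp g) :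
    a * b = b * a := by
  have h := P.inv_of_invol hg hyN hy hy2 (mul_mem ha hb)
  rw [show y * (a * b) * y⁻¹ = y * a * y⁻¹ * (y * b * y⁻¹) by group, P.inv_of_invol hg hyN hy hy2 ha,
    P.inv_of_invol hg hyN hy hy2 hb, ← mul_inv_rev] at h
  exact (inv_injective h).symm

theorem prod_pow_aux {H : Type*} [Group H] (x y : H) (n : ℕ) :
    ((List.range n).map fun i : ℕ => y ^ i * x * (y ^ i)⁻¹).prod = (x * y) ^ n * (y ^ n)⁻¹ := by
  induction n with
  | zero => simp
  | succ n ih =>
    rw [List.range_succ, List.map_append, List.prod_append, ih, List.map_singleton,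
      List.prod_singleton, pow_succ (x * y), pow_succ y]
    group

/-- A member smaller than its normaliser is nilpotent. -/
theorem nilpotent_of_normalizer [Finite G] {g : G} (hg : g ≠ 1) {a : G}
    (haN : a ∈ Subgroup.normalizer (P.comp g : Set G)) (ha : a ∉ P.comp g) :
    Group.IsNilpotent (P.comp g) := by
  set X := P.comp g with hX
  have ha1 : a ≠ 1 := fun e => ha (e ▸ one_mem _)
  obtain ⟨p, hp, hpd⟩ := Nat.exists_prime_and_dvd (fun e => ha1 (orderOf_eq_one_iff.1 e))
  set y := a ^ (orderOf a / p) with hy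
  have hyo : orderOf y = p := orderOf_pow_orderOf_div (orderOf_pos a).ne' hpd
  have hy1 : y ≠ 1 := fun e => hp.ne_one (by rw [← hyo, e, orderOf_one])
  have hyN : y ∈ Subgroup.normalizer (X : Set G) := pow_mem haN _
  have hyX : y ∉ X := fun e => ha (P.mem_of_pow_mem hg hy1 e)
  have hyp : y ^ p = 1 := hyo ▸ pow_orderOf_eq_one y
  let ψ : Subgroup.normalizer (X : Set G) →* MulAut X := X.normalizerMonoidHom
  let α : MulAut X := ψ ⟨y, hyN⟩
  have hα : ∀ (i : ℕ) (x : X), ((α ^ i) x : G) = y ^ i * x * (y ^ i)⁻¹ := by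
    intro i x
    rw [show α ^ i = ψ (⟨y, hyN⟩ ^ i) from (map_pow ψ _ i).symm]
    rfl
  have hαp : α ^ p = 1 := by
    refine MulEquiv.ext fun x => Subtype.ext ?_
    rw [hα, hyp, MulAut.one_apply]
    simp
  rcases (Nat.dvd_prime hp).1 (orderOf_dvd_of_pow_eq_one hαp) with h1 | h1
  · haveI := Fact.mk hp
    haveI : IsPGroup p X → Group.IsNilpotent X := fun h => h.isNilpotent
    refine this fun x => ⟨1, Subtype.ext ?_⟩
    have hc : y * x * y⁻¹ = (x : G) := by
      have := hα 1 x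
      rw [orderOf_eq_one_iff.1 h1, one_pow, MulAut.one_apply, pow_one] at this
      exact this.symm
    have hcp := P.coset_pow hg hyN hyX x.2 hyp
    rw [(show Commute (x : G) y from (mul_inv_eq_iff_eq_mul.1 hc).symm).mul_pow, hyp, mul_one] at hcp
    simpa using hcp
  · refine Cfsg.Agent.S3946.result α (h1.symm ▸ hp) fun x => Subtype.ext ?_
    rw [h1, Subgroup.val_list_prod, List.map_map, Subgroup.coe_one]
    simp only [Function.comp_def, hα]
    rw [prod_pow_aux, hyp, inv_one, mul_one]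
    exact P.coset_pow hg hyN hyX x.2 hyp

/-- A self-normalising member is a Frobenius complement. -/
theorem frobenius_of_normalizer [Finite G] {g : G} (hg : g ≠ 1)
    (h : Subgroup.normalizer (P.comp g : Set G) ≤ P.comp g) :
    Cfsg.IsFrobeniusComplement (P.comp g) := by
  refine ⟨fun e => hg (Subgroup.mem_bot.1 (e ▸ P.mem g)), P.ne_top g hg, fun a ha => ?_⟩
  rw [eq_bot_iff]
  intro x hx
  rw [Subgroup.mem_bot]
  by_contra hx1
  obtain ⟨hx2, hx3⟩ := Subgroup.mem_inf.1 hx
  rw [Subgroup.mem_pointwise_smul_iff_inv_smul_mem, ← map_inv, MulAut.smul_def, MulAut.conj_apply,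
    inv_inv] at hx3
  exact ha (h (P.mem_normalizer_of_meet hg hx3
    (fun e => hx1 ((conj_eq_one_iff (a := a⁻¹)).1 (by rwa [inv_inv])))
    (by rwa [show a * (a⁻¹ * x * a) * a⁻¹ = x by group])))

/-- Without Frobenius complements all members are nilpotent. -/
theorem nilpotent [Finite G] (hF : ¬ ∃ H : Subgroup G, Cfsg.IsFrobeniusComplement H) {g : G}
    (hg : g ≠ 1) : Group.IsNilpotent (P.comp g) := by
  obtain ⟨a, haN, ha⟩ : ∃ a ∈ Subgroup.normalizer (P.comp g : Set G), a ∉ P.comp g := by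
    by_contra hcon
    push Not at hcon
    exact hF ⟨_, P.frobenius_of_normalizer hg hcon⟩
  exact P.nilpotent_of_normalizer hg haN ha

/-- The induced partition of a subgroup contained in no member. -/
def restrict (H : Subgroup G) (h : ∀ g : G, g ≠ 1 → ¬ H ≤ P.comp g) : Part H where
  comp g := (P.comp g).subgroupOf H
  mem g := P.mem _
  eq {g g'} hg hg' hm := congrArg (fun K : Subgroup G => K.subgroupOf H)
    (P.eq (fun e => hg (Subtype.ext e)) (fun e => hg' (Subtype.ext e)) hm)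
  conj a g hg := by
    ext x
    rw [mem_map_conj, Subgroup.mem_subgroupOf, Subgroup.mem_subgroupOf]
    push_cast
    rw [P.conj _ _ (fun e => hg (Subtype.ext e)), mem_map_conj]
  ne_top g hg e := h g (fun e' => hg (Subtype.ext e')) (Subgroup.subgroupOf_eq_top.1 e)

/-- Transport along an isomorphism. -/
def map {H : Type*} [Group H] (e : G ≃* H) : Part H where
  comp h := (P.comp (e.symm h)).map e.toMonoidHom
  mem h := ⟨e.symm h, P.mem _, e.apply_symm_apply h⟩
  eq {g g'} hg hg' hm := by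
    obtain ⟨x, hx, rfl⟩ := hm
    simp only [MulEquiv.coe_toMonoidHom, MulEquiv.symm_apply_apply]
    rw [P.eq (fun h => hg (by simpa using congrArg e h)) (fun h => hg' (by simp [h])) hx]
  conj a g hg := by
    ext x
    rw [mem_map_conj, Subgroup.mem_map_equiv, Subgroup.mem_map_equiv, map_mul, map_mul, map_mul,
      map_mul, map_inv, P.conj _ _ (fun h => hg (by simpa using congrArg e h)), mem_map_conj]
  ne_top h hh e' := P.ne_top (e.symm h) (fun h' => hh (by simpa using congrArg e h'))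
    (Subgroup.map_injective (f := e.toMonoidHom) e.injective
      (e'.trans (Subgroup.map_top_of_surjective _ e.surjective).symm))

end Part

end Cfsg.Agent.Partition
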