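import Cfsg.Agent.Lib.Involutions.BaerSuzuki
import Cfsg.Agent.Lib.FiniteGroup.FittingPow
import Cfsg.Agent.Lib.LocalEven.Wielandt
import Cfsg.Agent.Lib.OddChar.OddTheorem
import Mathlib.GroupTheory.FixedPointFree

/-!
# A normal Sylow subgroup from an action with vanishing norms
-/

set_option autoImplicit false
set_option linter.style.haveILetI false
set_option linter.unusedSectionVars false

namespace Cfsg.Agent.Partition

universe u v

variable {A : Type u} [Group A] {V : Type v} [CommGroup V] {p : ℕ}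

/-- The hypotheses: elements of order prime to `p` act freely, elements of order `p` have trivial
norm, and no element of order prime to `p` commutes with a `p`-element. -/
structure NormHyp (A : Type u) [Group A] (V : Type v) [CommGroup V] (φ : A →* MulAut V) (p : ℕ) :
    Prop where
  prime : p.Prime
  nontrivial : Nontrivial V
  exp : ∀ v : V, v ^ p = 1
  fpf : ∀ a : A, a ≠ 1 → (orderOf a).Coprime p → ∀ v : V, φ a v = v → v = 1
  norm : ∀ a : A, a ^ p = 1 → ∀ v : V, ∏ i ∈ Finset.range p, φ (a ^ i) v = 1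
  sep : ∀ a b : A, Commute a b → a ≠ 1 → b ≠ 1 → (∃ k, orderOf a = p ^ k) →
    (orderOf b).Coprime p → False

variable {φ : A →* MulAut V}

/-- No element of order `p` normalises a non-trivial subgroup of order prime to `p`. -/
theorem NormHyp.no_norm [Finite A] (h : NormHyp A V φ p) {y : A} (hy : orderOf y = p) {Q : Subgroup A}
    (hQ : (Nat.card Q).Coprime p) (hQ1 : Q ≠ ⊥) (hyQ : y ∈ Subgroup.normalizer (Q : Set A)) : False := by
  classical
  haveI := Fintype.ofFinite Q
  haveI := h.nontrivial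
  have hp := h.prime
  have hy1 : y ≠ 1 := fun e => hp.ne_one (by rw [← hy, e, orderOf_one])
  have hord : ∀ q : Q, (orderOf (q : A)).Coprime p := fun q =>
    hQ.coprime_dvd_left (Subgroup.orderOf_dvd_natCard Q q.2)
  have hsum : ∀ v : V, ∏ q : Q, φ (q : A) v = 1 := by
    intro v
    obtain ⟨⟨q₀, hq₀⟩, hq1⟩ := Subgroup.ne_bot_iff_exists_ne_one.1 hQ1
    refine h.fpf q₀ (fun e => hq1 (Subtype.ext e)) (hord ⟨q₀, hq₀⟩) _ ?_
    rw [map_prod]
    exact Fintype.prod_equiv (Equiv.mulLeft (⟨q₀, hq₀⟩ : Q)) _ _ fun q => by simp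
  obtain ⟨v, hv⟩ := exists_ne (1 : V)
  refine hv ?_
  have hrow : ∀ q : Q, ∏ i ∈ Finset.range p, φ ((q : A) * y ^ i * (q : A)⁻¹) v = 1 := fun q => by
    have := h.norm ((q : A) * y * (q : A)⁻¹) (by
      rw [conj_pow, ← hy, pow_orderOf_eq_one, mul_one, mul_inv_cancel]) v
    simpa only [conj_pow] using this
  have hcol : ∀ i ∈ Finset.range p, ∏ q : Q, φ ((q : A) * y ^ i * (q : A)⁻¹) v =
      if i = 0 then v ^ Fintype.card Q else 1 := by
    intro i hi
    rw [Finset.mem_range] at hi
    split_ifs with h0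
    · subst h0
      simp
    have hyi : y ^ i ≠ 1 := fun e => h0 (by
      have := orderOf_dvd_of_pow_eq_one e
      rw [hy] at this
      exact Nat.eq_zero_of_dvd_of_lt this hi)
    let f : Q → Q := fun q => q * ⟨y ^ i * (q : A)⁻¹ * (y ^ i)⁻¹,
      (Subgroup.mem_normalizer_iff.1 (pow_mem hyQ i) _).1 (inv_mem q.2)⟩
    have hf : Function.Bijective f := by
      rw [Function.Bijective, ← Finite.injective_iff_surjective, and_self]
      intro a b e
      have e' : (a : A) * (y ^ i * (a : A)⁻¹ * (y ^ i)⁻¹) = b * (y ^ i * (b : A)⁻¹ * (y ^ i)⁻¹) :=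
        congrArg Subtype.val e
      have hc : Commute (y ^ i) ((b⁻¹ * a : Q) : A) := by
        refine (mul_inv_eq_iff_eq_mul (a := y ^ i * ((b⁻¹ * a : Q) : A))).1 ?_
        push_cast
        have := congrArg (fun z => (b : A)⁻¹ * z * (y ^ i * (a : A) * (y ^ i)⁻¹)) e'
        simp only [mul_assoc, inv_mul_cancel_left, mul_inv_cancel, mul_one] at this
        simpa [mul_assoc] using this.symm
      refine (inv_mul_eq_one.1 (Subtype.ext (by_contra fun e1 => ?_))).symm
      refine h.sep _ _ hc hyi e1 ⟨1, ?_⟩ (hord _)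
      rw [pow_one, ← hy]
      exact Nat.Coprime.orderOf_pow (by
        rw [hy]; exact Nat.coprime_of_lt_prime h0 hi hp)
    rw [← hsum (φ (y ^ i) v)]
    refine Fintype.prod_equiv (Equiv.ofBijective f hf) _ _ fun q => ?_
    rw [Equiv.ofBijective_apply, ← MulAut.mul_apply, ← map_mul]
    congr 2
    show (q : A) * y ^ i * (q : A)⁻¹ = (q : A) * (y ^ i * (q : A)⁻¹ * (y ^ i)⁻¹) * y ^ i
    group
  have htot : v ^ Fintype.card Q = 1 := by
    have e : (∏ i ∈ Finset.range p, ∏ q : Q, φ ((q : A) * y ^ i * (q : A)⁻¹) v) = 1 := by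
      rw [Finset.prod_comm]
      exact Finset.prod_eq_one fun q _ => hrow q
    rw [Finset.prod_congr rfl hcol, Finset.prod_ite_eq'] at e
    simpa [hp.pos] using e
  rw [← Nat.card_eq_fintype_card] at htot
  exact orderOf_eq_one_iff.1 (Nat.eq_one_of_dvd_coprimes hQ (orderOf_dvd_of_pow_eq_one htot)
    (orderOf_dvd_of_pow_eq_one (h.exp v)))

/-- A power of order a power of `p` of an element that is a non-trivial `p`-element modulo a
subgroup. -/
theorem exists_ppow [Finite A] (hp : p.Prime) {P₀ : Subgroup A} {n : A} (hn : n ∉ P₀)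
    {k : ℕ} (hk : n ^ p ^ k ∈ P₀) :
    ∃ j : ℕ, n ^ j ∉ P₀ ∧ ∃ l, orderOf (n ^ j) = p ^ l := by
  haveI := Fact.mk hp
  refine ⟨ordCompl[p] (orderOf n), fun e => hn ?_, (orderOf n).factorization p, ?_⟩
  · have hco : Nat.Coprime (p ^ k) (ordCompl[p] (orderOf n)) :=
      (Nat.coprime_ordCompl hp (orderOf_pos n).ne').pow_left k
    have hg : n ^ ((Nat.gcd (p ^ k) (ordCompl[p] (orderOf n)) : ℤ)) ∈ P₀ := by
      rw [Nat.gcd_eq_gcd_ab, zpow_add, zpow_mul, zpow_mul]
      refine mul_mem (zpow_mem ?_ _) (zpow_mem ?_ _) <;> rwa [zpow_natCast]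
    rwa [hco, Nat.cast_one, zpow_one] at hg
  · rw [orderOf_pow_of_dvd (Nat.pos_iff_ne_zero.1 (Nat.ordCompl_pos p (orderOf_pos n).ne'))
      (Nat.ordCompl_dvd _ _)]
    exact Nat.div_eq_of_eq_mul_left (Nat.ordCompl_pos p (orderOf_pos n).ne')
      (Nat.ordProj_mul_ordCompl_eq_self _ _).symm

theorem NormHyp.no_norm' [Finite A] (h : NormHyp A V φ p) {y : A} (hy1 : y ≠ 1)
    (hyp : ∃ k, orderOf y = p ^ k) {Q : Subgroup A} (hQ : (Nat.card Q).Coprime p) (hQ1 : Q ≠ ⊥)
    (hyQ : y ∈ Subgroup.normalizer (Q : Set A)) : False := by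
  obtain ⟨k, hk⟩ := hyp
  have hk0 : k ≠ 0 := fun e => hy1 (orderOf_eq_one_iff.1 (by rw [hk, e, pow_zero]))
  refine h.no_norm (y := y ^ (orderOf y / p)) ?_ hQ hQ1 (pow_mem hyQ _)
  exact orderOf_pow_orderOf_div (orderOf_pos y).ne' (hk ▸ dvd_pow_self p hk0)

/-- The finishing step. -/
theorem NormHyp.finish [Finite A] (h : NormHyp A V φ p) {P₀ : Subgroup A}
    (hP : Cfsg.pCore p A ≤ P₀) {y : A} (hy : y ∈ Subgroup.normalizer (P₀ : Set A)) (hyP : y ∉ P₀)
    {k : ℕ} (hyk : y ^ p ^ k ∈ P₀) {q : ℕ} (hq : q.Prime) (hqp : q ≠ p) (hqd : q ∣ Nat.card P₀) :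
    False := by
  haveI := Fact.mk hq
  obtain ⟨T⟩ : Nonempty (Sylow q P₀) := inferInstance
  set Q : Subgroup A := (T : Subgroup P₀).map P₀.subtype with hQdef
  have hQP : Q ≤ P₀ := Subgroup.map_subtype_le _
  let c : MulAut P₀ := P₀.normalizerMonoidHom ⟨y, hy⟩
  obtain ⟨m, hm⟩ := MulAction.exists_smul_eq P₀ (T.comapOfInjective c.toMonoidHom c.injective
    (fun x _ => ⟨c.symm x, c.apply_symm_apply x⟩)) T
  set n := y * (m : A)⁻¹ with hn
  have hnQ : n ∈ Subgroup.normalizer (Q : Set A) := by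
    rw [Subgroup.mem_normalizer_iff]
    have hmem : ∀ x : P₀, c (m⁻¹ * x * m) ∈ (T : Subgroup P₀) ↔ x ∈ (T : Subgroup P₀) := fun x => by
      conv_rhs => rw [← hm, Sylow.coe_subgroup_smul, Subgroup.mem_pointwise_smul_iff_inv_smul_mem,
        ← map_inv, MulAut.smul_def, MulAut.conj_apply, inv_inv]
      rfl
    intro x
    constructor
    · rintro ⟨x, hx, rfl⟩
      exact ⟨c (m⁻¹ * x * m), (hmem x).2 hx, by
        show y * ((m : A)⁻¹ * x * m) * y⁻¹ = n * (x : A) * n⁻¹
        rw [hn]; group⟩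
    · rintro ⟨z, hz, hze⟩
      have hzm : m * c.symm z * m⁻¹ ∈ (T : Subgroup P₀) := (hmem _).1 (by
        rw [show m⁻¹ * (m * c.symm z * m⁻¹) * m = c.symm z by group, c.apply_symm_apply]
        exact hz)
      refine ⟨_, hzm, ?_⟩
      have hcs : ((c.symm z : P₀) : A) = y⁻¹ * z * y := by
        have e : y * ((c.symm z : P₀) : A) * y⁻¹ = z := congrArg Subtype.val (c.apply_symm_apply z)
        rw [← e]; group
      show (m : A) * (c.symm z : P₀) * (m : A)⁻¹ = x
      rw [hcs, show (z : A) = n * x * n⁻¹ from hze, hn]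
      group
  have hnP : n ∉ P₀ := fun e => hyP (by simpa [hn] using mul_mem e m.2)
  have hnN : n ∈ Subgroup.normalizer (P₀ : Set A) :=
    mul_mem hy (inv_mem (Subgroup.le_normalizer m.2))
  have hnk : n ^ p ^ k ∈ P₀ := by
    have key : ∀ j : ℕ, (y ^ j)⁻¹ * n ^ j ∈ P₀ := by
      intro j
      induction j with
      | zero => simp
      | succ j ih =>
        have := mul_mem ((Subgroup.mem_normalizer_iff.1 (inv_mem hy) _).1 ih) (inv_mem m.2)
        rw [inv_inv] at this
        rwa [show y⁻¹ * ((y ^ j)⁻¹ * n ^ j) * y * (m : A)⁻¹ = (y ^ (j + 1))⁻¹ * (n ^ j * n) by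
          rw [pow_succ y, hn]; group, ← pow_succ] at this
    simpa using mul_mem hyk (key (p ^ k))
  obtain ⟨j, hjP, hjo⟩ := exists_ppow h.prime hnP hnk
  refine h.no_norm' (y := n ^ j) (fun e => hjP (by rw [e]; exact one_mem _)) hjo (Q := Q) ?_ ?_ (pow_mem hnQ j)
  · obtain ⟨i, hi⟩ := IsPGroup.iff_card.1 (T.2.map P₀.subtype)
    rw [hi]
    exact Nat.Coprime.pow_left i ((Nat.coprime_primes hq h.prime).2 hqp)
  · rw [hQdef, Ne, Subgroup.map_eq_bot_iff_of_injective _ P₀.subtype_injective]
    exact T.ne_bot_of_dvd_card hqd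

theorem comm_of_closure_two {H : Type*} [Group H] {t s : H} (ht : t * t = 1) (hs : s * s = 1)
    (h : IsPGroup 2 (Subgroup.zpowers (t * s))) :
    IsPGroup 2 ↥(Subgroup.zpowers t ⊔ Subgroup.zpowers s) := by
  have ht' : IsPGroup 2 (Subgroup.zpowers t) := fun x => ⟨1, Subtype.ext (by
    obtain ⟨x, ⟨j, rfl⟩⟩ := x
    show (t ^ j) ^ (2 ^ 1) = 1
    rw [pow_one, sq, ← zpow_add, ← two_mul, zpow_mul, zpow_two, ht, one_zpow])⟩
  have hn : Subgroup.zpowers t ≤ Subgroup.normalizer (Subgroup.zpowers (t * s) : Set H) := by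
    rw [Subgroup.zpowers_le, Subgroup.mem_normalizer_iff_map_conj_eq, MonoidHom.map_zpowers]
    show Subgroup.zpowers (t * (t * s) * t⁻¹) = _
    rw [inv_eq_of_mul_eq_one_right ht, ← mul_assoc, ht, one_mul,
      show s * t = (t * s)⁻¹ by
        rw [mul_inv_rev, inv_eq_of_mul_eq_one_right ht, inv_eq_of_mul_eq_one_right hs],
      Subgroup.zpowers_inv]
  refine (ht'.to_sup_of_normal_right' h hn).to_le (sup_le le_sup_left ?_)
  rw [Subgroup.zpowers_le]
  have e : t * (t * s) ∈ Subgroup.zpowers t ⊔ Subgroup.zpowers (t * s) :=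
    Subgroup.mul_mem_sup (Subgroup.mem_zpowers t) (Subgroup.mem_zpowers _)
  rwa [← mul_assoc, ht, one_mul] at e

/-- All `p`-elements lie in the `p`-core. -/
theorem NormHyp.mem_pCore [Finite A] [Finite V] (h : NormHyp A V φ p) {y : A} (hy : ∃ k, orderOf y = p ^ k) :
    y ∈ Cfsg.pCore p A := by
  classical
  haveI := Fact.mk h.prime
  haveI := h.nontrivial
  have hp := h.prime
  set R := Cfsg.pCore p A with hR
  haveI : R.Normal := FiniteGroup.pCore_normal p
  have hRp : IsPGroup p R := FiniteGroup.pCore_isPGroup p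
  by_contra hyR
  obtain ⟨k, hk⟩ := hy
  have hyk : y ^ p ^ k = 1 := hk ▸ pow_orderOf_eq_one y
  let π : A →* A ⧸ R := QuotientGroup.mk' R
  have hker : π.ker = R := QuotientGroup.ker_mk' R
  have hπp : IsPGroup p (Subgroup.zpowers (π y)) :=
    IsPGroup.of_card (n := (orderOf (π y)).factorization p) (by
      rw [Nat.card_zpowers]
      obtain ⟨i, -, hi⟩ := (Nat.dvd_prime_pow hp).1 (hk ▸ orderOf_map_dvd π y)
      rw [hi, hp.factorization_pow, Finsupp.single_eq_same])
  -- the finishing criterion through the quotient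
  have fin : ∀ (W : Subgroup (A ⧸ R)), π y ∈ Subgroup.normalizer (W : Set (A ⧸ R)) →
      (Nat.card W).Coprime p → W ≠ ⊥ → False := by
    intro W hyW hW hW1
    have hRle : R ≤ W.comap π := le_of_eq_of_le hker.symm (Subgroup.ker_le_comap π W)
    refine h.finish (P₀ := W.comap π) hRle (y := y) ?_ (fun e => hyR ?_) (k := k) ?_ (q := (Nat.card W).minFac) ?_ ?_ ?_
    · rw [Subgroup.mem_normalizer_iff]
      intro x
      rw [Subgroup.mem_comap, Subgroup.mem_comap, map_mul, map_mul, map_inv]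
      exact Subgroup.mem_normalizer_iff.1 hyW _
    · have e' : π y ∈ W := e
      rw [← QuotientGroup.eq_one_iff]
      refine orderOf_eq_one_iff.1 (Nat.eq_one_of_dvd_coprimes (hW.pow_right k) ?_
        (hk ▸ orderOf_map_dvd π y))
      exact Subgroup.orderOf_dvd_natCard W e'
    · rw [hyk]; exact one_mem _
    · exact Nat.minFac_prime fun e => hW1 (Subgroup.card_eq_one.1 e)
    · intro e
      have := hW.coprime_dvd_left (e ▸ Nat.minFac_dvd (Nat.card W))
      rw [Nat.coprime_self] at this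
      exact hp.ne_one this
    · refine (Nat.minFac_dvd _).trans ?_
      have := Subgroup.card_map_dvd (W.comap π) π
      rwa [Subgroup.map_comap_eq_self_of_surjective (QuotientGroup.mk'_surjective R)] at this
  have hπy : π y ≠ 1 := fun e => hyR ((QuotientGroup.eq_one_iff y).1 e)
  rcases eq_or_ne p 2 with rfl | hp2
  · -- an involution in the quotient inverts an element of odd order
    obtain ⟨i, hi⟩ : ∃ i, orderOf (π y) = 2 ^ (i + 1) := by
      obtain ⟨j, -, hj⟩ := (Nat.dvd_prime_pow hp).1 (hk ▸ orderOf_map_dvd π y)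
      rcases j with _ | j
      · exact absurd (orderOf_eq_one_iff.1 (by rw [hj, pow_zero])) hπy
      · exact ⟨j, hj⟩
    set t := (π y) ^ 2 ^ i with ht
    have hto : orderOf t = 2 := by
      rw [ht, orderOf_pow_of_dvd (by positivity) (hi ▸ pow_dvd_pow 2 (Nat.le_succ i)), hi, pow_succ,
        Nat.mul_div_cancel_left _ (by positivity)]
    have htt : t * t = 1 := by rw [← sq, ← hto, pow_orderOf_eq_one]
    by_cases hall : ∀ g : A ⧸ R, IsPGroup 2 ↥(Subgroup.zpowers t ⊔
        (Subgroup.zpowers t).map (MulAut.conj g).toMonoidHom)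
    · obtain ⟨N, hN, hN2, htN⟩ := BaerSuzuki.baerSuzuki (Subgroup.zpowers t)
        (IsPGroup.of_card (n := 1) (by rw [Nat.card_zpowers, hto, pow_one])) hall
      haveI := hN
      have hle : N.comap π ≤ R := LEBasic.le_pCore (hN.comap π)
        (hN2.comap_of_ker_isPGroup π (hker.symm ▸ hRp))
      have hmem : y ^ 2 ^ i ∈ R := hle (by
        rw [Subgroup.mem_comap, map_pow]; exact htN (Subgroup.mem_zpowers t))
      have : t = 1 := by rw [ht, ← map_pow]; exact (QuotientGroup.eq_one_iff _).2 hmem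
      rw [this, orderOf_one] at hto
      omega
    push Not at hall
    obtain ⟨g, hg⟩ := hall
    rw [MonoidHom.map_zpowers] at hg
    set s := g * t * g⁻¹ with hs
    have hss : s * s = 1 := by
      rw [hs, show g * t * g⁻¹ * (g * t * g⁻¹) = g * (t * t) * g⁻¹ by group, htt, mul_one,
        mul_inv_cancel]
    have hn2 : ¬ IsPGroup 2 (Subgroup.zpowers (t * s)) := fun e => hg (comm_of_closure_two htt hss e)
    set d := orderOf (t * s) with hd
    set w := (t * s) ^ ordProj[2] d with hw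
    have hw1 : w ≠ 1 := fun e => hn2 (by
      have h1 := Nat.dvd_antisymm (orderOf_dvd_of_pow_eq_one e) (Nat.ordProj_dvd d 2)
      exact IsPGroup.of_card (n := d.factorization 2) ((Nat.card_zpowers _).trans h1))
    have hwo : orderOf w = ordCompl[2] d := orderOf_pow_of_dvd
      (Nat.pos_iff_ne_zero.1 (Nat.ordProj_pos d 2)) (Nat.ordProj_dvd d 2)
    have hwcop : (orderOf w).Coprime 2 := hwo ▸
      ((Nat.coprime_ordCompl hp (orderOf_pos (t * s)).ne').symm)
    -- the involution normalises the subgroup generated by the odd element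
    have htw : t ∈ Subgroup.normalizer (Subgroup.zpowers w : Set (A ⧸ R)) := by
      rw [Subgroup.mem_normalizer_iff_map_conj_eq, MonoidHom.map_zpowers]
      show Subgroup.zpowers (t * w * t⁻¹) = _
      have e : t * w * t⁻¹ = w⁻¹ := by
        rw [hw, ← conj_pow, inv_eq_of_mul_eq_one_right htt, ← inv_pow]
        congr 1
        rw [mul_inv_rev, inv_eq_of_mul_eq_one_right htt, inv_eq_of_mul_eq_one_right hss, ← mul_assoc,
          htt, one_mul]
      rw [e, Subgroup.zpowers_inv]
    set y' := y ^ 2 ^ i with hy'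
    have hy'k : ∃ l, orderOf y' = 2 ^ l := by
      obtain ⟨l, -, hl⟩ := (Nat.dvd_prime_pow hp).1 (hk ▸ orderOf_pow_dvd (G := A) (x := y) (2 ^ i))
      exact ⟨l, hl⟩
    obtain ⟨l, hl⟩ := hy'k
    have hπy' : π y' = t := map_pow π y _
    refine h.finish (P₀ := (Subgroup.zpowers w).comap π) (le_of_eq_of_le hker.symm (Subgroup.ker_le_comap π _))
      (y := y') ?_ (fun e => ?_) (k := l) ?_ (q := (orderOf w).minFac) ?_ ?_ ?_
    · rw [Subgroup.mem_normalizer_iff]
      intro x
      rw [Subgroup.mem_comap, Subgroup.mem_comap, map_mul, map_mul, map_inv, hπy']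
      exact Subgroup.mem_normalizer_iff.1 htw _
    · have e' : t ∈ Subgroup.zpowers w := hπy' ▸ e
      have := Subgroup.orderOf_dvd_natCard _ e'
      rw [Nat.card_zpowers, hto] at this
      exact absurd (Nat.eq_one_of_dvd_coprimes hwcop this dvd_rfl) (by norm_num)
    · rw [← hl, pow_orderOf_eq_one]; exact one_mem _
    · exact Nat.minFac_prime fun e => hw1 (orderOf_eq_one_iff.1 e)
    · intro e
      have h2 : 2 ∣ orderOf w := e ▸ Nat.minFac_dvd _
      exact absurd (Nat.eq_one_of_dvd_coprimes hwcop h2 dvd_rfl) (by norm_num)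
    · refine (Nat.minFac_dvd _).trans ?_
      have := Subgroup.card_map_dvd ((Subgroup.zpowers w).comap π) π
      rwa [Subgroup.map_comap_eq_self_of_surjective (QuotientGroup.mk'_surjective R),
        Nat.card_zpowers] at this
  by_cases hev : Even (Nat.card A)
  · -- the involutions act as the inversion
    haveI : Fact (Nat.Prime 2) := ⟨Nat.prime_two⟩
    obtain ⟨i, hi⟩ := exists_prime_orderOf_dvd_card' (G := A) 2 hev.two_dvd
    have hinv : ∀ a : A, orderOf a = 2 → ∀ v : V, φ a v = v⁻¹ := by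
      intro a ha v
      have hfp : MonoidHom.FixedPointFree (φ a).toMonoidHom := fun v hv =>
        h.fpf a (fun e => by rw [e, orderOf_one] at ha; omega)
          (ha ▸ (Nat.coprime_primes Nat.prime_two hp).2 (Ne.symm hp2)) v hv
      have hii : Function.Involutive (φ a).toMonoidHom := fun v => by
        show φ a (φ a v) = v
        rw [← MulAut.mul_apply, ← map_mul, ← sq, ← ha, pow_orderOf_eq_one, map_one, MulAut.one_apply]
      exact congrFun (hfp.coe_eq_inv_of_involutive hii) v
    have hkerp : IsPGroup p φ.ker := by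
      intro a
      by_contra hcon
      push Not at hcon
      set d := orderOf (a : A) with hd
      refine absurd (show ordCompl[p] d = 1 from ?_) ?_
      · obtain ⟨v, hv⟩ := exists_ne (1 : V)
        by_contra hc
        refine hv (h.fpf ((a : A) ^ ordProj[p] d) (fun e => ?_) ?_ v ?_)
        · exact hcon (d.factorization p) (Subtype.ext (by simpa using e))
        · rw [orderOf_pow_of_dvd (Nat.pos_iff_ne_zero.1 (Nat.ordProj_pos d p)) (Nat.ordProj_dvd d p)]
          exact (Nat.coprime_ordCompl hp (orderOf_pos (a : A)).ne').symm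
        · rw [map_pow, MonoidHom.mem_ker.1 a.2, one_pow, MulAut.one_apply]
      · intro e
        refine hcon (d.factorization p) (Subtype.ext ?_)
        push_cast
        have := Nat.ordProj_mul_ordCompl_eq_self d p
        rw [e, mul_one] at this
        rw [this, hd, pow_orderOf_eq_one]
    have hkerR : φ.ker ≤ R := LEBasic.le_pCore inferInstance hkerp
    have hcomm : Commute (π y) (π i) := by
      have hmem : y * i * y⁻¹ * i⁻¹ ∈ φ.ker := by
        rw [MonoidHom.mem_ker, map_mul, map_inv, mul_inv_eq_one]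
        exact MulEquiv.ext fun v => by
          have hi' : orderOf (y * i * y⁻¹) = 2 :=
            (orderOf_injective (MulAut.conj y).toMonoidHom (MulAut.conj y).injective i).trans hi
          rw [hinv i hi, hinv _ hi']
      have := (QuotientGroup.eq_one_iff _).2 (hkerR hmem)
      have e : π (y * i * y⁻¹ * i⁻¹) = 1 := this
      rw [map_mul, map_mul, map_mul, map_inv, map_inv, mul_inv_eq_one, mul_inv_eq_iff_eq_mul] at e
      exact e
    have hi1 : π i ≠ 1 := fun e => by
      have h2 := Subgroup.orderOf_dvd_natCard R ((QuotientGroup.eq_one_iff i).1 e)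
      obtain ⟨n, hn⟩ := IsPGroup.iff_card.1 hRp
      rw [hi, hn] at h2
      exact hp2 ((Nat.prime_dvd_prime_iff_eq Nat.prime_two hp).1 (Nat.prime_two.dvd_of_dvd_pow h2)).symm
    refine fin (Subgroup.zpowers (π i)) ?_ ?_ (fun e => hi1 (Subgroup.zpowers_eq_bot.1 e))
    · rw [Subgroup.mem_normalizer_iff_map_conj_eq, MonoidHom.map_zpowers]
      show Subgroup.zpowers (π y * π i * (π y)⁻¹) = _
      rw [hcomm.eq, mul_inv_cancel_right]
    · rw [Nat.card_zpowers]
      exact ((Nat.coprime_primes Nat.prime_two hp).2 (Ne.symm hp2)).coprime_dvd_left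
        ((orderOf_map_dvd π i).trans hi.dvd)
  · -- soluble case
    haveI : Group.IsSolvable A := OddChar.oddSolvable A (Nat.not_even_iff_odd.1 hev)
    haveI : Nontrivial (A ⧸ R) := ⟨⟨π y, 1, hπy⟩⟩
    obtain ⟨W, hWn, hW1, -, hWmin⟩ := LEWielandt.exists_minimal_normal (G := A ⧸ R)
      (N := ⊤) inferInstance top_ne_bot
    haveI := hWn
    haveI : Group.IsSolvable W := inferInstance
    have hWab : ∀ a ∈ W, ∀ b ∈ W, a * b = b * a := by
      have hlt : ⁅W, W⁆ < W := Group.IsSolvable.commutator_lt_of_ne_bot hW1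
      rcases hWmin _ (Subgroup.commutator_normal W W) (hlt.le) with e | e
      · intro a ha b hb
        exact commutatorElement_eq_one_iff_mul_comm.1
          ((Subgroup.eq_bot_iff_forall _).1 e _ (Subgroup.commutator_mem_commutator ha hb))
      · exact absurd e hlt.ne
    obtain ⟨q, hq, hqW⟩ := Nat.exists_prime_and_dvd (fun e => hW1 (Subgroup.card_eq_one.1 e))
    haveI := Fact.mk hq
    let Wq : Subgroup (A ⧸ R) :=
      { carrier := {a | a ∈ W ∧ a ^ q = 1}
        one_mem' := ⟨one_mem _, one_pow _⟩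
        mul_mem' := fun {a b} ha hb => ⟨mul_mem ha.1 hb.1, by
          rw [(show Commute a b from hWab a ha.1 b hb.1).mul_pow, ha.2, hb.2, one_mul]⟩
        inv_mem' := fun {a} ha => ⟨inv_mem ha.1, by rw [inv_pow, ha.2, inv_one]⟩ }
    have hWq : Wq = W := by
      refine (hWmin Wq ⟨fun a ha g => ⟨hWn.conj_mem a ha.1 g, ?_⟩⟩ fun a ha => ha.1).resolve_left
        fun e => ?_
      · rw [conj_pow, ha.2, mul_one, mul_inv_cancel]
      · obtain ⟨x, hx⟩ := exists_prime_orderOf_dvd_card' (G := W) q hqW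
        have hmem : (x : A ⧸ R) ∈ Wq := ⟨x.2, by
          rw [← Subgroup.coe_pow, ← hx, pow_orderOf_eq_one, Subgroup.coe_one]⟩
        rw [e, Subgroup.mem_bot, OneMemClass.coe_eq_one] at hmem
        rw [hmem, orderOf_one] at hx
        exact hq.ne_one hx.symm
    have hWqm : ∀ a, a ∈ W → a ^ q = 1 := fun a ha => (hWq.ge ha).2
    have hWpow : IsPGroup q W := fun x => ⟨1, Subtype.ext (by
      simpa using hWqm _ x.2)⟩
    obtain ⟨n, hn⟩ := IsPGroup.iff_card.1 hWpow
    refine fin W ?_ ?_ hW1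
    · rw [Subgroup.normalizer_eq_top_iff.2 hWn]; exact Subgroup.mem_top _
    · rw [hn]
      refine Nat.Coprime.pow_left n ((Nat.coprime_primes hq hp).2 ?_)
      intro hqp
      have hWp : IsPGroup p W := hqp ▸ hWpow
      refine hW1 ?_
      have hle : W.comap π ≤ R := LEBasic.le_pCore (hWn.comap π)
        (hWp.comap_of_ker_isPGroup π (hker.symm ▸ hRp))
      rw [eq_bot_iff]
      intro x hx
      obtain ⟨a, rfl⟩ := QuotientGroup.mk'_surjective R x
      exact Subgroup.mem_bot.2 ((QuotientGroup.eq_one_iff a).2 (hle hx))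

end Cfsg.Agent.Partition
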