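import Cfsg.Agent.Lib.Partition.Basic
import Cfsg.Agent.Lib.Partition.NormalSylow
import Cfsg.Agent.Lib.Solvable.Frobenius
import Cfsg.Agent.Lib.CNSimple.TIMain
import Mathlib.GroupTheory.SchurZassenhaus

/-!
# Partitions of groups with a normal nilpotent subgroup (Baer)
-/

set_option autoImplicit false
set_option linter.style.haveILetI false
set_option linter.unusedSectionVars false

namespace Cfsg.Agent.Partition

universe u

variable {G : Type u} [Group G] [Finite G]

/-- The conclusion for groups with a nilpotent normal subgroup. -/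
def Baer (G : Type u) [Group G] : Prop :=
  Nonempty (G ≃* Equiv.Perm (Fin 4)) ∨
    (∃ p : ℕ, p.Prime ∧ Subgroup.closure {g : G | g ^ p ≠ 1} ≠ ⊤) ∨
    (∃ H : Subgroup G, Cfsg.IsFrobeniusComplement H)

theorem hughes {p : ℕ} (hp : p.Prime) (X : Subgroup G) (hX : X ≠ ⊤)
    (h : ∀ g : G, g ∉ X → g ^ p = 1) : Baer G := by
  refine Or.inr (Or.inl ⟨p, hp, fun e => hX (top_le_iff.1 (e ▸ ?_))⟩)
  rw [Subgroup.closure_le]
  exact fun g hg => by_contra fun hn => hg (h g hn)

/-- A normal subgroup on which all outside elements act freely gives a Frobenius complement. -/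
theorem frobenius_of_free (K : Subgroup G) [K.Normal] (hK1 : K ≠ ⊥) (hKtop : K ≠ ⊤)
    (h : ∀ g : G, g ∉ K → ∀ k ∈ K, Commute g k → k = 1) :
    ∃ H : Subgroup G, Cfsg.IsFrobeniusComplement H := by
  have hco : (Nat.card K).Coprime K.index := by
    refine Nat.coprime_of_dvd fun q hq hqK hqi => ?_
    haveI := Fact.mk hq
    obtain ⟨P⟩ : Nonempty (Sylow q G) := inferInstance
    have hP : ¬ (P : Subgroup G) ≤ K := fun e =>
      P.not_dvd_index (hqi.trans (Subgroup.index_dvd_of_le e))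
    obtain ⟨y, hyP, hyK⟩ := SetLike.not_le_iff_exists.1 hP
    have hne : K.subgroupOf (P : Subgroup G) ≠ ⊥ := by
      rw [Ne, Subgroup.subgroupOf_eq_bot]
      intro hd
      obtain ⟨x, hx⟩ := exists_prime_orderOf_dvd_card' (G := K) q hqK
      obtain ⟨Q, hQ⟩ := (IsPGroup.of_card (n := 1) (by
        rw [Nat.card_zpowers, Subgroup.orderOf_coe, hx, pow_one]) :
          IsPGroup q (Subgroup.zpowers (x : G))).exists_le_sylow
      obtain ⟨g, hg⟩ := MulAction.exists_smul_eq G Q P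
      have hmem : g * x * g⁻¹ ∈ (P : Subgroup G) := by
        rw [← hg, Sylow.coe_subgroup_smul]
        exact ⟨x, hQ (Subgroup.mem_zpowers _), rfl⟩
      have h1 := hd.le_bot ⟨Subgroup.Normal.conj_mem inferInstance _ x.2 g, hmem⟩
      rw [Subgroup.mem_bot, conj_eq_one_iff, OneMemClass.coe_eq_one] at h1
      rw [h1, orderOf_one] at hx
      exact hq.ne_one hx.symm
    haveI : Group.IsNilpotent (P : Subgroup G) := P.2.isNilpotent
    obtain ⟨⟨z, hz, hzc⟩, hz1⟩ :=
      Subgroup.ne_bot_iff_exists_ne_one.1 (SolvStruct.inf_center_ne_bot hne)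
    refine hz1 (Subtype.ext (Subtype.ext (h y hyK z hz ?_)))
    exact congrArg Subtype.val (Subgroup.mem_center_iff.1 hzc ⟨y, hyP⟩)
  obtain ⟨H, hH⟩ := Subgroup.exists_right_complement'_of_coprime hco
  refine ⟨H, fun e => hKtop ?_, fun e => hK1 ?_, fun g hg => ?_⟩
  · subst e; exact Subgroup.isComplement'_bot_right.1 hH
  · subst e; exact Subgroup.isComplement'_top_right.1 hH
  obtain ⟨⟨⟨k, hk⟩, ⟨b₀, hb₀⟩⟩, hkb, -⟩ := hH.existsUnique g
  rw [eq_bot_iff]
  intro x hx
  rw [Subgroup.mem_bot]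
  obtain ⟨hx2, hx3⟩ := Subgroup.mem_inf.1 hx
  rw [Subgroup.mem_pointwise_smul_iff_inv_smul_mem, ← map_inv, MulAut.smul_def, MulAut.conj_apply,
    inv_inv] at hx3
  by_contra hx1
  have hkg : g = k * b₀ := hkb.symm
  have hbx : k⁻¹ * x * k ∈ H := by
    have := H.mul_mem (H.mul_mem hb₀ hx3) (H.inv_mem hb₀)
    rwa [hkg, show b₀ * ((k * b₀)⁻¹ * x * (k * b₀)) * b₀⁻¹ = k⁻¹ * x * k by group] at this
  have hdisj : ∀ a, a ∈ K → a ∈ H → a = 1 := fun a h1 h2 => by
    simpa using hH.disjoint.le_bot ⟨h1, h2⟩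
  have hc : x * k = k * x := by
    have h1 : x⁻¹ * (k⁻¹ * x * k) ∈ K := by
      have := mul_mem (Subgroup.Normal.conj_mem (inferInstance : K.Normal) _ (inv_mem hk) x⁻¹) hk
      rwa [inv_inv, show x⁻¹ * k⁻¹ * x * k = x⁻¹ * (k⁻¹ * x * k) by group] at this
    have := hdisj _ h1 (H.mul_mem (H.inv_mem hx2) hbx)
    rw [inv_mul_eq_one] at this
    nth_rw 2 [this]
    group
  have hk1 : k = 1 := h x (fun e => hx1 (hdisj x e hx2)) k hk hc
  exact hg (by rw [hkg, hk1, one_mul]; exact hb₀)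

namespace Part

variable (P : Part G)

theorem lift_pow {g : G} (hg : g ≠ 1) [(P.comp g).Normal] {y : G} (hy : y ∉ P.comp g) :
    orderOf (y : G ⧸ P.comp g) = orderOf y := by
  refine Nat.dvd_antisymm (orderOf_map_dvd (QuotientGroup.mk' (P.comp g)) y) ?_
  refine orderOf_dvd_of_pow_eq_one (P.pow_eq_one_of_mem hg hy ?_)
  rw [← QuotientGroup.eq_one_iff, QuotientGroup.mk_pow, pow_orderOf_eq_one]

/-- The separation property modulo a normal member. -/
theorem sep_normal {g : G} (hg : g ≠ 1) [(P.comp g).Normal] {q : ℕ} (hq : q.Prime)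
    {v : G} (hv : v ∈ P.comp g) (hvq : orderOf v = q) {u w : G} (hu : u ∉ P.comp g) (hw : w ∉ P.comp g)
    (huw : Commute u w) (hne : orderOf u ≠ orderOf w) (huv : Commute u v)
    (hwq : (orderOf w).Coprime q) : False := by
  have hv1 : v ≠ 1 := fun e => hq.ne_one (by rw [← hvq, e, orderOf_one])
  have hu1 : u ≠ 1 := fun e => hu (e ▸ one_mem _)
  have hw1 : w ≠ 1 := fun e => hw (e ▸ one_mem _)
  have hwY : w ∈ P.comp u := P.mem_of_commute hu1 huw hne
  have hvN : v ∈ Subgroup.normalizer (P.comp u : Set G) :=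
    P.mem_normalizer_of_commute hu1 (P.mem u) hu1 huv.symm
  have h1 : v * w * v⁻¹ * w⁻¹ ∈ P.comp u := mul_mem (P.conj_mem hvN hwY) (inv_mem hwY)
  have h2 : v * w * v⁻¹ * w⁻¹ ∈ P.comp g := by
    rw [show v * w * v⁻¹ * w⁻¹ = v * (w * v⁻¹ * w⁻¹) by group]
    exact mul_mem hv (Subgroup.Normal.conj_mem inferInstance _ (inv_mem hv) w)
  by_cases hc : v * w * v⁻¹ * w⁻¹ = 1
  · refine hw ?_
    rw [← P.eq hg hv1 hv]
    refine P.mem_of_commute hv1 (mul_inv_eq_iff_eq_mul.1 (mul_inv_eq_one.1 hc)) fun e => ?_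
    rw [← e, hvq, Nat.coprime_self] at hwq
    exact hq.ne_one hwq
  · exact hu (P.eq_of_mem_mem hg hu1 hc h2 h1 ▸ P.mem u)

/-- The facts attached to a prime with commuting elements inside and outside a normal member. -/
theorem normal_facts {g : G} (hg : g ≠ 1) [hN : (P.comp g).Normal] {q : ℕ} (hq : q.Prime)
    {x₀ y₀ : G} (hx₀ : x₀ ∈ P.comp g) (hxq : orderOf x₀ = q) (hy₀ : y₀ ∉ P.comp g) :
    (∀ (a : G ⧸ P.comp g) (k : ℕ), orderOf a = q ^ k → a ∈ Cfsg.pCore q (G ⧸ P.comp g)) ∧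
      (∀ a b : G ⧸ P.comp g, Commute a b → a ≠ 1 → b ≠ 1 → (∃ k, orderOf a = q ^ k) →
        (orderOf b).Coprime q → False) ∧
      (IsPGroup q (G ⧸ P.comp g) → Baer G) := by
  classical
  set X := P.comp g with hXdef
  have hXtop : X ≠ ⊤ := P.ne_top g hg
  haveI := Fact.mk hq
  haveI hnil : Group.IsNilpotent X := P.nilpotent_of_normalizer hg
    (by rw [Subgroup.normalizer_eq_top_iff.2 hN]; exact Subgroup.mem_top _) hy₀
  let V : Subgroup G :=
    { carrier := {v | v ∈ X ∧ (∀ x ∈ X, x * v = v * x) ∧ v ^ q = 1}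
      one_mem' := ⟨one_mem _, fun x _ => by simp, one_pow q⟩
      mul_mem' := fun {a b} ha hb => ⟨mul_mem ha.1 hb.1, fun x hx => by
          rw [← mul_assoc, ha.2.1 x hx, mul_assoc, hb.2.1 x hx, mul_assoc],
        by rw [(show Commute a b from hb.2.1 a ha.1).mul_pow, ha.2.2, hb.2.2, one_mul]⟩
      inv_mem' := fun {a} ha => ⟨inv_mem ha.1, fun x hx =>
          ((show Commute x a from ha.2.1 x hx).inv_right).eq,
        by rw [inv_pow, ha.2.2, inv_one]⟩ }
  have hVn : V.Normal := ⟨fun v hv a => ⟨hN.conj_mem v hv.1 a, fun x hx => by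
      have := congrArg (fun z => a * z * a⁻¹) (hv.2.1 (a⁻¹ * x * a) (by
        have := hN.conj_mem x hx a⁻¹
        rwa [inv_inv] at this))
      simpa [mul_assoc] using this,
    by rw [conj_pow, hv.2.2, mul_one, mul_inv_cancel]⟩⟩
  haveI : IsMulCommutative V := ⟨⟨fun a b => Subtype.ext (b.2.2.1 a a.2.1)⟩⟩
  have hVpow : ∀ v : V, v ^ q = 1 := fun v => Subtype.ext (by simpa using v.2.2.2)
  have hVq : IsPGroup q V := fun v => ⟨1, by rw [pow_one]; exact hVpow v⟩
  -- the group is non-trivial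
  obtain ⟨z₀, hz₀V, hz₀1⟩ : ∃ z ∈ V, z ≠ 1 := by
    obtain ⟨T⟩ : Nonempty (Sylow q X) := inferInstance
    haveI : (T : Subgroup X).Normal := inferInstance
    have hqX : q ∣ Nat.card X := hxq ▸ Subgroup.orderOf_dvd_natCard X hx₀
    obtain ⟨⟨z, hzT, hzc⟩, hz1⟩ := Subgroup.ne_bot_iff_exists_ne_one.1
      (SolvStruct.inf_center_ne_bot (G := X) (N := (T : Subgroup X)) (T.ne_bot_of_dvd_card hqX))
    obtain ⟨k, hk⟩ := IsPGroup.iff_orderOf.1 T.isPGroup' ⟨z, hzT⟩
    rw [Subgroup.orderOf_mk] at hk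
    have hz1' : z ≠ 1 := fun e => hz1 (Subtype.ext e)
    have hk0 : k ≠ 0 := fun e => hz1' (orderOf_eq_one_iff.1 (by rw [hk, e, pow_zero]))
    set z' := z ^ (orderOf z / q) with hz'
    have hzo : orderOf z' = q := orderOf_pow_orderOf_div (orderOf_pos z).ne' (hk ▸ dvd_pow_self q hk0)
    refine ⟨(z' : G), ⟨z'.2, fun x hx => ?_, ?_⟩, fun e => ?_⟩
    · exact congrArg Subtype.val (Subgroup.mem_center_iff.1 (pow_mem hzc _) ⟨x, hx⟩)
    · rw [← Subgroup.coe_pow, ← hzo, pow_orderOf_eq_one, Subgroup.coe_one]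
    · rw [OneMemClass.coe_eq_one] at e
      rw [e, orderOf_one] at hzo
      exact hq.ne_one hzo.symm
  haveI : Nontrivial V := ⟨⟨⟨z₀, hz₀V⟩, 1, fun e => hz₀1 (congrArg Subtype.val e)⟩⟩
  have hordV : ∀ v : V, v ≠ 1 → orderOf (v : G) = q := fun v hv => by
    rcases (Nat.dvd_prime hq).1 (orderOf_dvd_of_pow_eq_one v.2.2.2) with e | e
    · exact absurd (Subtype.ext (orderOf_eq_one_iff.1 e)) hv
    · exact e
  haveI := hVn
  let φ : G ⧸ X →* MulAut V := QuotientGroup.lift X (MulAut.conjNormal (H := V)) fun x hx => by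
    refine MulEquiv.ext fun v => Subtype.ext ?_
    rw [MulAut.conjNormal_apply, MulAut.one_apply, v.2.2.1 x hx, mul_inv_cancel_right]
  have hφ : ∀ (y : G) (v : V), ((φ (y : G ⧸ X) v : V) : G) = y * v * y⁻¹ :=
    fun y v => MulAut.conjNormal_apply y v
  letI : CommGroup V := { (inferInstance : Group V) with mul_comm := fun a b => Subtype.ext (b.2.2.1 a a.2.1) }
  have hfree : ∀ y : G, y ∉ X → orderOf y ≠ q → ∀ v : V, φ (y : G ⧸ X) v = v → v = 1 := by
    intro y hy hne v hv
    by_contra hv1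
    have hc : Commute (v : G) y := by
      have e := (hφ y v).symm.trans (congrArg Subtype.val hv)
      exact (mul_inv_eq_iff_eq_mul.1 e).symm
    refine hy ?_
    rw [hXdef, ← P.eq hg (fun e => hv1 (Subtype.ext e)) v.2.1]
    exact P.mem_of_commute (fun e => hv1 (Subtype.ext e)) hc (by rw [hordV v hv1]; exact Ne.symm hne)
  have hlift : ∀ a : G ⧸ X, a ≠ 1 → ∃ y : G, y ∉ X ∧ (y : G ⧸ X) = a ∧ orderOf y = orderOf a := by
    intro a ha
    obtain ⟨y, rfl⟩ := QuotientGroup.mk_surjective a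
    have hy : y ∉ X := fun e => ha ((QuotientGroup.eq_one_iff y).2 e)
    exact ⟨y, hy, rfl, (P.lift_pow hg hy).symm⟩
  have hH : NormHyp (G ⧸ X) V φ q := by
    refine ⟨hq, inferInstance, hVpow, fun a ha hco v hv => ?_, fun a ha v => ?_, ?_⟩
    · obtain ⟨y, hy, rfl, hyo⟩ := hlift a ha
      refine hfree y hy (fun e => ?_) v hv
      rw [← hyo, e, Nat.coprime_self] at hco
      exact hq.ne_one hco
    · rcases eq_or_ne a 1 with rfl | ha1
      · simp [hVpow v]
      obtain ⟨y, hy, rfl, hyo⟩ := hlift a ha1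
      have hyq : y ^ q = 1 := orderOf_dvd_iff_pow_eq_one.1 (hyo ▸ orderOf_dvd_of_pow_eq_one ha)
      have hcp := P.coset_pow hg (by rw [Subgroup.normalizer_eq_top_iff.2 hN]; exact Subgroup.mem_top _)
        hy v.2.1 hyq
      refine Subtype.ext ?_
      have e : ∀ j : ℕ, ((∏ i ∈ Finset.range j, φ ((y : G ⧸ X) ^ i) v : V) : G) =
          ((List.range j).map fun i : ℕ => y ^ i * (v : G) * (y ^ i)⁻¹).prod := by
        intro j
        induction j with
        | zero => simp
        | succ n ih =>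
          rw [Finset.prod_range_succ, Subgroup.coe_mul, ih, List.range_succ, List.map_append,
            List.prod_append, List.map_singleton, List.prod_singleton, ← QuotientGroup.mk_pow, hφ]
      rw [Subgroup.coe_one, e q, Part.prod_pow_aux, hcp, hyq, inv_one, mul_one]
    · intro a b hab ha hb hap hbq
      obtain ⟨k, hk⟩ := hap
      -- a fixed vector of `a`
      obtain ⟨v, hv1, hva⟩ : ∃ v : V, v ≠ 1 ∧ φ a v = v := by
        letI : MulAction (Subgroup.zpowers a) V :=
          MulAction.compHom V (φ.comp (Subgroup.zpowers a).subtype)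
        have hP : IsPGroup q (Subgroup.zpowers a) := IsPGroup.of_card (n := k) (by rw [Nat.card_zpowers, hk])
        have hdvd : q ∣ Nat.card V := by
          obtain ⟨n, hn⟩ := IsPGroup.iff_card.1 hVq
          rw [hn]
          refine dvd_pow_self q fun e => ?_
          have := Finite.one_lt_card (α := V)
          rw [hn, e, pow_zero] at this
          omega
        obtain ⟨v, hv, hv1⟩ := hP.exists_fixed_point_of_prime_dvd_card_of_fixed_point V hdvd
          (a := 1) (fun m => map_one (φ (m : G ⧸ X)))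
        exact ⟨v, Ne.symm hv1, hv ⟨a, Subgroup.mem_zpowers a⟩⟩
      set m := orderOf a
      set n := orderOf b
      have hmn : Nat.Coprime m n := hk ▸ (Nat.Coprime.pow_left k hbq.symm)
      have hab1 : a * b ≠ 1 := fun e => ha (orderOf_eq_one_iff.1 (Nat.eq_one_of_dvd_coprimes hmn dvd_rfl
        (dvd_of_eq (by rw [eq_inv_of_mul_eq_one_left e, orderOf_inv]))))
      obtain ⟨c, hc, hcab, hco⟩ := hlift (a * b) hab1
      have hcmn : orderOf c = m * n := hco.trans (hab.orderOf_mul_eq_mul_orderOf_of_coprime hmn)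
      have hu : ((c ^ n : G) : G ⧸ X) = a ^ n := by
        rw [QuotientGroup.mk_pow, hcab, hab.mul_pow, pow_orderOf_eq_one, mul_one]
      have hw : ((c ^ m : G) : G ⧸ X) = b ^ m := by
        rw [QuotientGroup.mk_pow, hcab, hab.mul_pow, pow_orderOf_eq_one, one_mul]
      have huo : orderOf (c ^ n) = m := by
        rw [orderOf_pow_of_dvd (orderOf_pos b).ne' (hcmn ▸ dvd_mul_left n m), hcmn,
          Nat.mul_div_cancel _ (orderOf_pos b)]
      have hwo : orderOf (c ^ m) = n := by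
        rw [orderOf_pow_of_dvd (orderOf_pos a).ne' (hcmn ▸ dvd_mul_right m n), hcmn,
          Nat.mul_div_cancel_left _ (orderOf_pos a)]
      have huX : c ^ n ∉ X := fun e => by
        have h1 := (QuotientGroup.eq_one_iff _).2 e
        rw [hu] at h1
        exact ha (orderOf_eq_one_iff.1 (Nat.eq_one_of_dvd_coprimes hmn dvd_rfl
          (orderOf_dvd_of_pow_eq_one h1)))
      have hwX : c ^ m ∉ X := fun e => by
        have h1 := (QuotientGroup.eq_one_iff _).2 e
        rw [hw] at h1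
        exact hb (orderOf_eq_one_iff.1 (Nat.eq_one_of_dvd_coprimes hmn
          (orderOf_dvd_of_pow_eq_one h1) dvd_rfl))
      refine P.sep_normal hg hq v.2.1 (hordV v hv1) huX hwX
        ((Commute.refl c).pow_pow n m) (fun e => ?_) ?_ (hwo ▸ hbq)
      · rw [huo, hwo] at e
        rw [e, Nat.coprime_self] at hmn
        exact hb (orderOf_eq_one_iff.1 hmn)
      · have hfix : ∀ j : ℕ, φ (a ^ j) v = v := by
          intro j
          induction j with
          | zero => simp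
          | succ j ih => rw [pow_succ, map_mul, MulAut.mul_apply, hva, ih]
        have e := (hφ (c ^ n) v).symm.trans (congrArg Subtype.val (show φ ((c ^ n : G) : G ⧸ X) v = v by
          rw [hu, hfix]))
        exact mul_inv_eq_iff_eq_mul.1 e
  refine ⟨fun a k hk => hH.mem_pCore ⟨k, hk⟩, hH.sep, fun hAq => ?_⟩
  refine hughes hq X hXtop fun y hy => ?_
  obtain ⟨k, hk⟩ := IsPGroup.iff_orderOf.1 hAq (y : G ⧸ X)
  rw [P.lift_pow hg hy] at hk
  obtain ⟨S, hS⟩ := (IsPGroup.of_card (n := k) (by rw [Nat.card_zpowers, hk]) :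
    IsPGroup q (Subgroup.zpowers y)).exists_le_sylow
  have hVS : V ≤ (S : Subgroup G) := hVq.le_sylow_of_normal S
  haveI : Group.IsNilpotent (S : Subgroup G) := S.2.isNilpotent
  have hne : V.subgroupOf (S : Subgroup G) ≠ ⊥ := fun e => hz₀1 (by
    simpa using (Subgroup.eq_bot_iff_forall _).1 e ⟨z₀, hVS hz₀V⟩ hz₀V)
  obtain ⟨⟨z, hzV, hzc⟩, hz1⟩ :=
    Subgroup.ne_bot_iff_exists_ne_one.1 (SolvStruct.inf_center_ne_bot hne)
  have hz1' : (z : G) ≠ 1 := fun e => hz1 (Subtype.ext (Subtype.ext e))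
  have hzX : (z : G) ∈ X := hzV.1
  have hcom : Commute (z : G) y :=
    (congrArg Subtype.val (Subgroup.mem_center_iff.1 hzc ⟨y, hS (Subgroup.mem_zpowers y)⟩)).symm
  obtain ⟨h1, -⟩ := P.prime_of_commute hz1' (fun e => hy (by rw [e]; exact one_mem _)) hcom
    (by rwa [P.eq hg hz1' hzX])
  rw [← hordV ⟨z, hzV⟩ (fun e => hz1' (congrArg Subtype.val e))]
  show y ^ orderOf (z : G) = 1
  rw [h1, pow_orderOf_eq_one]

/-- The case of a normal member. -/
theorem baer_of_normal {g : G} (hg : g ≠ 1) [hN : (P.comp g).Normal] : Baer G := by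
  classical
  set X := P.comp g with hXdef
  have hXtop : X ≠ ⊤ := P.ne_top g hg
  have hX1 : X ≠ ⊥ := fun e => hg (Subgroup.mem_bot.1 (e ▸ P.mem g))
  by_cases hall : ∀ y : G, y ∉ X → ∀ x ∈ X, Commute y x → x = 1
  · exact Or.inr (Or.inr (frobenius_of_free X hX1 hXtop hall))
  push Not at hall
  obtain ⟨y₀, hy₀, x₀, hx₀, hc₀, hx₀1⟩ := hall
  obtain ⟨hord, hq⟩ := P.prime_of_commute hx₀1 (fun e => hy₀ (by rw [e]; exact one_mem _)) hc₀.symm
    (by rwa [P.eq hg hx₀1 hx₀])
  set q := orderOf x₀ with hqdef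
  haveI := Fact.mk hq
  obtain ⟨hcore, hsep, hpg⟩ := P.normal_facts hg hq hx₀ rfl hy₀
  set R := Cfsg.pCore q (G ⧸ X) with hR
  haveI : R.Normal := FiniteGroup.pCore_normal q
  have hRq : IsPGroup q R := FiniteGroup.pCore_isPGroup q
  by_cases hAq : IsPGroup q (G ⧸ X)
  · exact hpg hAq
  · -- the preimage of the core is a Frobenius kernel
    refine Or.inr (Or.inr (frobenius_of_free (R.comap (QuotientGroup.mk' X)) ?_ ?_ ?_))
    · exact fun e => hX1 (le_bot_iff.1 (e ▸ fun x hx => by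
        rw [Subgroup.mem_comap, QuotientGroup.mk'_apply, (QuotientGroup.eq_one_iff x).2 hx]
        exact one_mem _))
    · intro e
      refine hAq fun a => ?_
      obtain ⟨y, rfl⟩ := QuotientGroup.mk'_surjective X a
      have hy : QuotientGroup.mk' X y ∈ R := Subgroup.mem_comap.1 (e ▸ Subgroup.mem_top y)
      obtain ⟨k, hk⟩ := hRq ⟨_, hy⟩
      exact ⟨k, congrArg Subtype.val hk⟩
    intro w hw z hz hcwz
    rw [Subgroup.mem_comap, QuotientGroup.mk'_apply] at hw hz
    -- the prime-to-`q` part of the image of `w`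
    have hwX : w ∉ X := fun e => hw (by rw [(QuotientGroup.eq_one_iff w).2 e]; exact one_mem _)
    have hnotq : ∀ k, orderOf (w : G ⧸ X) ≠ q ^ k := fun k hk => hw (hcore _ k hk)
    by_contra hz1
    by_cases hzX : z ∈ X
    · obtain ⟨hwz, hwp⟩ := P.prime_of_commute hz1 (fun e => hwX (by rw [e]; exact one_mem _)) hcwz.symm
        (by rwa [P.eq hg hz1 hzX])
      -- the unique prime
      have hrq : orderOf w ≠ q := fun e => hnotq 1 (by rw [P.lift_pow hg hwX, e, pow_one])
      obtain ⟨hcore', -, -⟩ := P.normal_facts hg hwp hzX rfl hwX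
      have hy₀R : (y₀ : G ⧸ X) ∈ R := hcore _ 1 (by rw [P.lift_pow hg hy₀, ← hord, pow_one])
      have hwR : (w : G ⧸ X) ∈ Cfsg.pCore (orderOf z) (G ⧸ X) :=
        hcore' _ 1 (by rw [P.lift_pow hg hwX, ← hwz, pow_one])
      refine hsep _ _ (FiniteGroup.commute_pCores hq hwp (fun e => hrq (hwz.symm.trans e.symm)) hy₀R hwR)
        (fun e => hy₀ ((QuotientGroup.eq_one_iff y₀).1 e))
        (fun e => hwX ((QuotientGroup.eq_one_iff w).1 e))
        ⟨1, by rw [P.lift_pow hg hy₀, ← hord, pow_one]⟩ ?_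
      rw [P.lift_pow hg hwX, ← hwz]
      exact (Nat.coprime_primes hwp hq).2 fun e => hrq (hwz.symm.trans e)
    · refine hnotq ((orderOf (w : G ⧸ X)).factorization q) (by_contra fun hne => ?_)
      set a := (w : G ⧸ X)
      set b := a ^ ordProj[q] (orderOf a)
      have hb1 : b ≠ 1 := fun e => hne (Nat.dvd_antisymm (orderOf_dvd_of_pow_eq_one e)
        (Nat.ordProj_dvd _ _))
      obtain ⟨k, hk⟩ := IsPGroup.iff_orderOf.1 hRq ⟨_, hz⟩
      rw [Subgroup.orderOf_mk] at hk
      refine hsep (z : G ⧸ X) b ?_ (fun e => hzX ((QuotientGroup.eq_one_iff z).1 e)) hb1 ⟨k, hk⟩ ?_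
      · exact (hcwz.symm.map (QuotientGroup.mk' X)).pow_right _
      · rw [orderOf_pow_of_dvd (Nat.pos_iff_ne_zero.1 (Nat.ordProj_pos _ _)) (Nat.ordProj_dvd _ _)]
        exact (Nat.coprime_ordCompl hq (orderOf_pos a).ne').symm

end Part

end Cfsg.Agent.Partition
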