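import Cfsg.Agent.Lib.Partition.Socle
import Cfsg.Agent.Lib.CNSimple.TIMain

/-!
# Extensions of odd degree of simple groups with a good subgroup, with a partition
-/

set_option autoImplicit false
set_option linter.style.haveILetI false
set_option linter.unusedSectionVars false

namespace Cfsg.Agent.Partition

open Cfsg.Agent.Invol MulAction
open Cfsg.Agent.CNSimple (Ct mem_Ct TIHyp)

universe u

/-- The good subgroup is a `2`-group. -/
theorem isPGroup_two {M : Type u} [Group M] [Finite M] [IsSimpleGroup M] {K : Subgroup M} (h : TIHyp K) :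
    IsPGroup 2 K := by
  classical
  haveI := Fintype.ofFinite (M ⧸ h.N)
  obtain ⟨v, hv, hvN⟩ := h.exists_invol_not_mem
  set x₀ : M ⧸ h.N := ((1 : M) : M ⧸ h.N) with hx₀
  set y₀ : M ⧸ h.N := v • x₀ with hy₀
  have hyx : y₀ ≠ x₀ := fun e => hvN (h.fix_base.1 e)
  have D : ZassKer.Ker x₀ y₀ K := ZassSuz.ker_of_reg h.zassenhaus hyx.symm
    (fun a ha => mem_stabilizer_iff.2 (h.fix_base.2 (h.K_le_N ha)))
    (fun g hg a ha => h.conj_K (h.fix_base.1 hg) ha) fun p q hp hq => h.regular hp hq
  obtain ⟨p, f, hp, hf, hpf⟩ := (isPrimePow_nat_iff _).mp D.isPrimePow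
  have hp2 : p = 2 := ((Nat.prime_dvd_prime_iff_eq Nat.prime_two hp).mp
    (Nat.prime_two.dvd_of_dvd_pow (hpf ▸ h.even))).symm
  exact IsPGroup.of_card (n := f) (by rw [← hpf, hp2])

variable {G : Type u} [Group G] [Finite G] {M : Subgroup G} [M.Normal] [IsSimpleGroup M]
  {K : Subgroup M}

/-- An automorphism fixing the good subgroup pointwise, of odd order, is trivial. -/
theorem aut_eq_one (h : TIHyp K) {α : MulAut M} (hα : Odd (orderOf α)) (hfix : ∀ k ∈ K, α k = k) :
    α = 1 := by
  have hN : ∀ n, n ∈ h.N ↔ α n ∈ h.N := by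
    have hmem : ∀ x, x ∈ K ↔ α x ∈ K := fun x =>
      ⟨fun hx => by rw [hfix x hx]; exact hx, fun hx => by
        rwa [α.injective (hfix _ hx)] at hx⟩
    intro n
    constructor
    · intro hn
      rw [Subgroup.mem_normalizer_iff]
      intro x
      obtain ⟨y, rfl⟩ := α.surjective x
      rw [← map_inv, ← map_mul, ← map_mul, ← hmem, ← hmem]
      exact Subgroup.mem_normalizer_iff.1 hn y
    · intro hn
      rw [Subgroup.mem_normalizer_iff]
      intro y
      rw [hmem y, hmem (n * y * n⁻¹), map_mul, map_mul, map_inv]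
      exact Subgroup.mem_normalizer_iff.1 hn (α y)
  set x₀ : M ⧸ h.N := ((1 : M) : M ⧸ h.N) with hx₀
  have hmk : ∀ r : M, r • x₀ = (r : M ⧸ h.N) := fun r => by
    rw [hx₀, MulAction.Quotient.smul_coe, smul_eq_mul, mul_one]
  -- every point is fixed
  have hfixpt : ∀ r : M, r⁻¹ * α r ∈ h.N := by
    intro r
    by_cases hr : r ∈ h.N
    · exact mul_mem (inv_mem hr) ((hN r).1 hr)
    have hy : (r : M ⧸ h.N) ≠ x₀ := fun e => hr (by simpa using inv_mem (QuotientGroup.eq.1 e))
    have hαr : ((α r : M) : M ⧸ h.N) ≠ x₀ := fun e =>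
      hr ((hN r).2 (by simpa using inv_mem (QuotientGroup.eq.1 e)))
    obtain ⟨k, hk, huniq⟩ := h.regular hy hαr
    have hstep : ∀ j : ℕ, ((α ^ j) r : M ⧸ h.N) = ((k : M) ^ j) • (r : M ⧸ h.N) := by
      intro j
      induction j with
      | zero => simp
      | succ j ih =>
        rw [MulAction.Quotient.smul_coe, smul_eq_mul] at ih ⊢
        have h1 : ((α r : M) : M ⧸ h.N) = (((k : M) * r : M) : M ⧸ h.N) := by
          rw [← hk, MulAction.Quotient.smul_coe, smul_eq_mul]
        have h3 := (hN _).1 (QuotientGroup.eq.1 ih)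
        rw [map_mul, map_inv, map_mul, map_pow, hfix _ k.2] at h3
        rw [pow_succ' α, MulAut.mul_apply]
        refine QuotientGroup.eq.2 ?_
        have h4 := mul_mem h3 (QuotientGroup.eq.1 h1)
        rwa [show (α ((α ^ j) r))⁻¹ * ((k : M) ^ j * α r) * ((α r)⁻¹ * ((k : M) * r)) =
          (α ((α ^ j) r))⁻¹ * ((k : M) ^ (j + 1) * r) by rw [pow_succ (k : M)]; group] at h4
    have ho := hstep (orderOf α)
    rw [pow_orderOf_eq_one, MulAut.one_apply] at ho
    have hk1 : (k : M) ^ orderOf α = 1 := by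
      obtain ⟨a, -, hu⟩ := h.regular hy hy
      have h1 := hu ⟨_, pow_mem k.2 (orderOf α)⟩ ho.symm
      have h2 := hu 1 (by simp)
      exact congrArg Subtype.val (h1.trans h2.symm)
    obtain ⟨e, he⟩ := IsPGroup.iff_orderOf.1 (isPGroup_two h) k
    have hd : orderOf k ∣ orderOf α := orderOf_dvd_of_pow_eq_one (Subtype.ext hk1)
    have : k = 1 := orderOf_eq_one_iff.1 (Nat.eq_one_of_dvd_coprimes
      (by rw [he]; exact Nat.Coprime.pow_left _ (Nat.coprime_two_left.2 hα)) dvd_rfl hd)
    rw [this, Subgroup.coe_one, one_smul] at hk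
    exact QuotientGroup.eq.1 hk
  -- the commutators lie in the core
  have hcore : ∀ r : M, r⁻¹ * α r = 1 := by
    intro r
    have hmem : r⁻¹ * α r ∈ h.N.normalCore := fun s => by
      have := mul_mem (hfixpt (r * s⁻¹)) (inv_mem (hfixpt s⁻¹))
      rwa [map_mul, show (r * s⁻¹)⁻¹ * (α r * α s⁻¹) * ((s⁻¹)⁻¹ * α s⁻¹)⁻¹ =
        s * (r⁻¹ * α r) * s⁻¹ by group] at this
    have hne : h.N.normalCore ≠ ⊤ := fun e =>
      h.ne_top (top_le_iff.1 (e ▸ Subgroup.normalCore_le h.N))
    rw [(Subgroup.Normal.eq_bot_or_eq_top inferInstance).resolve_right hne, Subgroup.mem_bot] at hmem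
    exact hmem
  exact MulEquiv.ext fun r => (inv_mul_eq_one.1 (hcore r)).symm

/-- An almost simple group of odd degree over such a group is simple. -/
theorem Part.eq_top_of_tiHyp (P : Part G) (hnil : ∀ g : G, g ≠ 1 → Group.IsNilpotent (P.comp g))
    (hC : Subgroup.centralizer (M : Set G) = ⊥) (h : TIHyp K) (hodd : Odd M.index) : M = ⊤ := by
  -- odd elements commuting with a central involution of the good subgroup lie in `M`
  have key : ∀ n : G, Odd (orderOf n) → ∀ t : M, orderOf t = 2 → t ∈ K → Commute n t → n ∈ M := by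
    intro n hn t ht htK hc
    by_cases hn1 : n = 1
    · exact hn1 ▸ one_mem M
    have hto : orderOf (t : G) = 2 := by rw [Subgroup.orderOf_coe, ht]
    have hne : orderOf (t : G) ≠ orderOf n := fun e => by
      rw [← e, hto] at hn; exact absurd hn (by decide)
    have hnX : n ∈ P.comp (t : G) := P.mem_of_commute (ne_one hto) hc.symm hne
    have htc : ∀ k ∈ K, Commute (k : G) t := fun k hk => by
      have := mem_Ct.1 ((h.Ct_invol ht htK).ge hk)
      exact congrArg Subtype.val this
    by_cases hall : ∀ k ∈ K, (k : G) ∈ P.comp (t : G)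
    swap
    · push Not at hall
      obtain ⟨k, hk, hkX⟩ := hall
      have hkN := P.mem_normalizer_of_commute (ne_one hto) (P.mem (t : G)) (ne_one hto) (htc k hk)
      have hk1 : (k : G) ≠ 1 := fun e => hkX (e ▸ one_mem _)
      have hko : orderOf (k : G) = 2 := by
        rw [← (P.prime_of_commute (ne_one hto) hk1 (htc k hk).symm hkX).1, hto]
      have hinv := P.inv_of_invol (ne_one hto) hkN hkX (mul_self hko) hnX
      have h2 : n⁻¹ * n⁻¹ ∈ M := by
        have := mul_mem k.2 ((‹M.Normal›).conj_mem _ (inv_mem k.2) n)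
        rwa [show (k : G) * (n * (k : G)⁻¹ * n⁻¹) = (k : G) * n * (k : G)⁻¹ * n⁻¹ by group, hinv] at this
      obtain ⟨j, hj⟩ := exists_sqrt hn
      rw [← hj, ← pow_mul, mul_comm, pow_mul]
      refine pow_mem ?_ j
      have := inv_mem h2
      rwa [mul_inv_rev, inv_inv, ← sq] at this
    have hcent : ∀ k ∈ K, Commute (k : G) n := fun k hk => by
      refine CN.commute_of_coprime (hnil _ (ne_one hto)) (hall k hk) hnX ?_
      obtain ⟨e, he⟩ := IsPGroup.iff_orderOf.1 (isPGroup_two h) ⟨k, hk⟩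
      rw [Subgroup.orderOf_mk] at he
      rw [Subgroup.orderOf_coe, he]
      exact Nat.Coprime.pow_left _ (Nat.coprime_two_left.2 hn)
    have hα : (MulAut.conjNormal n : MulAut M) = 1 := by
      refine aut_eq_one h (hn.of_dvd_nat (orderOf_map_dvd _ n)) fun k hk => Subtype.ext ?_
      rw [MulAut.conjNormal_apply, mul_inv_eq_iff_eq_mul]
      exact (hcent k hk).symm
    have : n ∈ Subgroup.centralizer (M : Set G) := fun m hm => by
      have e := congrArg Subtype.val (DFunLike.congr_fun hα ⟨m, hm⟩)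
      rw [MulAut.conjNormal_apply, MulAut.one_apply] at e
      exact (mul_inv_eq_iff_eq_mul.1 e).symm
    rw [hC, Subgroup.mem_bot] at this
    exact absurd this hn1
  obtain ⟨z, hzK, hz, -⟩ := h.exists_central
  refine top_le_iff.1 fun x _ => ?_
  have hzx : orderOf (MulAut.conjNormal x z : M) = 2 :=
    ((MulAut.conjNormal x : MulAut M).orderOf_eq z).trans hz
  obtain ⟨m, hm⟩ := isConj_iff.1 (h.isConj hzx hz)
  set y : G := (m : G) * x with hy
  have hyz : Commute y (z : G) := by
    have e := congrArg Subtype.val hm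
    rw [Subgroup.coe_mul, Subgroup.coe_mul, Subgroup.coe_inv, MulAut.conjNormal_apply] at e
    show y * z = z * y
    calc y * z = ((m : G) * (x * z * x⁻¹) * (m : G)⁻¹) * y := by rw [hy]; group
      _ = z * y := by rw [e]
  suffices hyM : y ∈ M by
    have := mul_mem (inv_mem m.2) hyM
    rwa [hy, inv_mul_cancel_left] at this
  obtain ⟨e, a, ha, hdec⟩ : ∃ e a, Odd a ∧ orderOf y = 2 ^ e * a := by
    exact ⟨_, _, Nat.odd_iff.2 (Nat.two_dvd_ne_zero.1 (Nat.not_dvd_ordCompl Nat.prime_two (orderOf_pos y).ne')),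
      (Nat.ordProj_mul_ordCompl_eq_self _ _).symm⟩
  have hy2 : y ^ 2 ^ e ∈ M := by
    refine key _ ?_ z hz hzK (hyz.pow_left _)
    rw [orderOf_pow' y (pow_ne_zero e two_ne_zero), hdec, Nat.gcd_eq_right (dvd_mul_right _ _),
      Nat.mul_div_cancel_left _ (pow_pos two_pos e)]
    exact ha
  have h1 : (QuotientGroup.mk y : G ⧸ M) ^ 2 ^ e = 1 := by
    rw [← QuotientGroup.mk_pow, QuotientGroup.eq_one_iff]; exact hy2
  have h2 : orderOf (QuotientGroup.mk y : G ⧸ M) ∣ M.index := by
    rw [Subgroup.index_eq_card]; exact orderOf_dvd_natCard _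
  rw [← QuotientGroup.eq_one_iff, ← orderOf_eq_one_iff]
  exact Nat.eq_one_of_dvd_coprimes (Nat.Coprime.pow_left e (Nat.coprime_two_left.2 hodd))
    (orderOf_dvd_of_pow_eq_one h1) h2

end Cfsg.Agent.Partition
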