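import Cfsg.Agent.Lib.Partition.SimpleTI
import Cfsg.Agent.Lib.Partition.AutPSL
import Cfsg.Agent.Lib.Partition.TIExt
import Cfsg.Agent.Lib.CNSimple.CITOuter
import Cfsg.Agent.Lib.SzRecog.Named
import Cfsg.Agent.Lib.Suzuki.Out
import Cfsg.Agent.Lib.Suzuki.Minor

/-!
# Groups with a non-trivial partition and no soluble normal subgroup
-/

set_option autoImplicit false
set_option linter.style.haveILetI false
set_option linter.unusedSectionVars false

namespace Cfsg.Agent.Partition

universe u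

open Matrix Cfsg.Agent.AutPSL

/-- Groups between `PSL(2, q)` and its automorphism group. -/
theorem almost_of_fld {F : Type} [Field F] [Fintype F] (h5 : 5 ≤ Fintype.card F)
    (A : Subgroup (MulAut (Matrix.ProjectiveSpecialLinearGroup (Fin 2) F)))
    (hA : Cfsg.Inn (Matrix.ProjectiveSpecialLinearGroup (Fin 2) F) ≤ A) (hfld : ∀ β ∈ A, GW.fldHom β = 1) :
    Nonempty (A ≃* Matrix.ProjectiveSpecialLinearGroup (Fin 2) F) ∨
      (Odd (Fintype.card F) ∧ Nonempty (A ≃* Matrix.ProjGenLinGroup (Fin 2) F)) := by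
  haveI : IsSimpleGroup (Matrix.ProjectiveSpecialLinearGroup (Fin 2) F) :=
    Matrix.ProjectiveSpecialLinearGroup.rank_two_simple (by rw [Nat.card_eq_fintype_card]; omega)
  have hsub : ∀ β ∈ A, ∃ g : GL (Fin 2) F, β = semi g 1 := fun β hβ =>
    mem_inndiag.1 ((GW.mem_inndiag_iff_fld β).2 (hfld β hβ))
  by_cases hle : A ≤ Cfsg.Inn (Matrix.ProjectiveSpecialLinearGroup (Fin 2) F)
  · left
    have hinj : Function.Injective
        (MulAut.conj : Matrix.ProjectiveSpecialLinearGroup (Fin 2) F →* _) := by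
      refine (MonoidHom.ker_eq_bot_iff _).1 ((IsSimpleGroup.eq_bot_or_eq_top_of_normal _
        inferInstance).resolve_right fun htop => ?_)
      have hcomm : ∀ x y : Matrix.ProjectiveSpecialLinearGroup (Fin 2) F, x * y = y * x := by
        intro x y
        have hx : MulAut.conj x = 1 := (MonoidHom.mem_ker).1 (htop ▸ Subgroup.mem_top x)
        exact mul_inv_eq_iff_eq_mul.1 (DFunLike.congr_fun hx y :)
      exact Dickson.not_isSolvable_psl (F := F) (by rw [Nat.card_eq_fintype_card]; omega)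
        (Group.isSolvable_of_comm hcomm)
    exact ⟨((MonoidHom.ofInjective hinj).trans
      (MulEquiv.subgroupCongr (show MulAut.conj.range = A from le_antisymm hA hle))).symm⟩
  right
  obtain ⟨β, hβA, hβ⟩ := SetLike.not_le_iff_exists.1 hle
  obtain ⟨g₀, rfl⟩ := hsub β hβA
  have hg₀ : GeneralLinearGroup.det g₀ ∉ (powMonoidHom 2 : Fˣ →* Fˣ).range := fun hh =>
    hβ ((semi_mem_inn le_rfl g₀).2 hh)
  have hodd : Odd (Fintype.card F) := by
    by_contra hev
    obtain ⟨y, hy⟩ := FiniteField.isSquare_of_char_two (F := F)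
      (FiniteField.even_card_iff_char_two.2 (Nat.even_iff.1 (Nat.not_odd_iff_even.1 hev)))
      (GeneralLinearGroup.det g₀ : F)
    have hy0 : y ≠ 0 := fun e0 => (GeneralLinearGroup.det g₀).ne_zero (by rw [hy, e0, mul_zero])
    exact hg₀ ⟨Units.mk0 y hy0, Units.ext (by
      rw [powMonoidHom_apply, Units.val_pow_eq_pow_val, Units.val_mk0, hy, pow_two])⟩
  have hidx : ((powMonoidHom 2 : Fˣ →* Fˣ).range).index = 2 := by
    rw [Subgroup.index_eq_card, card_quotient_powMonoidHom rfl]
    obtain ⟨k, hk⟩ := hodd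
    rw [hk, Nat.add_sub_cancel]
    exact Nat.gcd_eq_left (dvd_mul_right 2 k)
  have hall : (AutPSL.conjHom : GL (Fin 2) F →* _).range = A := by
    refine le_antisymm ?_ fun β hβ' => ?_
    · rintro _ ⟨g, rfl⟩
      by_cases hg : GeneralLinearGroup.det g ∈ (powMonoidHom 2 : Fˣ →* Fˣ).range
      · exact hA ((semi_mem_inn le_rfl g).2 hg)
      have h1 : (semi (g * g₀⁻¹) 1 : MulAut _) ∈ A := hA ((semi_mem_inn le_rfl _).2 (by
        rw [map_mul, map_inv]
        exact (Subgroup.mul_mem_iff_of_index_two hidx).2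
          (iff_of_false hg fun hh => hg₀ (inv_mem_iff.1 hh))))
      have h2 := mul_mem h1 hβA
      rw [semi_mul', mapGL_one, mul_one, inv_mul_cancel_right] at h2
      exact h2
    · obtain ⟨g, rfl⟩ := hsub β hβ'
      exact ⟨g, rfl⟩
  let π : Matrix.ProjGenLinGroup (Fin 2) F →*
      MulAut (Matrix.ProjectiveSpecialLinearGroup (Fin 2) F) :=
    Matrix.ProjGenLinGroup.lift AutPSL.conjHom (by
      refine MonoidHom.ext fun u => ?_
      rw [MonoidHom.comp_apply, conjHom_apply, MonoidHom.one_apply]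
      exact (semi_eq_one_iff le_rfl).2 ⟨rfl, u, rfl⟩)
  have hπ : Function.Injective π := by
    rw [injective_iff_map_eq_one]
    intro x hx
    induction x using Matrix.ProjGenLinGroup.induction_on with
    | mk g =>
      rw [Matrix.ProjGenLinGroup.lift_mk, conjHom_apply] at hx
      obtain ⟨-, c, hc⟩ := (semi_eq_one_iff le_rfl).1 hx
      rw [hc, Matrix.ProjGenLinGroup.mk_scalar]
  have hr : π.range = A := by
    rw [← hall]
    ext β
    constructor
    · rintro ⟨x, rfl⟩
      induction x using Matrix.ProjGenLinGroup.induction_on with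
      | mk g => exact ⟨g, (Matrix.ProjGenLinGroup.lift_mk _ g).symm⟩
    · rintro ⟨g, rfl⟩
      exact ⟨Matrix.ProjGenLinGroup.mk g, Matrix.ProjGenLinGroup.lift_mk _ g⟩
  exact ⟨‹Odd (Fintype.card F)›, ⟨((MonoidHom.ofInjective hπ).trans (MulEquiv.subgroupCongr hr)).symm⟩⟩

variable {G : Type u} [Group G] [Finite G]

/-- The possibilities for a group without soluble normal subgroup. -/
def Named (G : Type u) [Group G] : Prop :=
  (∃ (F : Type) (_ : Field F) (_ : Fintype F), 4 ≤ Fintype.card F ∧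
      Nonempty (G ≃* Matrix.ProjectiveSpecialLinearGroup (Fin 2) F)) ∨
  (∃ (F : Type) (_ : Field F) (_ : Fintype F), 5 ≤ Fintype.card F ∧ Odd (Fintype.card F) ∧
      Nonempty (G ≃* (GL (Fin 2) F ⧸ Subgroup.center (GL (Fin 2) F)))) ∨
  Cfsg.Lie.IsoSuzuki G

theorem four_le_of_simple {M : Type u} [Group M] [Finite M] [IsSimpleGroup M]
    (hna : ∃ a b : M, a * b ≠ b * a) {F : Type} [Field F] [Fintype F]
    (e : M ≃* Matrix.ProjectiveSpecialLinearGroup (Fin 2) F) : 4 ≤ Fintype.card F := by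
  by_contra hlt
  obtain ⟨a, b, hab⟩ := hna
  refine hab (IsSimpleGroup.comm_iff_isSolvable.2 ?_ a b)
  have h2 : 2 ≤ Fintype.card F := Fintype.one_lt_card
  have hg := Dickson.gcd_mul_card_psl (K := F)
  rw [Nat.card_eq_fintype_card (α := F)] at hg
  obtain ⟨i, j, hij⟩ : ∃ i j : ℕ,
      Nat.card (Matrix.ProjectiveSpecialLinearGroup (Fin 2) F) = 2 ^ i * 3 ^ j := by
    rcases (show Fintype.card F = 2 ∨ Fintype.card F = 3 by omega) with h | h <;>
      rw [h] at hg <;> norm_num at hg
    · exact ⟨1, 1, by omega⟩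
    · exact ⟨2, 1, by omega⟩
  exact Char.isSolvable_of_card_pq 2 3 Nat.prime_two Nat.prime_three _ M rfl
    ⟨i, j, (Nat.card_congr e.toEquiv).trans hij⟩

/-- A group without soluble normal subgroup with a partition with nilpotent members. -/
theorem named (P : Part G) (hG : NoSol G) (hnil : ∀ g : G, g ≠ 1 → Group.IsNilpotent (P.comp g))
    [Nontrivial G] : Named G := by
  obtain ⟨M, hMn, hMs, hna, hC, hsp⟩ := exists_socle P hG hnil
  haveI := hMn
  haveI := hMs
  let Q := P.restrict M hsp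
  have hQnil : ∀ g : M, g ≠ 1 → Group.IsNilpotent (Q.comp g) := fun g hg => by
    haveI := hnil g (fun e => hg (Subtype.ext e))
    show Group.IsNilpotent ((P.comp (g : G)).subgroupOf M)
    haveI : Group.IsNilpotent (((P.comp (g : G)).subgroupOf M).map M.subtype) :=
      CN.nilpotent_of_le (by rintro _ ⟨x, hx, rfl⟩; exact hx) (hnil (g : G) fun e => hg (Subtype.ext e))
    exact Group.nilpotent_of_mulEquiv
      (((P.comp (g : G)).subgroupOf M).equivMapOfInjective M.subtype M.subtype_injective).symm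
  have hM : (∃ (F : Type) (_ : Field F) (_ : Fintype F),
      Nonempty (M ≃* Matrix.ProjectiveSpecialLinearGroup (Fin 2) F)) ∨
        ((∃ K : Subgroup M, CNSimple.TIHyp K) ∧ Cfsg.Lie.IsoSuzuki M) := by
    rcases Q.simple hna hQnil with h | ⟨K, hK⟩
    · exact Or.inl h
    · rcases SzRecog.tiHyp_main hK with ⟨F, i1, i2, -, -, h⟩ | h
      · exact Or.inl ⟨F, i1, i2, h⟩
      · exact Or.inr ⟨⟨K, hK⟩, h⟩
  rcases hM with ⟨F₀, _, _, ⟨e₀⟩⟩ | ⟨⟨K, hK⟩, hSz⟩
  · obtain ⟨F, i1, i2, h5, ⟨e⟩⟩ := NormCyc.exists_field (four_le_of_simple hna e₀) e₀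
    let φ := CNSimple.autMap e
    let eA : G ≃* φ.range := MonoidHom.ofInjective (CNSimple.autMap_injective e hC)
    have hInn : Cfsg.Inn (Matrix.ProjectiveSpecialLinearGroup (Fin 2) F) ≤ φ.range := by
      rintro _ ⟨x, rfl⟩
      exact ⟨_, CNSimple.autMap_symm e x⟩
    have hnilA : ∀ g : φ.range, g ≠ 1 → Group.IsNilpotent ((P.map eA).comp g) := fun g hg => by
      have hg' : eA.symm g ≠ 1 := fun e' => hg (eA.symm.injective (e'.trans (map_one _).symm))
      haveI := hnil _ hg'
      exact Group.nilpotent_of_mulEquiv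
        ((P.comp (eA.symm g)).equivMapOfInjective eA.toMonoidHom eA.injective)
    rcases almost_of_fld h5 φ.range hInn
        (fun β hβ => AutField.fld_trivial (P.map eA) hnilA hInn h5 hβ) with ⟨⟨h⟩⟩ | ⟨hodd, ⟨h⟩⟩
    · exact Or.inl ⟨F, i1, i2, by omega, ⟨eA.trans h⟩⟩
    · exact Or.inr (Or.inl ⟨F, i1, i2, h5, hodd, ⟨eA.trans h⟩⟩)
  · obtain ⟨F, i1, i2, m, hm, hcard, ⟨e⟩⟩ := hSz
    have hS : Suzuki.SzField F m := ⟨hm, hcard⟩
    have hodd : Odd M.index := by
      let out : G →* Cfsg.Out M := (QuotientGroup.mk' (Cfsg.Inn M)).comp MulAut.conjNormal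
      have hker : out.ker = M := by
        ext x
        rw [MonoidHom.mem_ker]
        show ((MulAut.conjNormal x : MulAut M) : Cfsg.Out M) = 1 ↔ x ∈ M
        rw [QuotientGroup.eq_one_iff]
        constructor
        · rintro ⟨u, hu⟩
          refine CNSimple.mem_of_conj (MulEquiv.refl M) hC (u := u) ?_
          rw [hu]; rfl
        · intro hx
          exact ⟨⟨x, hx⟩, MulEquiv.ext fun y => Subtype.ext (MulAut.conjNormal_apply x y).symm⟩
      have hd : M.index ∣ 2 * m + 1 := by
        have e1 : M.index = Nat.card out.range := by rw [← Subgroup.index_ker out, hker]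
        rw [← Suzuki.card_out hS, ← Suzuki.card_out_congr ((Suzuki.minorEquiv hS).trans e.symm), e1]
        exact Subgroup.card_subgroup_dvd_card _
      exact (odd_two_mul_add_one m).of_dvd_nat hd
    have htop := P.eq_top_of_tiHyp hnil hC hK hodd
    exact Or.inr (Or.inr ⟨F, i1, i2, m, hm, hcard,
      ⟨((MulEquiv.subgroupCongr htop).trans Subgroup.topEquiv).symm.trans e⟩⟩)

end Cfsg.Agent.Partition
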