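import Cfsg.Agent.Lib.Partition.Simple

/-!
# Simple groups with a partition: the members of the involutions contain their centralisers
-/

set_option autoImplicit false
set_option linter.style.haveILetI false
set_option linter.unusedSectionVars false

namespace Cfsg.Agent.Partition

open Cfsg.Agent.Invol MulAction
open Cfsg.Agent.CNSimple (Ct mem_Ct self_mem_Ct TIHyp)

universe u

variable {G : Type u} [Group G] [Finite G]

namespace Part

variable (P : Part G)

/-- The hypotheses of this case. -/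
structure BCase (z : G) : Prop where
  hz : orderOf z = 2
  cent : Ct z = P.comp z
  cover : ∀ u : G, orderOf u = 2 → ∃ g : G, g⁻¹ * u * g ∈ P.comp z
  allB : ∀ u : G, orderOf u = 2 → Ct u ≤ P.comp u
  nil : Group.IsNilpotent (P.comp z)

namespace BCase

variable {P} {z : G} (h : P.BCase z)
include h

/-- The normaliser of the member. -/
abbrev N (_ : P.BCase z) : Subgroup G := Subgroup.normalizer (P.comp z : Set G)

theorem z_ne : z ≠ 1 := ne_one h.hz

theorem smul_base {a g : G} : a • (g : G ⧸ h.N) = g ↔ g⁻¹ * a * g ∈ h.N := by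
  rw [MulAction.Quotient.smul_coe, smul_eq_mul, eq_comm, QuotientGroup.eq, ← mul_assoc]

theorem fix_base {a : G} : a • ((1 : G) : G ⧸ h.N) = ((1 : G) : G ⧸ h.N) ↔ a ∈ h.N := by
  rw [h.smul_base, inv_one, one_mul, mul_one]

theorem X_le_N : P.comp z ≤ h.N := Subgroup.le_normalizer

theorem invol_mem {u : G} (hu : orderOf u = 2) (huN : u ∈ h.N) : u ∈ P.comp z := by
  by_contra hX
  have := P.inv_of_invol h.z_ne huN hX (mul_self hu) (P.mem z)
  rw [inv_self h.hz, mul_inv_eq_iff_eq_mul] at this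
  exact hX (h.cent ▸ mem_Ct.2 this)

/-- An element of the member fixes no other point swapped with the base point by an involution. -/
theorem D_inf {u : G} (hu : orderOf u = 2) (huN : u ∉ h.N) {a : G} (ha : a ∈ P.comp z)
    (hau : u * a * u ∈ h.N) : a = 1 := by
  by_contra ha1
  obtain ⟨r, hr, hrd⟩ := Nat.exists_prime_and_dvd (fun e => ha1 (orderOf_eq_one_iff.1 e))
  set a₁ := a ^ (orderOf a / r) with ha₁def
  have hao : orderOf a₁ = r := orderOf_pow_orderOf_div (orderOf_pos a).ne' hrd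
  have ha₁1 : a₁ ≠ 1 := fun e => hr.ne_one (by rw [← hao, e, orderOf_one])
  have ha₁X : a₁ ∈ P.comp z := pow_mem ha _
  have hb : u * a₁ * u ∈ h.N := by
    have e : u * a₁ * u = (u * a * u) ^ (orderOf a / r) := by
      have := (map_pow (MulAut.conj u) a (orderOf a / r))
      simpa [MulAut.conj_apply, inv_self hu, ha₁def] using this
    rw [e]; exact pow_mem hau _
  have hbo : orderOf (u * a₁ * u) = r := by
    rw [show u * a₁ * u = u * a₁ * u⁻¹ by rw [inv_self hu], order_conj, hao]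
  have hu' : ∀ w : G, u * (u * w * u) * u = w := fun w => by
    rw [show u * (u * w * u) * u = (u * u) * w * (u * u) by group, mul_self hu, one_mul, mul_one]
  have hbX : u * a₁ * u ∉ P.comp z := fun e => huN
    (P.mem_normalizer_of_meet h.z_ne ha₁X ha₁1 (by rwa [inv_self hu]))
  rcases hr.eq_two_or_odd' with rfl | hodd
  · exact hbX (h.invol_mem hbo hb)
  set b := u * a₁ * u with hbdef
  -- `a₁` and `b` commute
  have hc : a₁ * b = b * a₁ := by
    have h1 : a₁ * b * a₁⁻¹ * b⁻¹ ∈ P.comp z := by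
      rw [show a₁ * b * a₁⁻¹ * b⁻¹ = a₁ * (b * a₁⁻¹ * b⁻¹) by group]
      exact mul_mem ha₁X (P.conj_mem hb (inv_mem ha₁X))
    have h2 : u * (a₁ * b * a₁⁻¹ * b⁻¹) * u⁻¹ ∈ P.comp z := by
      rw [show u * (a₁ * b * a₁⁻¹ * b⁻¹) * u⁻¹ =
        (u * a₁ * u⁻¹) * (u * b * u⁻¹) * (u * a₁ * u⁻¹)⁻¹ * (u * b * u⁻¹)⁻¹ by group, inv_self hu,
        ← hbdef, hbdef, hu', ← hbdef]
      exact mul_mem (P.conj_mem hb ha₁X) (inv_mem ha₁X)
    by_contra hne
    refine huN (P.mem_normalizer_of_meet h.z_ne h1 (fun e => hne ?_) h2)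
    calc a₁ * b = (a₁ * b * a₁⁻¹ * b⁻¹) * (b * a₁) := by group
      _ = b * a₁ := by rw [e, one_mul]
  set w := a₁ * b with hwdef
  have hw1 : w ≠ 1 := fun e => hbX (by
    rw [eq_inv_of_mul_eq_one_right e]; exact inv_mem ha₁X)
  have hwu : w * u = u * w := by
    calc w * u = a₁ * u * a₁ * (u * u) := by rw [hwdef, hbdef]; group
      _ = a₁ * u * a₁ := by rw [mul_self hu, mul_one]
      _ = (u * u) * (a₁ * u * a₁) := by rw [mul_self hu, one_mul]
      _ = u * (b * a₁) := by rw [hbdef]; group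
      _ = u * w := by rw [hc]
  have hwW : w ∈ P.comp u := h.allB u hu (mem_Ct.2 hwu)
  have haN : a₁ ∈ Subgroup.normalizer (P.comp u : Set G) :=
    P.mem_normalizer_of_commute (ne_one hu) hwW hw1 (by
      show a₁ * (a₁ * b) = a₁ * b * a₁
      rw [mul_assoc a₁ b, ← hc])
  have h3 : b * a₁⁻¹ ∈ P.comp u := by
    have := mul_mem (P.mem u) (P.conj_mem haN (inv_mem (P.mem u)))
    rwa [inv_self hu, show u * (a₁ * u * a₁⁻¹) = b * a₁⁻¹ by rw [hbdef]; group] at this
  have h4 : a₁ ^ 2 ∈ P.comp u := by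
    have := mul_mem hwW (inv_mem h3)
    rwa [hwdef, show a₁ * b * (b * a₁⁻¹)⁻¹ = a₁ * (b * a₁ * b⁻¹) by group, ← hc,
      show a₁ * (a₁ * b * b⁻¹) = a₁ ^ 2 by rw [sq]; group] at this
  have h5 : a₁ ^ 2 ≠ 1 := fun e => by
    have h5 := orderOf_dvd_of_pow_eq_one e
    rw [hao] at h5
    obtain ⟨k, hk⟩ := hodd
    have := Nat.le_of_dvd two_pos h5
    have := hr.two_le
    omega
  have h6 := P.eq_of_mem_mem (ne_one hu) h.z_ne ha₁1 (P.mem_of_pow_mem (ne_one hu) h5 h4) ha₁X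
  exact huN (h.X_le_N (h6 ▸ P.mem u))

/-- The involutions of the member. -/
abbrev J (_ : P.BCase z) : Type u := {t : G // orderOf t = 2 ∧ t ∈ P.comp z}

/-- The stabiliser of the base point and its image under an involution. -/
abbrev D (_ : P.BCase z) (u : G) : Type u :=
  {d : G // d ∈ Subgroup.normalizer (P.comp z : Set G) ∧
    u * d * u ∈ Subgroup.normalizer (P.comp z : Set G)}

/-- The action on the involutions of the member. -/
def toJ (u : G) (d : h.D u) : h.J :=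
  ⟨d.1 * z * d.1⁻¹, (order_conj d.1 z).trans h.hz, P.conj_mem d.2.1 (P.mem z)⟩

theorem toJ_injective {u : G} (hu : orderOf u = 2) (huN : u ∉ h.N) :
    Function.Injective (h.toJ u) := by
  intro d d' e
  have e' : d.1 * z * d.1⁻¹ = d'.1 * z * d'.1⁻¹ := congrArg Subtype.val e
  have hmem : d'.1⁻¹ * d.1 ∈ Ct z := mem_Ct.2 (by
    calc d'.1⁻¹ * d.1 * z = d'.1⁻¹ * (d.1 * z * d.1⁻¹) * d.1 := by group
      _ = z * (d'.1⁻¹ * d.1) := by rw [e']; group)
  rw [h.cent] at hmem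
  refine Subtype.ext (inv_mul_eq_one.1 (h.D_inf hu huN hmem ?_)).symm
  have := mul_mem (inv_mem d'.2.2) d.2.2
  rwa [show (u * d'.1 * u)⁻¹ * (u * d.1 * u) = u⁻¹ * (d'.1⁻¹ * d.1) * u by group, inv_self hu] at this

theorem card_D_le {u : G} (hu : orderOf u = 2) (huN : u ∉ h.N) : Nat.card (h.D u) ≤ Nat.card h.J :=
  Nat.card_le_card_of_injective _ (h.toJ_injective hu huN)

/-- The involutions in a coset. -/
abbrev C (q : G ⧸ h.N) : Type u := {w : G // orderOf w = 2 ∧ (w : G ⧸ h.N) = q}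

/-- The product with a fixed involution of the same coset. -/
def toD {u : G} (hu : orderOf u = 2) (w : h.C (u : G ⧸ h.N)) : h.D u :=
  ⟨u * w.1, by
    have := QuotientGroup.eq.1 w.2.2
    rw [inv_self w.2.1] at this
    have h2 := inv_mem this
    rwa [mul_inv_rev, inv_self hu, inv_self w.2.1] at h2, by
    have := QuotientGroup.eq.1 w.2.2
    rw [inv_self w.2.1] at this
    rwa [show u * (u * w.1) * u = (u * u) * (w.1 * u) by group, mul_self hu, one_mul]⟩

theorem toD_injective {u : G} (hu : orderOf u = 2) : Function.Injective (h.toD hu) :=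
  fun w w' e => Subtype.ext (mul_left_cancel (congrArg Subtype.val e))

theorem card_C_le {q : G ⧸ h.N} : Nat.card (h.C q) ≤ Nat.card h.J := by
  rcases isEmpty_or_nonempty (h.C q) with he | ⟨⟨u, hu, rfl⟩⟩
  · simp
  by_cases huN : u ∈ h.N
  · refine Nat.card_le_card_of_injective (fun w => (⟨w.1, w.2.1, h.invol_mem w.2.1 ?_⟩ : h.J))
      fun w w' e => Subtype.ext (congrArg (fun t : h.J => t.1) e)
    have := mul_mem huN (inv_mem (QuotientGroup.eq.1 w.2.2))
    rw [mul_inv_rev, inv_inv, inv_self hu, ← mul_assoc, mul_self hu, one_mul] at this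
    exact this
  · exact (Nat.card_le_card_of_injective _ (h.toD_injective hu)).trans (h.card_D_le hu huN)

theorem card_invol : Nat.card (G ⧸ h.N) * Nat.card h.J = Nat.card {w : G // orderOf w = 2} := by
  classical
  rw [← Nat.card_prod]
  refine Nat.card_congr (Equiv.ofBijective (fun p => (⟨p.1.out * p.2.1 * p.1.out⁻¹,
    (order_conj _ _).trans p.2.2.1⟩ : {w : G // orderOf w = 2})) ⟨?_, ?_⟩)
  · rintro ⟨q, j⟩ ⟨q', j'⟩ e
    have e' : q.out * j.1 * q.out⁻¹ = q'.out * j'.1 * q'.out⁻¹ := congrArg Subtype.val e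
    have hN : q'.out⁻¹ * q.out ∈ h.N := P.mem_normalizer_of_meet h.z_ne j.2.2 (ne_one j.2.1) (by
      rw [show q'.out⁻¹ * q.out * j.1 * (q'.out⁻¹ * q.out)⁻¹ =
        q'.out⁻¹ * (q.out * j.1 * q.out⁻¹) * q'.out by group, e',
        show q'.out⁻¹ * (q'.out * j'.1 * q'.out⁻¹) * q'.out = j'.1 by group]
      exact j'.2.2)
    have hq : q' = q := by
      rw [← q'.out_eq', ← q.out_eq', QuotientGroup.eq]; exact hN
    subst hq
    exact Prod.ext rfl (Subtype.ext (mul_left_cancel (mul_right_cancel e')))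
  · rintro ⟨w, hw⟩
    obtain ⟨g, hg⟩ := h.cover w hw
    set q : G ⧸ h.N := (g : G ⧸ h.N) with hq
    have hn : g⁻¹ * q.out ∈ h.N := QuotientGroup.eq.1 q.out_eq'.symm
    refine ⟨(q, ⟨q.out⁻¹ * w * q.out, ?_, ?_⟩), Subtype.ext ?_⟩
    · rw [show q.out⁻¹ * w * q.out = q.out⁻¹ * w * q.out⁻¹⁻¹ by group, order_conj, hw]
    · have := P.conj_mem (inv_mem hn) hg
      rwa [show (g⁻¹ * q.out)⁻¹ * (g⁻¹ * w * g) * (g⁻¹ * q.out)⁻¹⁻¹ = q.out⁻¹ * w * q.out by group]
        at this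
    · show q.out * (q.out⁻¹ * w * q.out) * q.out⁻¹ = w
      group

/-- Every coset contains as many involutions as the member. -/
theorem card_C (q : G ⧸ h.N) : Nat.card (h.C q) = Nat.card h.J := by
  classical
  haveI : Fintype (G ⧸ h.N) := Fintype.ofFinite _
  have h1 : ∑ q : G ⧸ h.N, Nat.card (h.C q) = Nat.card {w : G // orderOf w = 2} := by
    rw [← Nat.card_sigma]
    exact Nat.card_congr ⟨fun p => ⟨p.2.1, p.2.2.1⟩, fun w => ⟨(w.1 : G ⧸ h.N), w.1, w.2, rfl⟩,
      fun ⟨q, w, hw, hwq⟩ => by subst hwq; rfl, fun _ => rfl⟩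
  have h2 : ∑ _q : G ⧸ h.N, Nat.card h.J = Nat.card {w : G // orderOf w = 2} := by
    rw [Finset.sum_const, Finset.card_univ, ← Nat.card_eq_fintype_card, smul_eq_mul, h.card_invol]
  exact (Finset.sum_eq_sum_iff_of_le fun i _ => h.card_C_le).1 (h1.trans h2.symm) q (Finset.mem_univ q)

theorem J_pos : 0 < Nat.card h.J :=
  haveI : Nonempty h.J := ⟨⟨z, h.hz, P.mem z⟩⟩
  Nat.card_pos

theorem exists_swapper (g : G) : ∃ u : G, orderOf u = 2 ∧ (u : G ⧸ h.N) = g := by
  have := h.card_C (g : G ⧸ h.N)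
  obtain ⟨⟨u, hu, hq⟩⟩ : Nonempty (h.C (g : G ⧸ h.N)) :=
    (Nat.card_pos_iff.1 (this ▸ h.J_pos)).1
  exact ⟨u, hu, hq⟩

theorem inverts {u : G} (hu : orderOf u = 2) (huN : u ∉ h.N) {d : G} (hd : d ∈ h.N)
    (hud : u * d * u ∈ h.N) : u * d * u⁻¹ = d⁻¹ := by
  have hb : Function.Surjective (h.toD hu) :=
    ((h.toD_injective hu).bijective_of_nat_card_le (by
      rw [h.card_C]; exact h.card_D_le hu huN)).2
  obtain ⟨w, hw⟩ := hb ⟨d, hd, hud⟩
  have e : u * w.1 = d := congrArg Subtype.val hw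
  rw [← e, inv_self hu, mul_inv_rev, inv_self w.2.1, inv_self hu,
    show u * (u * w.1) * u = (u * u) * (w.1 * u) by group, mul_self hu, one_mul]

theorem exists_rep {u : G} (hu : orderOf u = 2) (huN : u ∉ h.N) {y : G} (hy : y ∈ h.N) :
    ∃ d : G, d ∈ h.N ∧ u * d * u ∈ h.N ∧ y⁻¹ * d ∈ P.comp z := by
  have h1 : Nat.card h.J ≤ Nat.card (h.D u) := by
    rw [← h.card_C (u : G ⧸ h.N)]; exact Nat.card_le_card_of_injective _ (h.toD_injective hu)
  obtain ⟨d, hd⟩ := ((h.toJ_injective hu huN).bijective_of_nat_card_le h1).2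
    ⟨y * z * y⁻¹, (order_conj y z).trans h.hz, P.conj_mem hy (P.mem z)⟩
  have e : d.1 * z * d.1⁻¹ = y * z * y⁻¹ := congrArg Subtype.val hd
  refine ⟨d.1, d.2.1, d.2.2, ?_⟩
  exact h.cent.le (mem_Ct.2 (by
    calc y⁻¹ * d.1 * z = y⁻¹ * (d.1 * z * d.1⁻¹) * d.1 := by group
      _ = z * (y⁻¹ * d.1) := by rw [e]; group))

/-- Elements of the member fix no other point. -/
theorem fix_mem {a : G} (ha : a ∈ P.comp z) (ha1 : a ≠ 1) {g : G}
    (hg : a • (g : G ⧸ h.N) = g) : g ∈ h.N := by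
  by_contra hgN
  obtain ⟨u, hu, huq⟩ := h.exists_swapper g
  have huN : u ∉ h.N := fun e => hgN (by
    simpa using mul_mem e (QuotientGroup.eq.1 huq))
  rw [← huq, h.smul_base, inv_self hu] at hg
  exact ha1 (h.D_inf hu huN ha hg)

/-- An element with two fixed points is inverted by an involution exchanging them. -/
theorem exists_swap {d g g' : G} (hd : d • (g : G ⧸ h.N) = g) (hd' : d • (g' : G ⧸ h.N) = g')
    (hne : (g : G ⧸ h.N) ≠ g') :
    ∃ u : G, orderOf u = 2 ∧ u * d * u⁻¹ = d⁻¹ ∧ u • (g : G ⧸ h.N) = g' := by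
  obtain ⟨u, hu, huq⟩ := h.exists_swapper (g⁻¹ * g')
  have huN : u ∉ h.N := fun e => hne (QuotientGroup.eq.2 (by
    simpa using mul_mem e (QuotientGroup.eq.1 huq)))
  rw [h.smul_base] at hd
  have hd2 : (g⁻¹ * d * g) • (u : G ⧸ h.N) = u := by
    rw [huq, MulAction.Quotient.smul_coe, smul_eq_mul, show g⁻¹ * d * g * (g⁻¹ * g') =
      g⁻¹ * (d * g') by group, ← smul_eq_mul g⁻¹ (d * g'), ← MulAction.Quotient.smul_coe,
      ← smul_eq_mul d g', ← MulAction.Quotient.smul_coe, hd', MulAction.Quotient.smul_coe,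
      smul_eq_mul]
  rw [h.smul_base, inv_self hu] at hd2
  refine ⟨g * u * g⁻¹, (order_conj g u).trans hu, ?_, ?_⟩
  · rw [show g * u * g⁻¹ * d * (g * u * g⁻¹)⁻¹ = g * (u * (g⁻¹ * d * g) * u⁻¹) * g⁻¹ by group,
      h.inverts hu huN hd hd2]
    group
  · rw [MulAction.Quotient.smul_coe, smul_eq_mul, inv_mul_cancel_right,
      ← smul_eq_mul g u, ← MulAction.Quotient.smul_coe, huq, MulAction.Quotient.smul_coe,
      smul_eq_mul, mul_inv_cancel_left]

theorem X_ne_two {p : ℕ} (hp : p.Prime) {x y : G} (hx : x ∈ P.comp z) (hxo : orderOf x = p)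
    (hyc : Commute x y) (hy : y ∉ P.comp z) : p ≠ 2 := by
  rintro rfl
  exact hy ((P.eq h.z_ne (ne_one hxo) hx) ▸ h.allB x hxo (mem_Ct.2 hyc.eq.symm))

theorem false_of_odd_prime {p : ℕ} (hp : p.Prime) (hp2 : p ≠ 2) {x y : G} (hx : x ∈ P.comp z)
    (hxo : orderOf x = p) (hy : y ∈ h.N) (hyX : y ∉ P.comp z) (hyo : orderOf y = p)
    (hN : h.N ≠ ⊤) : False := by
  classical
  haveI : Fact p.Prime := ⟨hp⟩
  obtain ⟨g₀, hg₀⟩ : ∃ g : G, g ∉ h.N := by
    by_contra hc
    push Not at hc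
    exact hN ((Subgroup.eq_top_iff' _).2 hc)
  obtain ⟨u, hu, huq⟩ := h.exists_swapper g₀
  have huN : u ∉ h.N := fun e => hg₀ (by simpa using mul_mem e (QuotientGroup.eq.1 huq))
  obtain ⟨d, hdN, hud, hdy⟩ := h.exists_rep hu huN hy
  have hdX : d ∉ P.comp z := fun e => hyX (by
    simpa using mul_mem e (inv_mem hdy))
  have hdp : d ^ p = 1 := by
    have hx' : y * (y⁻¹ * d) * y⁻¹ ∈ P.comp z := P.conj_mem hy hdy
    have := P.coset_pow h.z_ne hy hyX hx' (hyo ▸ pow_orderOf_eq_one y)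
    rwa [show y * (y⁻¹ * d) * y⁻¹ * y = d by group] at this
  have hd1 : d ≠ 1 := fun e => hdX (e ▸ one_mem _)
  have hdo : orderOf d = p := orderOf_eq_prime hdp hd1
  -- a non-trivial element of the member commuting with `d`
  obtain ⟨b, hbX, hb1, hbd⟩ : ∃ b ∈ P.comp z, b ≠ 1 ∧ b * d = d * b := by
    have hle : Subgroup.zpowers d ≤ h.N := Subgroup.zpowers_le.2 hdN
    letI : MulAction (Subgroup.zpowers d) (P.comp z) :=
      MulAction.compHom _ ((P.comp z).normalizerMonoidHom.comp (Subgroup.inclusion hle))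
    have hP : IsPGroup p (Subgroup.zpowers d) :=
      IsPGroup.of_card (n := 1) (by rw [Nat.card_zpowers, hdo, pow_one])
    obtain ⟨b, hb, hb1⟩ := hP.exists_fixed_point_of_prime_dvd_card_of_fixed_point (P.comp z)
      (hxo ▸ Subgroup.orderOf_dvd_natCard _ hx) (a := 1)
      (fun m => map_one ((P.comp z).normalizerMonoidHom (Subgroup.inclusion hle m)))
    refine ⟨b, b.2, fun e => hb1 (Subtype.ext e).symm, ?_⟩
    have e := congrArg Subtype.val (hb ⟨d, Subgroup.mem_zpowers d⟩)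
    change d * (b : G) * d⁻¹ = b at e
    exact (mul_inv_eq_iff_eq_mul.1 e).symm
  set x₀ : G ⧸ h.N := ((1 : G) : G ⧸ h.N) with hx₀
  have hd0 : d • x₀ = x₀ := h.fix_base.2 hdN
  have hdu : d • (u : G ⧸ h.N) = u := h.smul_base.2 (by rwa [inv_self hu])
  have hu0 : u • x₀ = (u : G ⧸ h.N) := by
    rw [hx₀, MulAction.Quotient.smul_coe, smul_eq_mul, mul_one]
  have hu1 : (u : G ⧸ h.N) ≠ x₀ := fun e => huN (h.fix_base.1 (hu0.trans e))
  -- a third fixed point
  have hd3 : d • (b • (u : G ⧸ h.N)) = b • (u : G ⧸ h.N) := by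
    rw [← mul_smul, ← hbd, mul_smul, hdu]
  have hb3 : b • (u : G ⧸ h.N) ≠ x₀ := fun e => hu1
    (smul_left_cancel b (e.trans (h.fix_base.2 (h.X_le_N hbX)).symm))
  have hb4 : b • (u : G ⧸ h.N) ≠ u := fun e => huN (h.fix_mem hbX hb1 e)
  let F : Set (G ⧸ h.N) := {q | d • q = q}
  have hswap : ∀ q ∈ F, ∀ q' ∈ F, q ≠ q' →
      ∃ v : G, orderOf v = 2 ∧ v * d * v⁻¹ = d⁻¹ ∧ v • q = q' := by
    intro q hq q' hq' hne
    induction q using QuotientGroup.induction_on
    induction q' using QuotientGroup.induction_on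
    exact h.exists_swap hq hq' hne
  have hpres : ∀ c : G, c * d = d * c → ∀ q ∈ F, c • q ∈ F := fun c hc q hq => by
    show d • c • q = c • q
    rw [← mul_smul, ← hc, mul_smul, show d • q = q from hq]
  have htrans : ∀ q ∈ F, ∃ c ∈ Ct d, c • x₀ = q := by
    intro q hq
    by_cases hq0 : q = x₀
    · exact ⟨1, one_mem _, by rw [one_smul, hq0]⟩
    obtain ⟨q₃, hq₃, h30, h3q⟩ : ∃ q₃ ∈ F, q₃ ≠ x₀ ∧ q₃ ≠ q := by
      by_cases e : (u : G ⧸ h.N) = q
      · exact ⟨b • (u : G ⧸ h.N), hd3, hb3, e ▸ hb4⟩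
      · exact ⟨u, hdu, hu1, e⟩
    obtain ⟨v₁, hv₁, hi₁, he₁⟩ := hswap x₀ hd0 q₃ hq₃ (Ne.symm h30)
    obtain ⟨v₂, hv₂, hi₂, he₂⟩ := hswap q₃ hq₃ q hq h3q
    refine ⟨v₂ * v₁, mem_Ct.2 ?_, by rw [mul_smul, he₁, he₂]⟩
    have e2 : v₂ * d⁻¹ * v₂⁻¹ = d := by
      rw [inv_self hv₂] at hi₂ ⊢
      rw [← hi₂, show v₂ * (v₂ * d * v₂) * v₂ = (v₂ * v₂) * d * (v₂ * v₂) by group, mul_self hv₂,
        one_mul, mul_one]
    calc v₂ * v₁ * d = v₂ * (v₁ * d * v₁⁻¹) * v₁ := by group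
      _ = (v₂ * d⁻¹ * v₂⁻¹) * (v₂ * v₁) := by rw [hi₁]; group
      _ = d * (v₂ * v₁) := by rw [e2]
  have horb : MulAction.orbit (Ct d) x₀ = F := by
    ext q
    constructor
    · rintro ⟨c, rfl⟩
      exact hpres c (mem_Ct.1 c.2) x₀ hd0
    · intro hq
      obtain ⟨c, hc, e⟩ := htrans q hq
      exact ⟨⟨c, hc⟩, e⟩
  -- members of involutions fix one point
  have hmember : ∀ g : G, g⁻¹ * d * g ∈ P.comp z → False := by
    intro g hg
    have hne : g⁻¹ * d * g ≠ 1 := fun e => hd1 (by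
      simpa [mul_assoc] using congrArg (fun w => g * w * g⁻¹) e)
    have key : ∀ q ∈ F, q = (g : G ⧸ h.N) := by
      intro q hq
      induction q using QuotientGroup.induction_on with
      | _ w =>
        have hq' : d • (w : G ⧸ h.N) = w := hq
        have := h.fix_mem hg hne (g := g⁻¹ * w) (by
          rw [h.smul_base, show (g⁻¹ * w)⁻¹ * (g⁻¹ * d * g) * (g⁻¹ * w) = w⁻¹ * d * w by group]
          exact h.smul_base.1 hq')
        exact (QuotientGroup.eq.2 this).symm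
    exact hu1 ((key _ hdu).trans (key _ hd0).symm)
  have hodd : ¬ 2 ∣ Nat.card (Ct d) := by
    intro h2
    haveI : Fact (Nat.Prime 2) := ⟨Nat.prime_two⟩
    obtain ⟨⟨r, hr⟩, hro⟩ := exists_prime_orderOf_dvd_card' (G := Ct d) 2 h2
    rw [Subgroup.orderOf_mk] at hro
    obtain ⟨g, hg⟩ := h.cover r hro
    refine hmember g ?_
    have h1 := h.allB r hro (mem_Ct.2 (mem_Ct.1 hr).symm)
    have ho : orderOf (g⁻¹ * r * g) = 2 := by
      rw [show g⁻¹ * r * g = g⁻¹ * r * g⁻¹⁻¹ by group, order_conj, hro]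
    have h2 := P.conj g⁻¹ r (ne_one hro)
    rw [inv_inv, P.eq h.z_ne (ne_one ho) hg] at h2
    exact h2 ▸ mem_map_conj.2 (by simpa [mul_assoc] using h1)
  have hFodd : ¬ 2 ∣ Nat.card F := fun e => hodd (by
    haveI : Fintype (Ct d) := Fintype.ofFinite _
    haveI : Fintype (MulAction.orbit (Ct d) x₀) := Fintype.ofFinite _
    haveI : Fintype (MulAction.stabilizer (Ct d) x₀) := Fintype.ofFinite _
    refine e.trans ?_
    rw [← horb, Nat.card_eq_fintype_card, Nat.card_eq_fintype_card]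
    exact Dvd.intro _ (MulAction.card_orbit_mul_card_stabilizer_eq_card_group (Ct d) x₀))
  -- the involution `u` has no fixed point among them
  have hinv := h.inverts hu huN hdN hud
  have huF : ∀ q ∈ F, u • q ∈ F := by
    intro q hq
    show d • u • q = u • q
    have hd' : d⁻¹ • q = q := inv_smul_eq_iff.2 (show d • q = q from hq).symm
    have e2 : u * d⁻¹ = d * u := by
      calc u * d⁻¹ = (u * d * u⁻¹)⁻¹ * u := by group
        _ = d * u := by rw [hinv, inv_inv]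
    rw [← mul_smul, ← e2, mul_smul, hd']
  let σ : Equiv.Perm F :=
    { toFun := fun q => ⟨u • q.1, huF q q.2⟩
      invFun := fun q => ⟨u • q.1, huF q q.2⟩
      left_inv := fun q => Subtype.ext (by
        show u • u • q.1 = q.1
        rw [← mul_smul, mul_self hu, one_smul])
      right_inv := fun q => Subtype.ext (by
        show u • u • q.1 = q.1
        rw [← mul_smul, mul_self hu, one_smul]) }
  haveI : Fintype F := Fintype.ofFinite _
  have hfree : ∀ q, σ q ≠ q := by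
    rintro ⟨q, hq⟩ e
    have e' : u • q = q := congrArg Subtype.val e
    induction q using QuotientGroup.induction_on with
    | _ g =>
      have hq' : d • (g : G ⧸ h.N) = g := hq
      rw [h.smul_base] at e' hq'
      have ho : orderOf (g⁻¹ * u * g) = 2 := by
        rw [show g⁻¹ * u * g = g⁻¹ * u * g⁻¹⁻¹ by group, order_conj, hu]
      have hu' := h.invol_mem ho e'
      have hi : (g⁻¹ * u * g) * (g⁻¹ * d * g) * (g⁻¹ * u * g)⁻¹ = (g⁻¹ * d * g)⁻¹ := by
        rw [show (g⁻¹ * u * g) * (g⁻¹ * d * g) * (g⁻¹ * u * g)⁻¹ = g⁻¹ * (u * d * u⁻¹) * g by group,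
          hinv]
        group
      have h2 : (g⁻¹ * d * g) ^ 2 ∈ P.comp z := by
        have := inv_mem (mul_mem hu' (P.conj_mem hq' (inv_mem hu')))
        rwa [show g⁻¹ * u * g * (g⁻¹ * d * g * (g⁻¹ * u * g)⁻¹ * (g⁻¹ * d * g)⁻¹) =
          (g⁻¹ * u * g) * (g⁻¹ * d * g) * (g⁻¹ * u * g)⁻¹ * (g⁻¹ * d * g)⁻¹ by group, hi,
          ← mul_inv_rev, inv_inv, ← sq] at this
      refine hmember g (P.mem_of_pow_mem h.z_ne (fun e2 => ?_) h2)
      have := orderOf_dvd_of_pow_eq_one e2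
      rw [show g⁻¹ * d * g = g⁻¹ * d * g⁻¹⁻¹ by group, order_conj, hdo] at this
      exact hp2 ((Nat.prime_dvd_prime_iff_eq hp Nat.prime_two).1 this)
  apply hFodd
  rw [Nat.card_eq_fintype_card]
  have hσ : σ ^ 2 = 1 := by
    ext q
    show ((σ (σ q)) : G ⧸ h.N) = q
    show u • u • (q : G ⧸ h.N) = q
    rw [← mul_smul, mul_self hu, one_smul]
  by_contra hno
  obtain ⟨q, hq⟩ := Equiv.Perm.exists_fixed_point_of_prime (p := 2) (n := 1) hno (by
    rw [pow_one]; exact hσ)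
  exact hfree q hq

theorem tiHyp [IsSimpleGroup G] : TIHyp (P.comp z) := by
  have hN : h.N ≠ ⊤ := fun e => by
    haveI : (P.comp z).Normal := Subgroup.normalizer_eq_top_iff.1 e
    rcases Subgroup.Normal.eq_bot_or_eq_top (H := P.comp z) inferInstance with e' | e'
    · exact h.z_ne (Subgroup.mem_bot.1 (e' ▸ P.mem z))
    · exact P.ne_top z h.z_ne e'
  have hcent : ∀ x ∈ P.comp z, x ≠ 1 → Subgroup.centralizer ({x} : Set G) ≤ P.comp z := by
    intro x hx hx1 y hy
    by_contra hyX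
    have hc : Commute x y := (Subgroup.mem_centralizer_singleton_iff.1 hy).symm
    have hy1 : y ≠ 1 := fun e => hyX (e ▸ one_mem _)
    obtain ⟨ho, hp⟩ := P.prime_of_commute hx1 hy1 hc ((P.eq h.z_ne hx1 hx).symm ▸ hyX)
    exact h.false_of_odd_prime hp (h.X_ne_two hp hx rfl hc hyX) hx rfl
      (P.mem_normalizer_of_commute h.z_ne hx hx1 hc.symm) hyX ho.symm hN
  refine ⟨⟨h.nil, fun e => h.z_ne (Subgroup.mem_bot.1 (e ▸ P.mem z)), fun t ht htd => ?_, hcent⟩,
    h.hz ▸ Subgroup.orderOf_dvd_natCard _ (P.mem z), hN⟩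
  intro _
  obtain ⟨⟨x, hx⟩, hxo⟩ := exists_prime_orderOf_dvd_card' (G := P.comp z) t htd
  rw [Subgroup.orderOf_mk] at hxo
  have hx1 : x ≠ 1 := fun e => by rw [e, orderOf_one] at hxo; exact ht.ne_one hxo.symm
  obtain ⟨T, hT⟩ := (IsPGroup.of_card (n := 1) (by rw [Nat.card_zpowers, hxo, pow_one]) :
    IsPGroup t (Subgroup.zpowers x)).exists_le_sylow
  have hxT := hT (Subgroup.mem_zpowers x)
  haveI : Nontrivial (T : Subgroup G) :=
    ⟨⟨x, hxT⟩, 1, fun e => hx1 (congrArg Subtype.val e)⟩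
  haveI := T.isPGroup'.center_nontrivial
  obtain ⟨⟨w, hw⟩, hw1⟩ := exists_ne (1 : Subgroup.center (T : Subgroup G))
  have hw1' : (w : G) ≠ 1 := fun e => hw1 (Subtype.ext (Subtype.ext e))
  have hwT : ∀ a ∈ T, a * (w : G) = w * a := fun a ha =>
    congrArg Subtype.val (Subgroup.mem_center_iff.1 hw ⟨a, ha⟩)
  have hwX : (w : G) ∈ P.comp z :=
    hcent x hx hx1 (Subgroup.mem_centralizer_singleton_iff.2 (hwT x hxT).symm)
  exact ⟨T, fun a ha => hcent _ hwX hw1' (Subgroup.mem_centralizer_singleton_iff.2 (hwT a ha))⟩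

end BCase

/-- Simple groups with a partition with nilpotent members. -/
theorem simple [IsSimpleGroup G] (hna : ∃ a b : G, a * b ≠ b * a)
    (hnil : ∀ g : G, g ≠ 1 → Group.IsNilpotent (P.comp g)) :
    (∃ (F : Type) (_ : Field F) (_ : Fintype F),
      Nonempty (G ≃* Matrix.ProjectiveSpecialLinearGroup (Fin 2) F)) ∨ ∃ K : Subgroup G, TIHyp K := by
  haveI : Fact (Nat.Prime 2) := ⟨Nat.prime_two⟩
  by_cases hD : ∃ t, P.DType t
  · obtain ⟨t, ht⟩ := hD
    exact Or.inl (P.psl_of_dtype hna ht)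
  push Not at hD
  by_cases hS : ∀ t : G, orderOf t = 2 → Sq t
  · exact Or.inl (Part.psl_of_sq hna hS)
  push Not at hS
  obtain ⟨v, hv, hvs⟩ := hS
  have hB : ∀ t : G, orderOf t = 2 → ¬ Sq t → Ct t ≤ P.comp t := fun t ht hs y hy => by
    by_contra hyX
    exact hs (P.sq_of_out ht ⟨y, hy, hyX⟩ (hD t))
  obtain ⟨c, hc, hc2⟩ : ∃ c ∈ Ct v, c * c ≠ 1 := by
    by_contra hcon
    push Not at hcon
    exact hvs hcon
  obtain ⟨S, hvS, -⟩ := exists_sylow_pair hv hv rfl
  obtain ⟨z, hzS, hz, hSz⟩ := exists_central_invol hna S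
  have hzv : z ∈ P.comp v := hB v hv hvs (mem_Ct.2 (mem_Ct.1 (hSz hvS)).symm)
  have hX : P.comp z = P.comp v := P.eq (ne_one hv) (ne_one hz) hzv
  have hcX : c ∈ P.comp z := hX ▸ hB v hv hvs hc
  -- all involutions of the member are of this type
  have hallX : ∀ u : G, orderOf u = 2 → u ∈ P.comp z → Ct u ≤ P.comp u := by
    intro u hu huX y hy
    by_contra hyX
    have hs := P.sq_of_out hu ⟨y, hy, hyX⟩ (hD u)
    exact hc2 (hs c (P.comp_le_Ct hu hy hyX (P.eq (ne_one hz) (ne_one hu) huX ▸ hcX)))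
  have hSX : (S : Subgroup G) ≤ P.comp z := hSz.trans (hallX z hz (P.mem z))
  have hnilX := hnil z (ne_one hz)
  have hle : P.comp z ≤ Ct z := fun x hx => CN.mem_of_primePow _ x fun r w hr hw hwo => by
    have hwX : w ∈ P.comp z := (Subgroup.zpowers_le.2 hx) hw
    by_cases hr2 : r = 2
    · subst hr2
      exact hSz (CN.mem_sylow_of_mem hnilX S hSX hwX hwo)
    · obtain ⟨k, hk⟩ := hwo
      refine mem_Ct.2 (CN.commute_of_coprime hnilX hwX (P.mem z) ?_).eq
      rw [hk, hz]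
      exact Nat.Coprime.pow_left _ ((Nat.coprime_primes hr Nat.prime_two).2 hr2)
  have hcover : ∀ u : G, orderOf u = 2 → ∃ g : G, g⁻¹ * u * g ∈ P.comp z := fun u hu => by
    obtain ⟨g, hg⟩ := exists_conj_mem_sylow hu S
    exact ⟨g, hSX hg⟩
  have hall : ∀ u : G, orderOf u = 2 → Ct u ≤ P.comp u := by
    intro u hu
    intro a ha
    obtain ⟨g, hg⟩ := hcover u hu
    have ho : orderOf (g⁻¹ * u * g) = 2 := by
      rw [show g⁻¹ * u * g = g⁻¹ * u * g⁻¹⁻¹ by group, order_conj, hu]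
    rw [show u = g * (g⁻¹ * u * g) * g⁻¹ by group, P.conj g _ (ne_one ho), mem_map_conj]
    refine hallX _ ho hg (mem_Ct.2 ?_)
    rw [mem_Ct] at ha
    calc g⁻¹ * a * g * (g⁻¹ * u * g) = g⁻¹ * (a * u) * g := by group
      _ = g⁻¹ * u * g * (g⁻¹ * a * g) := by rw [ha]; group
  exact Or.inr ⟨P.comp z, BCase.tiHyp ⟨hz, le_antisymm (hallX z hz (P.mem z)) hle, hcover, hall, hnilX⟩⟩

end Part

end Cfsg.Agent.Partition
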