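import Cfsg.Agent.Lib.Partition.Abelian
import Cfsg.Agent.Lib.Char.Burnside

/-!
# The socle of a group with a partition and no soluble normal subgroup
-/

set_option autoImplicit false
set_option linter.style.haveILetI false
set_option linter.unusedSectionVars false

namespace Cfsg.Agent.Partition

universe u

variable {G : Type u} [Group G] [Finite G]

/-- No non-trivial soluble normal subgroup. -/
def NoSol (G : Type u) [Group G] : Prop :=
  ∀ L : Subgroup G, L.Normal → Group.IsSolvable L → L = ⊥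

/-- An insoluble group has an element of prime order avoiding two given primes. -/
theorem exists_third {M : Subgroup G} (hM : ¬ Group.IsSolvable M) {p q : ℕ} (hp : p.Prime) (hq : q.Prime) :
    ∃ y ∈ M, (orderOf y).Prime ∧ orderOf y ≠ p ∧ orderOf y ≠ q := by
  by_contra hcon
  push Not at hcon
  have hsub : ∀ r : ℕ, r.Prime → r ∣ Nat.card M → r = p ∨ r = q := by
    intro r hr hd
    haveI := Fact.mk hr
    obtain ⟨y, hy⟩ := exists_prime_orderOf_dvd_card' (G := M) r hd
    by_contra hc
    push Not at hc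
    exact hc.2 (hy ▸ (Subgroup.orderOf_coe y).symm ▸ hcon y y.2 (by rw [Subgroup.orderOf_coe, hy]; exact hr)
      (by rw [Subgroup.orderOf_coe, hy]; exact hc.1))
  obtain ⟨a, m, hm, hn⟩ : ∃ a m, ¬ p ∣ m ∧ Nat.card M = p ^ a * m :=
    ⟨_, _, Nat.not_dvd_ordCompl hp Nat.card_pos.ne', (Nat.ordProj_mul_ordCompl_eq_self _ _).symm⟩
  have hm2 : ∃ b, m = q ^ b := by
    refine ⟨_, Nat.eq_prime_pow_of_unique_prime_dvd (fun e => ?_) fun {d} hd hdm => ?_⟩
    · rw [e, mul_zero] at hn
      exact Nat.card_pos.ne' hn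
    · exact (hsub d hd (hn ▸ hdm.mul_left _)).resolve_left fun e => hm (e ▸ hdm)
  obtain ⟨b, hb⟩ := hm2
  by_cases hpq : p = q
  · subst hpq
    haveI := Fact.mk hp
    haveI := (IsPGroup.of_card (p := p) (n := a + b) (by rw [hn, hb, pow_add]) : IsPGroup p M).isNilpotent
    exact hM inferInstance
  · exact hM (Char.isSolvable_of_card_pq p q hp hq _ M rfl ⟨a, b, by rw [hn, hb]⟩)

namespace Part

variable (P : Part G) (hG : NoSol G)
include hG

theorem not_le_comp (hnil : ∀ g : G, g ≠ 1 → Group.IsNilpotent (P.comp g)) {M : Subgroup G}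
    [M.Normal] (hM : M ≠ ⊥) {g : G} (hg : g ≠ 1) : ¬ M ≤ P.comp g := fun hle => by
  haveI := hnil g hg
  haveI : Group.IsSolvable M := Group.isSolvable_of_isSolvable_injective
    (f := Subgroup.inclusion hle) (Subgroup.inclusion_injective hle)
  exact hM (hG M inferInstance inferInstance)

theorem centralizer_eq_bot (hnil : ∀ g : G, g ≠ 1 → Group.IsNilpotent (P.comp g)) {M : Subgroup G}
    [M.Normal] (hM : M ≠ ⊥) : Subgroup.centralizer (M : Set G) = ⊥ := by
  by_contra hC
  set C := Subgroup.centralizer (M : Set G) with hCdef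
  have hMs : ¬ Group.IsSolvable M := fun h => hM (hG M inferInstance h)
  have hCs : ¬ Group.IsSolvable C := fun h => hC (hG C inferInstance h)
  have hdisj : M ⊓ C = ⊥ := hG _ inferInstance (Group.isSolvable_of_comm fun a b => Subtype.ext
    (Subgroup.mem_centralizer_iff.1 b.2.2 a a.2.1))
  have hlink : ∀ z ∈ M, ∀ y ∈ C, z ≠ 1 → y ≠ 1 → orderOf z ≠ orderOf y → P.comp z = P.comp y := by
    intro z hz y hy hz1 hy1 hne
    exact (P.eq hz1 hy1 (P.mem_of_commute hz1 (Subgroup.mem_centralizer_iff.1 hy z hz) hne)).symm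
  obtain ⟨z₀, hz₀, hz₀p, -, -⟩ := exists_third hMs Nat.prime_two Nat.prime_two
  have hz₀1 : z₀ ≠ 1 := fun e => by rw [e, orderOf_one] at hz₀p; exact Nat.not_prime_one hz₀p
  have hall : ∀ z ∈ M, (orderOf z).Prime → z ∈ P.comp z₀ := by
    intro z hz hzp
    obtain ⟨y, hy, hyp, h1, h2⟩ := exists_third hCs hz₀p hzp
    have hy1 : y ≠ 1 := fun e => by rw [e, orderOf_one] at hyp; exact Nat.not_prime_one hyp
    have hz1 : z ≠ 1 := fun e => by rw [e, orderOf_one] at hzp; exact Nat.not_prime_one hzp
    rw [hlink z₀ hz₀ y hy hz₀1 hy1 (Ne.symm h1), ← hlink z hz y hy hz1 hy1 (Ne.symm h2)]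
    exact P.mem z
  refine P.not_le_comp hG hnil hM hz₀1 fun z hz => ?_
  by_cases hz1 : z = 1
  · subst hz1; exact one_mem _
  obtain ⟨r, hr, hrd⟩ := Nat.exists_prime_and_dvd (fun e => hz1 (orderOf_eq_one_iff.1 e))
  have ho : orderOf (z ^ (orderOf z / r)) = r := orderOf_pow_orderOf_div (orderOf_pos z).ne' hrd
  have hne : z ^ (orderOf z / r) ≠ 1 := fun e => hr.ne_one (by rw [← ho, e, orderOf_one])
  exact P.mem_of_pow_mem hz₀1 hne (hall _ (pow_mem hz _) (ho.symm ▸ hr))

end Part

/-- The socle is simple, with trivial centraliser, and carries a partition with nilpotent members. -/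
theorem exists_socle (P : Part G) (hG : NoSol G)
    (hnil : ∀ g : G, g ≠ 1 → Group.IsNilpotent (P.comp g)) [Nontrivial G] :
    ∃ M : Subgroup G, M.Normal ∧ IsSimpleGroup M ∧ (∃ a b : M, a * b ≠ b * a) ∧
      Subgroup.centralizer (M : Set G) = ⊥ ∧ ∀ g : G, g ≠ 1 → ¬ M ≤ P.comp g := by
  obtain ⟨M, hMn, hM1, -, hmin⟩ := LEWielandt.exists_minimal_normal (G := G) (N := ⊤) inferInstance top_ne_bot
  haveI := hMn
  have hsp : ∀ g : G, g ≠ 1 → ¬ M ≤ P.comp g := fun g hg => P.not_le_comp hG hnil hM1 hg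
  have hC := P.centralizer_eq_bot hG hnil hM1
  refine ⟨M, hMn, ?_, ?_, hC, hsp⟩
  swap
  · by_contra hcon
    push Not at hcon
    exact hM1 (hG M hMn (Group.isSolvable_of_comm hcon))
  haveI : Nontrivial M := (Subgroup.nontrivial_iff_ne_bot M).2 hM1
  let Q := P.restrict M hsp
  have hQG : NoSol M := by
    intro L hL hLs
    by_contra hL1
    haveI := hL
    -- the join of the conjugates of `L` is soluble
    let R : Subgroup M := Cfsg.Agent.Components.solvRadical M
    haveI : R.Characteristic := Cfsg.Agent.Components.solvRadical_characteristic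
    have hRs : Group.IsSolvable R := Cfsg.Agent.Components.solvRadical_solvable
    have hn : (R.map M.subtype).Normal := inferInstance
    haveI := hRs
    have h1 := hG _ hn (Group.isSolvable_of_surjective (f := M.subtype.subgroupMap R)
      (M.subtype.subgroupMap_surjective R))
    rw [Subgroup.map_eq_bot_iff_of_injective _ M.subtype_injective] at h1
    exact hL1 (le_bot_iff.1 ((Cfsg.Agent.Components.le_solvRadical hL hLs).trans h1.le))
  have hQnil : ∀ g : M, g ≠ 1 → Group.IsNilpotent (Q.comp g) := fun g hg => by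
    haveI := hnil g (fun e => hg (Subtype.ext e))
    show Group.IsNilpotent ((P.comp (g : G)).subgroupOf M)
    haveI : Group.IsNilpotent (((P.comp (g : G)).subgroupOf M).map M.subtype) :=
      Group.nilpotent_of_mulEquiv (Subgroup.subgroupOfEquivOfLe
        (show ((P.comp (g : G)).subgroupOf M).map M.subtype ≤ P.comp g by
          rintro _ ⟨x, hx, rfl⟩; exact hx))
    exact Group.nilpotent_of_mulEquiv
      (((P.comp (g : G)).subgroupOf M).equivMapOfInjective M.subtype M.subtype_injective).symm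
  refine ⟨fun K hK => ?_⟩
  by_cases hK1 : K = ⊥
  · exact Or.inl hK1
  haveI := hK
  obtain ⟨T, hTn, hT1, hTK, hTmin⟩ := LEWielandt.exists_minimal_normal (G := M) (N := K) hK hK1
  haveI := hTn
  refine Or.inr (top_le_iff.1 (le_trans ?_ hTK))
  have hCT := Q.centralizer_eq_bot hQG hQnil hT1
  -- the conjugates of `T` coincide
  have hconj : ∀ a : G, ∀ x ∈ T.map M.subtype, a * x * a⁻¹ ∈ T.map M.subtype := by
    intro a x hx
    let T' : Subgroup M := T.map (MulAut.conjNormal (H := M) a).toMonoidHom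
    haveI : T'.Normal := hTn.map _ (MulEquiv.surjective _)
    by_cases hd : T ⊓ T' = ⊥
    · exfalso
      refine hT1 ?_
      have h2 : T' ≤ Subgroup.centralizer (T : Set M) := fun y hy =>
        Subgroup.mem_centralizer_iff.2 fun z hz =>
          (Subgroup.commute_of_normal_of_disjoint _ _ hTn inferInstance (disjoint_iff.2 hd) z y hz hy)
      rw [hCT, le_bot_iff, Subgroup.map_eq_bot_iff_of_injective _ (MulEquiv.injective _)] at h2
      exact h2
    have h2 : T ≤ T' := inf_eq_left.1 ((hTmin (T ⊓ T') inferInstance inf_le_left).resolve_left hd)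
    have h3 : T' = T := (Subgroup.eq_of_le_of_card_ge h2 (le_of_eq
      (Subgroup.card_map_of_injective (MulEquiv.injective _)))).symm
    obtain ⟨y, hy, rfl⟩ := hx
    exact ⟨MulAut.conjNormal (H := M) a y, h3.le ⟨y, hy, rfl⟩, MulAut.conjNormal_apply a y⟩
  haveI : (T.map M.subtype).Normal := ⟨fun x hx a => hconj a x hx⟩
  have h4 := (hmin _ inferInstance (Subgroup.map_subtype_le T)).resolve_left fun e => hT1
    ((Subgroup.map_eq_bot_iff_of_injective _ M.subtype_injective).1 e)
  intro y _
  obtain ⟨z, hz, hzy⟩ := h4.ge y.2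
  rwa [← Subtype.ext hzy]

end Cfsg.Agent.Partition
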